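import Mathlib
import Cfsg.Agent.FGS.Basic2
import Cfsg.Agent.FGS.Sylow
import Cfsg.Agent.Transfer.Frobenius
import Cfsg.Agent.H2.Subnormal
import Cfsg.Agent.Core.Hall
import Cfsg.Agent.Core.SylowOf
import Cfsg.Prelude.Def_HallClasses

/-! Sylow type theorems for sets of primes (Wielandt's argument). -/

set_option autoImplicit false

namespace Cfsg.Agent.FGS

open Subgroup Cfsg Cfsg.Agent
open scoped Pointwise

variable {G : Type*} [Group G] [Finite G]

/-- Every `π`-subgroup is conjugate into `T`. -/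
def Cov (π : Set ℕ) (T : Subgroup G) : Prop :=
  ∀ K : Subgroup G, IsPiSubgroup π K → ∃ g : G, MulAut.conj g • K ≤ T

theorem commute_of_nilpotent {H : Subgroup G} (hH : Group.IsNilpotent H) {p k : ℕ} [Fact p.Prime]
    {x y : G} (hx : x ∈ H) (hy : y ∈ H) (h1 : orderOf x = p ^ k) (h2 : (orderOf y).Coprime p) :
    x * y = y * x := by
  obtain ⟨P, hP⟩ := exists_sylow_mem (x := (⟨x, hx⟩ : H)) (p := p) (k := k) (by rw [← h1, orderOf_mk])
  have := Transfer.mem_centralizer_of_hasNormalPComplement Transfer.hasNormalPComplement_of_isNilpotent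
    P.isPGroup' (g := ⟨y, hy⟩) ((normalizer_eq_top _).ge (mem_top _)) (by rwa [orderOf_mk])
  exact congrArg Subtype.val (this _ hP)

omit [Finite G] in
theorem IsPiSubgroup.conj {π : Set ℕ} {K : Subgroup G} (h : IsPiSubgroup π K) (g : G) :
    IsPiSubgroup π (MulAut.conj g • K) := fun p hp hd => h p hp (by rwa [card_conj] at hd)

omit [Finite G] in
theorem index_centralizer_dvd {U T C : Subgroup G} {g : G} (h : MulAut.conj g • U ≤ T)
    (hc : C ≤ centralizer (T : Set G)) : (centralizer (U : Set G)).index ∣ C.index := by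
  rw [← index_conj C g⁻¹]
  refine index_dvd_of_le fun x hx y hy => ?_
  have := hc (mem_conj_iff.mp hx) _ (h (H2.conj_mem_conj_smul g hy))
  rw [inv_inv] at this
  calc y * x = g⁻¹ * (g * y * g⁻¹ * (g * x * g⁻¹)) * g := by group
    _ = x * y := by rw [this]; group

theorem Cov.step {τ : Set ℕ} {T : Subgroup G} {p : ℕ} [hp : Fact p.Prime] (P : Sylow p G)
    (hc : T ≤ centralizer ((P : Subgroup G) : Set G)) (hT : ∀ q : ℕ, q.Prime → q ∈ τ → ¬ q ∣ T.index)
    (h : Cov τ T) : Cov (insert p τ) (P ⊔ T) := by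
  intro K hK
  have hn : HasNormalPComplement p K := by
    obtain ⟨R⟩ : Nonempty (Sylow p K) := inferInstance
    refine Transfer.hasNormalPComplement_of_forall_le_sylow R ?_
    rintro Q hQ - q hq hqp hqK g hg ⟨k, hk⟩
    haveI := Fact.mk hq
    obtain ⟨x, hx⟩ := (Core.isSylowOf_top P).exists_conj_le ((R.isPGroup'.to_le hQ).map K.subtype) le_top
    have := le_of_isPGroup_of_le_normalizer (isPGroup_zpowers (x := (g : G)) (by rw [← hk, orderOf_coe]))
      (C := centralizer (Q.map K.subtype : Set G)) (Core.le_normalizer_centralizer (zpowers_le.mpr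
        (Core.map_le_normalizer_map le_rfl K.subtype (mem_map_of_mem _ hg))))
      (fun hd => hT q hq ((hK q hq hqK).resolve_left hqp) (hd.trans (index_centralizer_dvd hx.2 hc)))
      (mem_zpowers _)
    exact fun y hy => Subtype.ext (this y (mem_map_of_mem _ hy))
  obtain ⟨R⟩ : Nonempty (Sylow p K) := inferInstance
  obtain ⟨U, hU, hUR⟩ := (Transfer.hasNormalPComplement_iff_sylow R).mp hn
  have hUp : ¬ p ∣ Nat.card U := by rw [← hUR.index_eq_card]; exact R.not_dvd_index
  obtain ⟨g, hg⟩ := h (U.map K.subtype) fun q hq hd => by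
    rw [Core.card_map_subtype] at hd
    exact (hK q hq (hd.trans (card_subgroup_dvd_card U))).resolve_left fun h => hUp (h ▸ hd)
  set V := MulAut.conj g • U.map K.subtype with hV
  set S := MulAut.conj g • (R : Subgroup K).map K.subtype with hS
  have hSp : IsPGroup p S := (R.isPGroup'.map K.subtype).map _
  have hPV : (P : Subgroup G) ≤ centralizer (V : Set G) := le_centralizer_iff.mp (hg.trans hc)
  have hSV : S ≤ centralizer (V : Set G) := by
    refine le_of_isPGroup_of_le_normalizer hSp (Core.le_normalizer_centralizer ?_)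
      (not_dvd_index_of_sylow_le P hPV)
    rw [hV, H2.normalizer_conj_smul]
    exact H2.conj_smul_mono g ((map_subtype_le _).trans (Core.le_normalizer_map_subtype_of_normal K U))
  obtain ⟨c, hc1, hc2⟩ := (Core.isSylowOf_sylow_of_le P hPV).exists_conj_le hSp hSV
  refine ⟨c * g, ?_⟩
  have hK' : K = U.map K.subtype ⊔ (R : Subgroup K).map K.subtype := by
    rw [← Subgroup.map_sup, hUR.sup_eq_top, ← MonoidHom.range_eq_map, range_subtype]
  rw [← H2.conj_smul_conj_smul, hK', Subgroup.smul_sup, Subgroup.smul_sup, ← hV, ← hS, sup_comm]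
  refine sup_le_sup hc2 (le_trans (H2.mem_normalizer_iff_conj_smul.mp (centralizer_le_normalizer _ hc1)).le hg)

omit [Finite G] in
theorem Cov.isDPiGroup {π : Set ℕ} {T : Subgroup G} (h : Cov π T) (hT : IsPiSubgroup π T) :
    IsDPiGroup π G := by
  have key : ∀ K : Subgroup G, Maximal (IsPiSubgroup π) K → ∃ g : G, MulAut.conj g⁻¹ • T = K := by
    intro K hK
    obtain ⟨g, hg⟩ := h K hK.1
    have h1 : K ≤ MulAut.conj g⁻¹ • T := by
      have := H2.conj_smul_mono g⁻¹ hg
      rwa [H2.conj_smul_conj_smul, inv_mul_cancel, map_one, one_smul] at this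
    exact ⟨g, le_antisymm (hK.2 (IsPiSubgroup.conj hT _) h1) h1⟩
  intro H K hH hK
  obtain ⟨g, rfl⟩ := key H hH
  obtain ⟨k, rfl⟩ := key K hK
  exact ⟨k⁻¹ * g, by rw [← H2.conj_smul_eq_map, H2.conj_smul_conj_smul, mul_inv_cancel_right]⟩

theorem cov_of_isDPiGroup {π : Set ℕ} {T : Subgroup G} (h : IsDPiGroup π G) (hT : IsPiHall π T) :
    Cov π T := fun K hK => by
  obtain ⟨M, h1, h2⟩ := exists_maximal_ge_of_wellFoundedGT (IsPiSubgroup π) K hK
  obtain ⟨g, hg⟩ := h M T h2 ⟨hT.1, fun L hL hle => (Core.IsPiHall.eq_of_le hT hL hle).ge⟩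
  exact ⟨g, hg ▸ H2.conj_smul_mono g h1⟩

end Cfsg.Agent.FGS
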