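import Mathlib
import Cfsg.Agent.FGS.SylowNum
import Cfsg.Agent.Transfer.ThompsonJ
import Cfsg.Agent.Transfer.Frobenius
import Cfsg.Agent.S0108

/-!
# FGS/Thompson: a convenient form of Thompson's normal complement theorem
-/

set_option autoImplicit false

open Subgroup

namespace Cfsg.Agent.FGS

variable {G : Type*} [Group G] {p : ℕ}

theorem inf_centralizer_ne_bot_of_nilpotent {P : Subgroup G} (hP : Group.IsNilpotent P)
    (hne : P ≠ ⊥) : P ⊓ centralizer (P : Set G) ≠ ⊥ := by
  have : Nontrivial P := (nontrivial_iff_ne_bot P).mpr hne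
  obtain ⟨⟨z, hz⟩, hz1⟩ := ne_bot_iff_exists_ne_one.mp (Group.IsNilpotent.center_ne_bot (G := P))
  refine ne_bot_iff_exists_ne_one.mpr ⟨⟨z, z.2, mem_centralizer_iff.mpr fun y hy => ?_⟩,
    fun h => ?_⟩
  · exact congrArg Subtype.val (mem_center_iff.mp hz ⟨y, hy⟩)
  · have h1 : (z : G) = 1 := congrArg Subtype.val h
    exact hz1 (Subtype.ext (Subtype.ext h1))

/-- Thompson: for odd `p`, if the normalisers of the nontrivial `N(P)`-invariant subgroups of the
Sylow subgroup `P` have normal `p`-complements then so has `G`. -/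
theorem hasNormalPComplement_of_normalizers [Finite G] [Fact p.Prime] (hp : p ≠ 2) (P : Sylow p G)
    (h : ∀ X : Subgroup G, X ≠ ⊥ → X ≤ P →
      normalizer ((P : Subgroup G) : Set G) ≤ normalizer (X : Set G) →
      HasNormalPComplement p (normalizer (X : Set G))) : HasNormalPComplement p G := by
  by_cases hP : (P : Subgroup G) = ⊥
  · exact Transfer.hasNormalPComplement_of_not_dvd fun hd => P.ne_bot_of_dvd_card hd hP
  refine (S0108.result hp P).mpr ⟨h _
    (Transfer.thompsonSubgroupOf_ne_bot_of_isPGroup P.isPGroup' hP)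
    (Transfer.thompsonSubgroupOf_le _) (Transfer.normalizer_le_normalizer_thompsonSubgroupOf _), ?_⟩
  exact Transfer.hasNormalPComplement_of_le (centralizer_le_normalizer _)
    (h ((P : Subgroup G) ⊓ centralizer ((P : Subgroup G) : Set G))
      (inf_centralizer_ne_bot_of_nilpotent P.isPGroup'.isNilpotent hP) inf_le_left
      (Core.le_normalizer_inf le_rfl (Core.normalizer_le_normalizer_centralizer _)))

/-- In a nilpotent subgroup `M` a Sylow subgroup is normalised by `N(M)`. -/
theorem normalizer_le_normalizer_of_isSylowOf_nilpotent [Finite G] [Fact p.Prime] {P M : Subgroup G}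
    (hM : Group.IsNilpotent M) (h : Core.IsSylowOf p P M) :
    normalizer (M : Set G) ≤ normalizer (P : Set G) := by
  rw [← h.map_toSylow]
  have := h.toSylow.characteristic_of_normal inferInstance
  exact Core.normalizer_le_normalizer_map_subtype M _

end Cfsg.Agent.FGS
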