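import Mathlib
import Cfsg.Agent.FGS.Basic2
import Cfsg.Agent.FGS.Thompson
import Cfsg.Agent.Core.Fitting

/-!
# FGS/Kegel: a normal subgroup of prime index `p` outside which all elements have order `p` is
nilpotent (Hughes-Thompson, Kegel)
-/

set_option autoImplicit false

open Subgroup

namespace Cfsg.Agent.FGS

universe u

variable {G : Type*} [Group G]

theorem mul_pow_mul_inv_pow_mem {Q : Subgroup G} {a : G} (ha : a ∈ normalizer (Q : Set G)) {y : G}
    (hy : y ∈ Q) (i : ℕ) : (y * a) ^ i * (a ^ i)⁻¹ ∈ Q := by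
  induction i with
  | zero => simp
  | succ i ih =>
    have : (y * a) ^ (i + 1) * (a ^ (i + 1))⁻¹ = y * (a * ((y * a) ^ i * (a ^ i)⁻¹) * a⁻¹) := by
      rw [pow_succ', pow_succ']; group
    rw [this]
    exact mul_mem hy (Core.conj_mem_of_le_normalizer le_rfl ha ih)

theorem bijective_mul_pow [Finite G] {Q : Subgroup G} {a : G} (ha : a ∈ normalizer (Q : Set G))
    {p i : ℕ} (h : ∀ y ∈ Q, (y * a) ^ p = 1) (hi : i.Coprime p) :
    Function.Bijective (fun y : Q => (⟨_, mul_pow_mul_inv_pow_mem ha y.2 i⟩ : Q)) := by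
  refine Finite.injective_iff_bijective.mp fun y z e => ?_
  have h1 : (y * a) ^ i = (z * a) ^ i := mul_right_cancel (congrArg Subtype.val e)
  obtain ⟨u, v, huv⟩ : IsCoprime (i : ℤ) p := Nat.isCoprime_iff_coprime.mpr hi
  have h2 : ∀ w : G, w ^ p = 1 → w = (w ^ i) ^ u := fun w hw => by
    conv_lhs => rw [← zpow_one w, ← huv, zpow_add, mul_comm v, zpow_mul w p, zpow_natCast, hw,
      one_zpow, mul_one, mul_comm u, zpow_mul, zpow_natCast]
  refine Subtype.ext (mul_right_cancel (b := a) ?_)
  rw [h2 _ (h y y.2), h2 _ (h z z.2), h1]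

open scoped IsMulCommutative in
theorem mul_pow_eq_prod {V : Subgroup G} [V.Normal] [IsMulCommutative V] (v : V) (g : G) (n : ℕ) :
    (v * g) ^ n = (∏ i ∈ Finset.range n, MulAut.conjNormal (g ^ i) v : V) * g ^ n := by
  induction n with
  | zero => simp
  | succ n ih =>
    rw [pow_succ, ih, Finset.prod_range_succ, coe_mul, MulAut.conjNormal_apply, pow_succ]
    group

open scoped IsMulCommutative in
/-- The partition argument. -/
theorem pow_card_eq_one_of_coset [Finite G] {V Q : Subgroup G} [V.Normal] [IsMulCommutative V]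
    {a : G} (ha : a ∈ normalizer (Q : Set G)) {p : ℕ} (hp : p.Prime)
    (h : ∀ v ∈ V, ∀ y ∈ Q, (v * (y * a)) ^ p = 1) (hC : V ⊓ centralizer (Q : Set G) = ⊥) (v : V) :
    v ^ Nat.card Q = 1 := by
  classical
  have := Fintype.ofFinite Q
  have h0 : ∀ y ∈ Q, (y * a) ^ p = 1 := fun y hy => by simpa using h 1 (one_mem _) y hy
  have h1 : ∀ y : Q, ∏ i ∈ Finset.range p, MulAut.conjNormal ((y * a) ^ i) v = 1 := fun y => by
    have := mul_pow_eq_prod v (y * a) p
    rw [h v v.2 y y.2, h0 y y.2, mul_one] at this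
    exact Subtype.ext this.symm
  have h2 : ∀ w : V, ∏ y : Q, MulAut.conjNormal (y : G) w = 1 := fun w => by
    refine Subtype.ext (mem_bot.mp (hC ▸ mem_inf.mpr ⟨Subtype.prop _, mem_centralizer_iff.mpr
      fun z hz => ?_⟩))
    have e : MulAut.conjNormal z (∏ y : Q, MulAut.conjNormal (y : G) w) =
        ∏ y : Q, MulAut.conjNormal (y : G) w := by
      rw [map_prod]
      refine Fintype.prod_bijective (fun y : Q => ⟨z, hz⟩ * y) (Group.mulLeft_bijective _) _ _ fun y => ?_
      rw [coe_mul, map_mul]; rfl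
    have := congrArg Subtype.val e
    rw [MulAut.conjNormal_apply] at this
    exact mul_inv_eq_iff_eq_mul.mp this
  have h3 : ∏ i ∈ Finset.range p, ∏ y : Q, MulAut.conjNormal ((y * a) ^ i) v = 1 := by
    rw [Finset.prod_comm]; exact Finset.prod_eq_one fun y _ => h1 y
  rw [Finset.prod_eq_single 0] at h3
  · simpa using h3
  · intro i hi hi0
    rw [← h2 (MulAut.conjNormal (a ^ i) v)]
    refine Fintype.prod_bijective _ (bijective_mul_pow ha h0 (i := i)
      (Nat.coprime_comm.mp (Nat.coprime_of_lt_prime hi0 (Finset.mem_range.mp hi) hp)).symm.symm) _ _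
      fun y => ?_
    rw [← MulAut.mul_apply, ← map_mul, inv_mul_cancel_right]
  · intro h0
    exact absurd (Finset.mem_range.mpr hp.pos) h0

/-- Thompson's theorem for a subgroup of an ambient group. -/
theorem hasNormalPComplement_of_normalizers' [Finite G] {q : ℕ} [Fact q.Prime] (hq : q ≠ 2)
    {Q V : Subgroup G} (hQ : Core.IsSylowOf q Q V)
    (h : ∀ X : Subgroup G, X ≠ ⊥ → X ≤ Q → normalizer (Q : Set G) ≤ normalizer (X : Set G) →
      HasNormalPComplement q (V ⊓ normalizer (X : Set G) : Subgroup G)) : HasNormalPComplement q V := by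
  by_cases hP : Q = ⊥
  · exact Transfer.hasNormalPComplement_of_not_dvd fun hd => hQ.ne_bot hd hP
  have key : ∀ X : Subgroup G, X ≠ ⊥ → X ≤ Q → normalizer (Q : Set G) ≤ normalizer (X : Set G) →
      HasNormalPComplement q (normalizer ((X.subgroupOf V : Subgroup V) : Set V)) := by
    intro X h1 h2 h3
    rw [normalizer_subgroupOf (h2.trans hQ.le), ← inf_subgroupOf_left,
      Transfer.hasNormalPComplement_subgroupOf_iff inf_le_left]
    exact h X h1 h2 h3
  refine (S0108.result hq hQ.toSylow).mpr ⟨?_, ?_⟩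
  · have := key _ (Transfer.thompsonSubgroupOf_ne_bot_of_isPGroup hQ.isPGroup hP)
      (Transfer.thompsonSubgroupOf_le _) (Transfer.normalizer_le_normalizer_thompsonSubgroupOf _)
    rwa [← Transfer.map_subtype_thompsonSubgroupOf hQ.le, subgroupOf,
      comap_map_eq_self_of_injective V.subtype_injective] at this
  · refine Transfer.hasNormalPComplement_of_le ?_ (key (Q ⊓ centralizer (Q : Set G))
      (inf_centralizer_ne_bot_of_nilpotent hQ.isPGroup.isNilpotent hP) inf_le_left
      (Core.le_normalizer_inf le_rfl (Core.normalizer_le_normalizer_centralizer _)))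
    refine le_trans (centralizer_le ?_) (centralizer_le_normalizer _)
    intro x hx
    exact ⟨hx.1, mem_centralizer_iff.mpr fun y hy =>
      Subtype.ext (mem_centralizer_iff.mp hx.2 y hy)⟩

theorem nilpotent_of_index_prime {p : ℕ} (hp : p.Prime) (G : Type u) [Group G] [Finite G] :
    ∀ K : Subgroup G, K.Normal → K.index = p → (∀ g, g ∉ K → g ^ p = 1) → Group.IsNilpotent K := by
  refine Core.induction_on_card (P := fun G _ _ => ∀ K : Subgroup G, K.Normal → K.index = p →
    (∀ g, g ∉ K → g ^ p = 1) → Group.IsNilpotent K) ?_ G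
  intro G _ _ ih K hK hi h
  have hsub : ∀ U : Subgroup G, U ≠ ⊤ → ¬ U ≤ K → Group.IsNilpotent (K ⊓ U : Subgroup G) := by
    intro U hU hUK
    have := ih U (Core.card_lt_of_ne_top U hU) (K.subgroupOf U) inferInstance
      (((Nat.dvd_prime hp).mp (hi ▸ relIndex_dvd_index_of_normal K U)).resolve_left
        (mt relIndex_eq_one.mp hUK)) fun g hg => Subtype.ext (h g hg)
    rw [← subgroupOf_map_subtype]
    exact Core.nilpotent_map this _
  have hquo : ∀ (N : Subgroup G) [N.Normal], N ≠ ⊥ → N ≤ K →
      Group.IsNilpotent (K.map (QuotientGroup.mk' N)) := by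
    intro N _ hN hNK
    have hs := QuotientGroup.mk'_surjective N
    refine ih _ (Core.card_quotient_lt N hN) _ (hK.map _ hs)
      (by rw [index_map_eq _ hs (by rwa [QuotientGroup.ker_mk']), hi]) fun g hg => ?_
    obtain ⟨g, rfl⟩ := hs g
    rw [← map_pow, h g fun hg' => hg (mem_map_of_mem _ hg'), map_one]
  have hKt : K ≠ ⊤ := fun e => hp.one_lt.ne' (hi ▸ index_eq_one.mpr e)
  by_cases hK1 : K = ⊥
  · rw [hK1]; infer_instance
  obtain ⟨V, hV, hV1, hVK, hmin⟩ := Core.exists_minimal_normal_le K hK1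
  -- the minimal normal subgroup is nilpotent
  have hVn : Group.IsNilpotent V := by
    by_cases hVK' : V = K
    swap
    · obtain ⟨a, ha⟩ := exists_not_mem_of_ne_top hKt
      refine Core.nilpotent_of_le (le_inf hVK le_sup_left) (hsub (V ⊔ zpowers a) (fun e => hVK' ?_)
        fun e => ha (e (mem_sup_right (mem_zpowers a))))
      refine eq_of_le_of_card_ge hVK (Nat.le_of_mul_le_mul_right (c := p) ?_ hp.pos)
      calc Nat.card K * p = Nat.card (V ⊔ zpowers a : Subgroup G) := by
            rw [e, card_top, ← hi, card_mul_index]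
        _ ≤ Nat.card V * Nat.card (zpowers a) := Nat.le_of_dvd (Nat.mul_pos Nat.card_pos Nat.card_pos)
            (Core.card_sup_dvd le_normalizer_of_normal)
        _ ≤ Nat.card V * p := Nat.mul_le_mul_left _ (by
            rw [Nat.card_zpowers]; exact orderOf_le_of_pow_eq_one hp.pos (h a ha))
    subst hVK'
    by_cases h2 : IsPGroup 2 V
    · exact h2.isNilpotent
    obtain ⟨q, hq, hd, hq2⟩ : ∃ q : ℕ, q.Prime ∧ q ∣ Nat.card V ∧ q ≠ 2 := by
      by_contra hn
      push Not at hn
      exact h2 (isPGroup_iff_forall_prime.mpr hn)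
    have := Fact.mk hq
    by_contra hnil
    obtain ⟨Q, hQ⟩ := Core.exists_isSylowOf q V
    have h3 : HasNormalPComplement q V := by
      refine hasNormalPComplement_of_normalizers' hq2 hQ fun X hX hXQ hn => ?_
      have := hsub (normalizer (X : Set G)) (fun e => hnil ?_) fun e => hKt ?_
      · exact Transfer.hasNormalPComplement_of_isNilpotent
      · rw [← (hmin X (normalizer_eq_top_iff.mp e) (hXQ.trans hQ.le)).resolve_left hX]
        exact (hQ.isPGroup.to_le hXQ).isNilpotent
      · rw [← hQ.frattini_top, sup_eq_left.mpr (hn.trans e)]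
    rcases hmin ((pResidual q V).map V.subtype) inferInstance (map_subtype_le _) with h4 | h4
    · rw [Subgroup.map_eq_bot_iff_of_injective _ V.subtype_injective] at h4
      exact hnil (Transfer.isPGroup_of_pResidual_eq_bot h4).isNilpotent
    · rw [← h4, Core.card_map_subtype] at hd
      exact Transfer.hasNormalPComplement_iff_not_dvd.mp h3 hd
  obtain ⟨r, hr, hVe⟩ := Core.minimal_normal_elementary V inferInstance hV1 hmin
  have := Fact.mk hr
  have hVr := Core.IsElementaryAbelian.isPGroup hVe
  have hKV := hquo V hV1 hVK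
  have hs := QuotientGroup.mk'_surjective V
  refine Core.nilpotent_of_exists_sylow_normal fun q hq _ => ?_
  have := Fact.mk hq
  obtain ⟨Q, hQ⟩ := Core.exists_isSylowOf q K
  suffices Q.Normal from ⟨hQ.toSylow, by rw [hQ.coe_toSylow]; infer_instance⟩
  have hQV : (Q ⊔ V).Normal := by
    have : (Q.map (QuotientGroup.mk' V)).Normal := by
      have := hK.map _ hs
      exact Core.normal_of_le_normalizer (le_normalizer_of_normal.trans
        (normalizer_le_normalizer_of_isSylowOf_nilpotent hKV (hQ.map _)))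
    rw [← QuotientGroup.ker_mk' V, ← comap_map_eq]
    infer_instance
  by_cases hqr : q = r
  · subst hqr
    rwa [sup_eq_left.mpr (hQ.normal_le hVr hVK le_normalizer_of_normal)] at hQV
  have h1 : V ⊔ normalizer (Q : Set G) = ⊤ := by
    have := (hQ.of_le le_sup_left (sup_le hQ.le hVK)).frattini_top
    rwa [sup_comm Q, sup_assoc, sup_eq_right.mpr le_normalizer] at this
  have h2 : (V ⊓ centralizer (Q : Set G)).Normal := Core.normal_of_le_normalizer (h1 ▸ sup_le
    (le_trans (fun x hx => mem_centralizer_iff.mpr fun y hy =>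
      Core.comm_of_isMulCommutative hVe.1 hy.1 hx) (centralizer_le_normalizer _))
    (Core.le_normalizer_inf le_normalizer_of_normal (Core.normalizer_le_normalizer_centralizer _)))
  rcases hmin _ h2 inf_le_left with h3 | h3
  · exfalso
    obtain ⟨a, ha, haK⟩ : ∃ a ∈ normalizer (Q : Set G), a ∉ K := by
      by_contra hn
      push Not at hn
      exact hKt (top_le_iff.mp (h1 ▸ sup_le hVK hn))
    have := hVe.1
    obtain ⟨v, hv⟩ := ne_bot_iff_exists_ne_one.mp hV1
    have h4 := pow_card_eq_one_of_coset ha hp (fun v hv y hy => h _ fun e => haK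
      ((K.mul_mem_cancel_left (hQ.le hy)).mp ((K.mul_mem_cancel_left (hVK hv)).mp e))) h3 v
    obtain ⟨j, hj⟩ := IsPGroup.iff_card.mp hQ.isPGroup
    obtain ⟨i, hi⟩ := IsPGroup.iff_orderOf.mp hVr v
    refine hv (orderOf_eq_one_iff.mp (Nat.eq_one_of_dvd_coprimes
      (Nat.coprime_pow_primes j i hq hr hqr) (hj ▸ orderOf_dvd_of_pow_eq_one h4) hi.dvd))
  · exact Core.normal_of_le_normalizer (h1 ▸ sup_le
      ((inf_eq_left.mp h3).trans (centralizer_le_normalizer _)) le_rfl)

end Cfsg.Agent.FGS
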