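import Mathlib
import Cfsg.Agent.FGS.SylowNum
import Cfsg.Agent.Transfer.Frobenius

/-!
# FGS/SylowNum3: groups acting faithfully on fewer than `p ^ 2` Sylow subgroups
-/

set_option autoImplicit false

open Subgroup

namespace Cfsg.Agent.FGS

variable {G : Type*} [Group G] {p : ℕ}

theorem smul_sylow_of_mem {P : Sylow p G} {g : G} (h : g ∈ P) : g • P = P :=
  Sylow.smul_eq_iff_mem_normalizer.mpr (le_normalizer (H := (P : Subgroup G)) h)

theorem card_sylow_eq_prime [Finite G] [hp : Fact p.Prime] (P : Sylow p G)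
    (hf : ∀ g : G, (∀ Q : Sylow p G, g • Q = Q) → g = 1) (h1 : Nat.card (Sylow p G) ≠ 1)
    (h : Nat.card (Sylow p G) < p ^ 2) : Nat.card P = p := by
  have h2 := card_sylow_dvd_of_lt_sq P (fun g hg => hf g fun Q => smul_sylow_of_mem (hg Q)) h
  refine ((Nat.dvd_prime hp.out).mp h2).resolve_left fun h3 => h1 ?_
  rw [card_sylow_eq P, index_eq_one, normalizer_eq_top_iff, card_eq_one.mp h3]
  infer_instance

theorem eq_of_forall_smul_sylow [Finite G] [Fact p.Prime] {P Q : Sylow p G}
    (h : ∀ g ∈ (P : Subgroup G), g • Q = Q) : Q = P := by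
  have h1 : (P : Subgroup G) ≤ Q := by
    rw [← inf_eq_left, ← sylow_inf_normalizer, inf_eq_left]
    exact fun g hg => Sylow.smul_eq_iff_mem_normalizer.mp (h g hg)
  exact Sylow.ext (P.is_maximal' Q.isPGroup' h1)

/-- The number of Sylow subgroups in a `P`-invariant set containing `P` is `1` modulo `p`. -/
theorem ncard_modEq_one [Finite G] [Fact p.Prime] (P : Sylow p G) (S : Set (Sylow p G))
    (hP : P ∈ S) (hS : ∀ g ∈ (P : Subgroup G), ∀ Q ∈ S, g • Q ∈ S) : S.ncard ≡ 1 [MOD p] := by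
  have h := ncard_modEq_of_invariant P.isPGroup' S hS
  have : {x | x ∈ S ∧ ∀ g ∈ (P : Subgroup G), g • x = x} = {P} := by
    ext Q
    exact ⟨fun h => eq_of_forall_smul_sylow h.2, by
      rintro rfl; exact ⟨hP, fun g hg => smul_sylow_of_mem hg⟩⟩
  rwa [this, Set.ncard_singleton] at h

theorem ncard_fixed_modEq_one [Finite G] [Fact p.Prime] (P : Sylow p G) {c : G}
    (hc : c ∈ centralizer ((P : Subgroup G) : Set G)) :
    {Q : Sylow p G | c • Q = Q}.ncard ≡ 1 [MOD p] := by
  refine ncard_modEq_one P _ (Sylow.smul_eq_iff_mem_normalizer.mpr (centralizer_le_normalizer _ hc))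
    fun g hg Q hQ => ?_
  rw [Set.mem_ofPred_eq] at hQ ⊢
  rw [← mul_smul, ← mem_centralizer_iff.mp hc g hg, mul_smul, hQ]

/-- Fixed points of an element of prime power order. -/
theorem card_modEq_ncard_fixed {X : Type*} [MulAction G X] [Finite X] {r k : ℕ} [Fact r.Prime]
    {c : G} (hc : orderOf c = r ^ k) : Nat.card X ≡ {x : X | c • x = x}.ncard [MOD r] := by
  have h := ncard_modEq_of_invariant (isPGroup_zpowers hc) (Set.univ : Set X) (by simp)
  rw [Set.ncard_univ] at h
  convert h using 2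
  ext x
  simp only [Set.mem_ofPred_eq, Set.mem_univ, true_and]
  refine ⟨fun hx g hg => ?_, fun hx => hx c (mem_zpowers c)⟩
  exact (zpowers_le.mpr (MulAction.mem_stabilizer_iff.mpr hx)) hg

theorem ncard_fixed_lt {X : Type*} [MulAction G X] [Finite X] {c : G}
    (hc : ¬ ∀ x : X, c • x = x) : {x : X | c • x = x}.ncard < Nat.card X := by
  rw [← Set.ncard_univ]
  refine Set.ncard_lt_ncard (Set.ssubset_univ_iff.mpr fun h => hc fun x => ?_)
  exact (Set.eq_univ_iff_forall.mp h) x

theorem false_of_normal_complement [Finite G] [hp : Fact p.Prime]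
    (hN : ∀ N : Subgroup G, N.Normal → ¬ p ∣ N.index → N = ⊤) {r : ℕ} [hr : Fact r.Prime]
    (hrp : r ≠ p) (hd : r ∣ Nat.card G) (h : HasNormalPComplement r G) : False := by
  obtain ⟨R, N, hn, hc⟩ := h
  obtain ⟨k, hk⟩ := IsPGroup.iff_card.mp R.isPGroup'
  have h1 : N = ⊤ := hN N hn fun h => hrp (by
    rw [hc.symm.index_eq_card, hk] at h
    exact ((Nat.prime_dvd_prime_iff_eq hp.out hr.out).mp (hp.out.dvd_of_dvd_pow h)).symm)
  have h2 := hc.disjoint
  rw [h1, top_disjoint] at h2
  exact R.ne_bot_of_dvd_card hd h2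

theorem card_dvd_pow_of_not_dvd [Finite G] [hp : Fact p.Prime] {P : Subgroup G} (hP : IsPGroup p P)
    {n : ℕ} (h : ¬ p ^ (n + 1) ∣ Nat.card G) : Nat.card P ∣ p ^ n := by
  obtain ⟨k, hk⟩ := IsPGroup.iff_card.mp hP
  rw [hk]
  refine pow_dvd_pow _ (not_lt.mp fun hlt => h ((pow_dvd_pow _ hlt).trans ?_))
  rw [← hk]; exact card_subgroup_dvd_card P

theorem card_eq_of_two_mul_add_one [Finite G] [hp : Fact p.Prime] (hp2 : p ≠ 2)
    (hf : ∀ g : G, (∀ Q : Sylow p G, g • Q = Q) → g = 1)
    (hN : ∀ N : Subgroup G, N.Normal → ¬ p ∣ N.index → N = ⊤)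
    (hn : Nat.card (Sylow p G) = 2 * p + 1) :
    ∃ e, e ∣ p - 1 ∧ Odd e ∧ Nat.card G = (2 * p + 1) * p * e := by
  obtain ⟨P⟩ : Nonempty (Sylow p G) := inferInstance
  have hp3 : 3 ≤ p := by have := hp.out.two_le; omega
  have hP : Nat.card P = p := card_sylow_eq_prime P hf (by omega) (by rw [hn]; nlinarith)
  have hP' : (Nat.card (P : Subgroup G)).Prime := hP.symm ▸ hp.out
  have hcyc := isCyclic_of_prime_card (α := (P : Subgroup G)) hP
  have hnd : ¬ p ∣ 2 := fun h => hp2 ((Nat.prime_dvd_prime_iff_eq hp.out Nat.prime_two).mp h)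
  have hC : centralizer ((P : Subgroup G) : Set G) = P := by
    refine P.is_maximal' ?_ (le_centralizer _)
    rw [Core.isPGroup_iff_isPiSubgroup]
    intro r hr hd
    by_contra hrp
    have := Fact.mk hr
    obtain ⟨⟨c, hc⟩, hc'⟩ := exists_prime_orderOf_dvd_card' r hd
    have hcr : orderOf c = r ^ 1 := by simpa using hc'
    have hc1 : c ≠ 1 := by
      rintro rfl
      rw [orderOf_one, pow_one] at hcr
      exact hr.one_lt.ne hcr
    have h1 := ncard_fixed_modEq_one P hc
    have h2 := card_modEq_ncard_fixed (X := Sylow p G) hcr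
    have h3 := ncard_fixed_lt (X := Sylow p G) (mt (hf c) hc1)
    generalize hm : {x : Sylow p G | c • x = x}.ncard = m at h1 h2 h3
    rw [hn] at h2 h3
    have hm0 : 1 ≤ m := by
      rcases Nat.eq_zero_or_pos m with rfl | h
      · exact absurd (Nat.dvd_one.mp ((Nat.modEq_zero_iff_dvd).mp h1.symm)) hp.out.one_lt.ne'
      · exact h
    obtain ⟨j, hj⟩ := (Nat.modEq_iff_dvd' hm0).mp h1.symm
    have hj2 : j < 2 := by
      by_contra h
      have : p * 2 ≤ p * j := Nat.mul_le_mul_left _ (by omega)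
      omega
    have h4 := (Nat.modEq_iff_dvd' h3.le).mp h2.symm
    interval_cases j
    · rw [show 2 * p + 1 - m = 2 * p by omega] at h4
      rcases (Nat.Prime.dvd_mul hr).mp h4 with h | h
      · obtain rfl := (Nat.prime_dvd_prime_iff_eq hr Nat.prime_two).mp h
        obtain ⟨N, hN1, hN2⟩ := exists_index_two_of_involution (X := Sylow p G) (t := c)
          (by rw [← pow_one 2, ← hcr, pow_orderOf_eq_one]) (hp.out.odd_of_ne_two hp2)
          (by rw [hm, hn]; omega)
        rw [hN N hN1 (hN2 ▸ hnd), index_top] at hN2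
        omega
      · exact hrp ((Nat.prime_dvd_prime_iff_eq hr hp.out).mp h)
    · rw [show 2 * p + 1 - m = p by omega] at h4
      exact hrp ((Nat.prime_dvd_prime_iff_eq hr hp.out).mp h4)
  have he := relIndex_centralizer_normalizer_dvd (P : Subgroup G)
  rw [card_mulAut_of_prime hP', hC] at he
  have hG : Nat.card G = (2 * p + 1) * p *
      (P : Subgroup G).relIndex (normalizer ((P : Subgroup G) : Set G)) := by
    rw [← (normalizer ((P : Subgroup G) : Set G)).index_mul_card, ← card_sylow_eq P, hn,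
      ← Core.card_mul_relIndex (le_normalizer (H := (P : Subgroup G))), mul_assoc]
    congr 2
  refine ⟨_, he.trans (dvd_of_eq (congrArg (· - 1) hP)), ?_, hG⟩
  by_contra hev
  have h2 : 2 ∣ Nat.card G := by
    rw [hG]; exact (even_iff_two_dvd.mp (Nat.not_odd_iff_even.mp hev)).mul_left _
  obtain ⟨S, hS⟩ := exists_sylow_le_of_not_dvd_index (p := 2)
    (H := normalizer ((P : Subgroup G) : Set G)) (by rw [← card_sylow_eq P, hn]; omega)
  have := isCyclic_mulAut_of_prime hP'
  have hSc : IsCyclic S := by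
    refine isCyclic_of_injective ((P : Subgroup G).normalizerMonoidHom.comp (inclusion hS)) ?_
    rw [injective_iff_map_eq_one]
    intro s hs
    have h1 : inclusion hS s ∈ (P : Subgroup G).normalizerMonoidHom.ker := hs
    rw [normalizerMonoidHom_ker, hC] at h1
    exact Subtype.ext (disjoint_def.mp (IsPGroup.disjoint_of_ne 2 p hp2.symm _ _ S.isPGroup'
      P.isPGroup') s.2 h1)
  exact false_of_normal_complement hN hp2.symm h2
    ⟨S, _, inferInstance, IsCyclic.isComplement' ((Nat.minFac_eq_two_iff _).mpr h2) hSc⟩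

end Cfsg.Agent.FGS
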