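import Mathlib
import Cfsg.Agent.Perm.Derang
import Cfsg.Agent.S4058
import Cfsg.Agent.FGS.Basic2

/-!
# FGS/FrobCount: Frobenius' theorem on the number of solutions of `x ^ n = c` (Brauer's proof)
-/

set_option autoImplicit false

open Subgroup MulAction

namespace Cfsg.Agent.FGS

variable {G : Type*} [Group G] [Finite G]

/-- Brauer's lemma. -/
theorem isConj_pow_card {U : Subgroup G} {a u : G} (ha : a ∈ normalizer (U : Set G)) (hu : u ∈ U) :
    IsConj (a ^ Nat.card U) ((a * u) ^ Nat.card U) := by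
  classical
  let π : Equiv.Perm G := Equiv.mulLeft a⁻¹ * Equiv.mulRight (a * u)
  have hπ : ∀ (k : ℕ) w, (π ^ k) w = (a ^ k)⁻¹ * w * (a * u) ^ k := by
    intro k
    induction k with
    | zero => simp
    | succ k ih =>
      intro w
      rw [pow_succ', Equiv.Perm.mul_apply, ih, pow_succ a, pow_succ (a * u)]
      simp [π, mul_assoc]
  have hU : ∀ (k : ℕ), ∀ w ∈ U, (π ^ k) w ∈ U := by
    intro k
    induction k with
    | zero => simp
    | succ k ih =>
      intro w hw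
      rw [pow_succ, Equiv.Perm.mul_apply]
      refine ih _ ?_
      have := mul_mem (Core.inv_conj_mem_of_le_normalizer le_rfl ha hw) hu
      simpa [π, mul_assoc] using this
  have hex : ∃ k, 0 < k ∧ ∃ w ∈ U, (π ^ k) w = w :=
    ⟨_, orderOf_pos π, 1, one_mem _, by rw [pow_orderOf_eq_one]; rfl⟩
  obtain ⟨hk, w, hw, e⟩ := Nat.find_spec hex
  set k := Nat.find hex
  have h1 : k ∣ {x | x ∈ U ∧ (π ^ k) x = x}.ncard := by
    refine Perm.dvd_ncard_of_forall_orbit (zpowers π) _ (Set.toFinite _) (fun g hg x hx => ?_)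
      fun x hx => ?_
    · obtain ⟨j, rfl⟩ := mem_powers_iff_mem_zpowers.mpr hg
      refine ⟨hU j x hx.1, ?_⟩
      change (π ^ k) ((π ^ j) x) = (π ^ j) x
      rw [← Equiv.Perm.mul_apply, pow_mul_comm, Equiv.Perm.mul_apply, hx.2]
    · have := Fintype.ofFinite (orbit (zpowers π) x)
      rw [← Nat.card_coe_set_eq, Nat.card_eq_fintype_card, ← minimalPeriod_eq_card]
      have h3 : ∀ j : ℕ, (π ^ j) x = x ↔ Function.minimalPeriod (π • ·) x ∣ j := fun j =>
        pow_smul_eq_iff_minimalPeriod_dvd (a := π) (b := x) (n := j)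
      exact dvd_of_eq (le_antisymm (Nat.find_min' hex ⟨NeZero.pos _, x, hx.1, (h3 _).mpr dvd_rfl⟩)
        (Nat.le_of_dvd hk ((h3 _).mp hx.2)))
  rw [hπ] at e
  have e' : (a * u) ^ k = w⁻¹ * a ^ k * w := by
    calc _ = w⁻¹ * a ^ k * ((a ^ k)⁻¹ * w * (a * u) ^ k) := by group
      _ = _ := by rw [e]
  have h2 : {x | x ∈ U ∧ (π ^ k) x = x} = (· * w) '' (U ⊓ centralizer {a ^ k} : Subgroup G) := by
    ext x
    rw [Set.mem_ofPred_eq, hπ, e']
    refine ⟨fun h => ⟨x * w⁻¹, ⟨U.mul_mem h.1 (U.inv_mem hw), mem_centralizer_singleton_iff.mpr ?_⟩,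
      by simp⟩, ?_⟩
    · calc x * w⁻¹ * a ^ k = a ^ k * ((a ^ k)⁻¹ * x * (w⁻¹ * a ^ k * w)) * w⁻¹ := by group
        _ = _ := by rw [h.2, mul_assoc]
    · rintro ⟨c, hc, rfl⟩
      refine ⟨mul_mem hc.1 hw, ?_⟩
      calc _ = (a ^ k)⁻¹ * (c * a ^ k) * w := by group
        _ = _ := by rw [mem_centralizer_singleton_iff.mp hc.2]; group
  rw [h2, Set.ncard_image_of_injective _ (mul_left_injective w), ← Nat.card_coe_set_eq] at h1
  obtain ⟨m, hm⟩ := h1.trans (card_dvd_of_le (inf_le_left : U ⊓ centralizer {a ^ k} ≤ U))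
  rw [hm, pow_mul, pow_mul, e']
  exact (isConj_iff.mpr ⟨w⁻¹, by rw [inv_inv]⟩).pow m

theorem card_dvd_ncard (H : Subgroup G) (S : Set G)
    (h : ∀ x ∈ S, ∀ y, IsConj (x ^ Nat.card H) (y ^ Nat.card H) → y ∈ S) : Nat.card H ∣ S.ncard := by
  classical
  let T : G → ℕ → G ⧸ H := fun x i => (x ^ i : G)
  have hT : ∀ (c : H) x, T (c * x * (c : G)⁻¹) = c • T x := fun c x => funext fun i => by
    change ((((c : G) * x * (c : G)⁻¹) ^ i : G) : G ⧸ H) = ((c * x ^ i : G) : G ⧸ H)
    rw [conj_pow, QuotientGroup.eq]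
    simp [mul_assoc]
  let X : SubMulAction H (ℕ → G ⧸ H) :=
    { carrier := Set.range T
      smul_mem' := by rintro c _ ⟨x, rfl⟩; exact ⟨_, hT c x⟩ }
  let _ : MulAction H X := SubMulAction.mulAction X
  have : Finite X := Set.finite_range T
  have := Fintype.ofFinite X
  have := Fintype.ofFinite G
  let T' : G → X := fun x => ⟨T x, x, rfl⟩
  have hS : ∀ (c : G), ∀ x ∈ S, c * x * c⁻¹ ∈ S := fun c x hx =>
    h x hx _ ((isConj_iff.mpr ⟨c, rfl⟩).pow _)
  rw [← Int.natCast_dvd_natCast, Set.ncard_eq_toFinset_card' S,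
    Finset.card_eq_sum_card_fiberwise (f := T') (t := Finset.univ) (fun _ _ => by simp), Nat.cast_sum]
  refine S4058.dvd_sum (Γ := H) _ _ (fun c t => ?_) ?_
  · congr 1
    refine Finset.card_bij (fun x _ => (c⁻¹ : H) * x * ((c⁻¹ : H) : G)⁻¹) (fun x hx => ?_)
      (fun x _ y _ e => by simpa using e) fun y hy => ⟨c * y * (c : G)⁻¹, ?_, by simp [mul_assoc]⟩
    · simp only [Finset.mem_filter, Set.mem_toFinset] at hx ⊢
      refine ⟨hS _ _ hx.1, Subtype.ext ((hT _ _).trans ?_)⟩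
      rw [show T x = c • t.1 from congrArg Subtype.val hx.2]
      exact funext fun i => inv_smul_smul c (t.1 i)
    · simp only [Finset.mem_filter, Set.mem_toFinset] at hy ⊢
      exact ⟨hS _ _ hy.1, Subtype.ext ((hT _ _).trans (by rw [← hy.2]; rfl))⟩
  · intro t
    rcases (S.toFinset.filter fun x => T' x = t).eq_empty_or_nonempty with e | ⟨x, hx⟩
    · simp [e]
    simp only [Finset.mem_filter, Set.mem_toFinset] at hx
    obtain ⟨hx, rfl⟩ := hx
    set U := (stabilizer H (T' x)).map H.subtype with hU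
    have hmem : ∀ u, u ∈ U ↔ ∀ i : ℕ, (x ^ i)⁻¹ * u * x ^ i ∈ H := by
      intro u
      have key : ∀ c : H, c • T' x = T' x ↔ ∀ i : ℕ, (x ^ i)⁻¹ * c * x ^ i ∈ H := fun c => by
        rw [Subtype.ext_iff, funext_iff]
        refine forall_congr' fun i => ?_
        change ((c * x ^ i : G) : G ⧸ H) = ((x ^ i : G) : G ⧸ H) ↔ _
        rw [eq_comm, QuotientGroup.eq, mul_assoc]
      refine ⟨?_, fun hu => ⟨⟨u, by simpa using hu 0⟩, (key _).mpr hu, rfl⟩⟩
      rintro ⟨c, hc, rfl⟩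
      exact (key c).mp hc
    have hxU : x ∈ normalizer (U : Set G) := inv_mem_iff.mp (mem_normalizer_fintype fun u hu =>
      (hmem _).mpr fun i => by
        have := (hmem u).mp hu (i + 1)
        rw [pow_succ'] at this
        simpa [mul_assoc] using this)
    have h1 : (S.toFinset.filter fun y => T' y = T' x) = (U : Set G).toFinset.image (x * ·) := by
      ext y
      simp only [Finset.mem_filter, Set.mem_toFinset, Finset.mem_image, SetLike.mem_coe]
      constructor
      · rintro ⟨-, e⟩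
        have e' : ∀ i, (x ^ i)⁻¹ * y ^ i ∈ H := fun i =>
          QuotientGroup.eq.mp (congrFun (congrArg Subtype.val e) i).symm
        refine ⟨x⁻¹ * y, (hmem _).mpr fun i => ?_, by simp⟩
        convert mul_mem (e' (i + 1)) (inv_mem (e' i)) using 1
        rw [pow_succ' x, pow_succ' y]
        group
      · rintro ⟨u, hu, rfl⟩
        obtain ⟨m, hm⟩ := card_dvd_of_le (map_subtype_le _ : U ≤ H)
        refine ⟨h x hx _ (by rw [hm, pow_mul, pow_mul]; exact (isConj_pow_card hxU hu).pow m),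
          Subtype.ext (funext fun i => QuotientGroup.eq.mpr ?_)⟩
        induction i with
        | zero => simp
        | succ i ih =>
          convert mul_mem ih (inv_mem ((hmem u).mp hu i)) using 1
          rw [pow_succ' x, pow_succ' (x * u)]
          generalize (x * u) ^ i = z
          group
    rw [h1, Finset.card_image_of_injective _ (mul_right_injective x), ← Set.ncard_eq_toFinset_card',
      ← Nat.card_coe_set_eq, SetLike.coe_sort_coe, hU, Core.card_map_subtype, ← Nat.cast_mul,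
      mul_comm, card_mul_index]

theorem dvd_ncard_of_prime_pow (d : ℕ) (hd : d ∣ Nat.card G) (S : Set G)
    (h : ∀ p k : ℕ, p.Prime → p ^ k ∣ d → ∀ x ∈ S, ∀ y, IsConj (x ^ p ^ k) (y ^ p ^ k) → y ∈ S) :
    d ∣ S.ncard := by
  refine (Nat.dvd_iff_prime_pow_dvd_dvd _ _).mpr fun p k hp hk => ?_
  have := Fact.mk hp
  obtain ⟨H, hH⟩ := Sylow.exists_subgroup_card_pow_prime p (hk.trans hd)
  rw [← hH]
  exact card_dvd_ncard H S (hH ▸ h p k hp hk)

/-- Frobenius' theorem. -/
theorem gcd_dvd_ncard (n : ℕ) (C : Set G) (hC : ∀ x ∈ C, ∀ y, IsConj x y → y ∈ C) :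
    Nat.gcd n (Nat.card G) ∣ {x | x ^ n ∈ C}.ncard := by
  refine dvd_ncard_of_prime_pow _ (Nat.gcd_dvd_right _ _) _ fun p k _ hk x hx y h => ?_
  obtain ⟨m, rfl⟩ := hk.trans (Nat.gcd_dvd_left _ _)
  exact hC _ hx _ (by rw [pow_mul, pow_mul]; exact h.pow m)

theorem dvd_card_pow_eq_one {m : ℕ} (hm : m ∣ Nat.card G) : m ∣ Nat.card {g : G // g ^ m = 1} := by
  have := gcd_dvd_ncard (G := G) m {1} (by rintro _ rfl y h; exact isConj_one_right.mp h)
  rwa [Nat.gcd_eq_left hm] at this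

end Cfsg.Agent.FGS
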