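import Mathlib
import Cfsg.Agent.FGS.Basic2
import Cfsg.Agent.Core.Product
import Cfsg.Agent.Inv.NFour
import Cfsg.Agent.S0111
import Cfsg.Agent.S0205

set_option autoImplicit false

namespace Cfsg.Agent.FGS

open Subgroup
open scoped Pointwise

namespace POrb

theorem two_pow_dvd {q : ℕ} (hq : Odd q) {m i : ℕ} (hm : 1 ≤ m) (h : 2 ^ (m + 1) ∣ q ^ i + 1) :
    2 ^ (m + 1) ∣ q + 1 := by
  have key : ∀ l : ℕ, ∃ t : ℤ, Odd t ∧ (q : ℤ) ^ (2 * l + 1) + 1 = (q + 1) * t := by
    intro l
    induction l with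
    | zero => exact ⟨1, odd_one, by ring⟩
    | succ l ih =>
      obtain ⟨t, ht, e⟩ := ih
      have hq' : Odd (q : ℤ) := by exact_mod_cast hq
      refine ⟨(q : ℤ) ^ 2 * t - (q - 1), ((hq'.pow).mul ht).sub_even (hq'.sub_odd odd_one), ?_⟩
      have : (q : ℤ) ^ (2 * (l + 1) + 1) = q ^ 2 * q ^ (2 * l + 1) := by ring
      rw [this]; linear_combination (q : ℤ) ^ 2 * e
  rcases Nat.even_or_odd' i with ⟨l, rfl | rfl⟩
  · exfalso
    have h4 : 4 ∣ q ^ (2 * l) + 1 := (show 4 ∣ 2 ^ (m + 1) from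
      (pow_dvd_pow 2 (show 2 ≤ m + 1 by omega))).trans h
    obtain ⟨k, hk⟩ := hq.pow (n := l)
    rw [pow_mul', hk] at h4
    have : (2 * k + 1) ^ 2 + 1 = 4 * (k ^ 2 + k) + 2 := by ring
    omega
  · obtain ⟨t, ht, e⟩ := key l
    have h1 : ((2 : ℤ) ^ (m + 1)) ∣ (q + 1) * t := by
      rw [← e]; exact_mod_cast h
    have h2 : IsCoprime ((2 : ℤ) ^ (m + 1)) t := (Int.isCoprime_two_left.2 ht).pow_left
    exact_mod_cast h2.dvd_of_dvd_mul_right h1

theorem dim2 {A : Type*} [AddCommGroup A] [Finite A] [Nontrivial A] {H : Type*} [Group H]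
    (ρ : H →* Module.End ℤ A) (hρ : Function.Injective ρ) {q : ℕ} (hq : q.Prime) (hq2 : Odd q)
    (hA : ∀ v : A, q • v = 0) {a b : H} {m : ℕ} (hm : 1 ≤ m) (ha : orderOf a = 2 ^ (m + 1))
    (hb : b * a * b⁻¹ = a⁻¹)
    (hirr : ∀ W : Submodule ℤ A, (∀ w ∈ W, ρ a w ∈ W) → W = ⊥ ∨ W = ⊤) :
    Nat.card A ≤ q ^ 2 := by
  haveI := Fact.mk hq
  let E := Subring.centralizer ({ρ a} : Set (Module.End ℤ A))
  have hE : ∀ e, e ∈ E ↔ ρ a * e = e * ρ a := fun e => by simp [E, Subring.mem_centralizer_iff]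
  have hinj : ∀ e : E, e ≠ 0 → Function.Injective e.1 := fun e he => by
    rw [← LinearMap.ker_eq_bot]
    refine (hirr _ fun w hw => ?_).resolve_right fun h => he (Subtype.ext (LinearMap.ker_eq_top.1 h))
    rw [LinearMap.mem_ker] at *
    rw [← Module.End.mul_apply, ← (hE _).1 e.2, Module.End.mul_apply, hw, map_zero]
  haveI : Finite (Module.End ℤ A) := DFunLike.finite _
  haveI : NoZeroDivisors E := ⟨fun {e f} h => by
    by_cases he : e = 0
    · exact Or.inl he
    · refine Or.inr (Subtype.ext (LinearMap.ext fun v => hinj e he ?_))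
      have := congrArg (fun x : E => x.1 v) h
      simpa using this⟩
  haveI : IsDomain E := NoZeroDivisors.to_isDomain E
  letI : Field E := (Finite.isDomain_to_isField E).toField
  haveI : CharP E q := (CharP.charP_iff_prime_eq_zero hq).2 (Subtype.ext (LinearMap.ext fun v => by
    simpa using hA v))
  letI : Algebra (ZMod q) E := ZMod.algebra E q
  have hb' : b⁻¹ * a * b = a⁻¹ := by
    have : a = b⁻¹ * a⁻¹ * b := by rw [← hb]; group
    calc b⁻¹ * a * b = (b⁻¹ * a⁻¹ * b)⁻¹ := by group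
      _ = a⁻¹ := by rw [← this]
  have hinv : ∀ e ∈ E, ρ a⁻¹ * e = e * ρ a⁻¹ := fun e he => by
    calc ρ a⁻¹ * e = ρ a⁻¹ * (e * ρ a) * ρ a⁻¹ := by
          rw [mul_assoc, mul_assoc, ← map_mul, mul_inv_cancel, map_one, mul_one]
      _ = _ := by rw [← (hE e).1 he, ← mul_assoc, ← map_mul, inv_mul_cancel, map_one, one_mul]
  have hbb : ρ b⁻¹ * ρ b = 1 := by rw [← map_mul, inv_mul_cancel, map_one]
  have hbb' : ρ b * ρ b⁻¹ = 1 := by rw [← map_mul, mul_inv_cancel, map_one]
  let σ : E →+* E :=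
    { toFun := fun e => ⟨ρ b * e * ρ b⁻¹, (hE _).2 (by
        have e1 : ρ a * ρ b = ρ b * ρ a⁻¹ := by rw [← map_mul, ← map_mul, ← hb']; congr 1; group
        have e2 : ρ b⁻¹ * ρ a = ρ a⁻¹ * ρ b⁻¹ := by rw [← map_mul, ← map_mul, ← hb']; congr 1; group
        rw [← mul_assoc, ← mul_assoc, e1, mul_assoc _ _ (ρ a), e2, mul_assoc (ρ b), hinv _ e.2]
        simp only [mul_assoc])⟩
      map_one' := Subtype.ext (by simp [hbb'])
      map_mul' := fun e f => Subtype.ext (by
        show ρ b * (e.1 * f.1) * ρ b⁻¹ = ρ b * e * ρ b⁻¹ * (ρ b * f * ρ b⁻¹)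
        simp only [mul_assoc]
        rw [← mul_assoc (ρ b⁻¹), hbb, one_mul])
      map_zero' := Subtype.ext (by simp)
      map_add' := fun e f => Subtype.ext (by simp [mul_add, add_mul]) }
  let σ' : E →ₐ[ZMod q] E := { σ with
    commutes' := fun r => RingHom.congr_fun (RingHom.ext_zmod (σ.comp (algebraMap _ _)) _) r }
  obtain ⟨i, hi⟩ := FiniteField.exists_forall_apply_eq_pow (ZMod q) q E
    (AlgEquiv.ofBijective σ' (Finite.injective_iff_bijective.1 σ.injective))
  let c : E := ⟨ρ a, (hE _).2 rfl⟩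
  let c' : E := ⟨ρ a⁻¹, (hE _).2 (by rw [← map_mul, ← map_mul]; simp)⟩
  have h1 : a ^ (q ^ i + 1) = 1 := by
    have := congrArg Subtype.val (hi c)
    rw [Nat.card_zmod] at this
    have h2 : ρ b * ρ a * ρ b⁻¹ = ρ a ^ q ^ i := this
    rw [← map_mul, ← map_mul, hb, ← map_pow] at h2
    rw [pow_succ, ← hρ h2, inv_mul_cancel]
  have h2 : a ^ q = a⁻¹ := by
    rw [eq_inv_iff_mul_eq_one, ← pow_succ, ← orderOf_dvd_iff_pow_eq_one, ha]
    exact two_pow_dvd hq2 hm (ha ▸ orderOf_dvd_iff_pow_eq_one.2 h1)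
  have h3 : (c + c') ^ q = c + c' := by
    rw [add_pow_char, add_comm]
    congr 1
    · exact Subtype.ext (show ρ a⁻¹ ^ q = ρ a by rw [← map_pow, inv_pow, h2, inv_inv])
    · exact Subtype.ext (show ρ a ^ q = ρ a⁻¹ by rw [← map_pow, h2])
  obtain ⟨n, hn⟩ := (mem_bot_iff_intCast q E).1 ((Subfield.mem_bot_iff_pow_eq_self E q).2 h3)
  obtain ⟨v, hv⟩ := exists_ne (0 : A)
  have h4 : ρ a (ρ a v) = n • ρ a v - v := by
    have := congrArg (fun x : E => x.1 (ρ a v)) hn
    have e : ρ a⁻¹ (ρ a v) = v := by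
      rw [← Module.End.mul_apply, ← map_mul, inv_mul_cancel, map_one]; rfl
    simp only [c, c', Subring.coe_add, LinearMap.add_apply, e, Subring.coe_intCast,
      Module.End.intCast_apply] at this
    rw [this]; abel
  have h5 := (hirr (Submodule.span ℤ {v, ρ a v}) fun w hw => by
    obtain ⟨s, t, rfl⟩ := Submodule.mem_span_pair.1 hw
    rw [map_add, map_smul, map_smul, h4]
    exact Submodule.mem_span_pair.2 ⟨-t, s + t * n, by module⟩).resolve_left fun h => hv
      ((Submodule.eq_bot_iff _).1 h v (Submodule.subset_span (by simp)))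
  have hz : ∀ w : A, Nat.card (AddSubgroup.zmultiples w) ≤ q := fun w => by
    rw [Nat.card_zmultiples]
    exact Nat.le_of_dvd hq.pos (addOrderOf_dvd_iff_nsmul_eq_zero.2 (hA w))
  have := Nat.card_le_card_of_surjective
    (fun x : AddSubgroup.zmultiples v × AddSubgroup.zmultiples (ρ a v) => x.1.1 + x.2.1) fun w => by
      obtain ⟨s, t, rfl⟩ := Submodule.mem_span_pair.1 (h5 ▸ Submodule.mem_top (x := w))
      exact ⟨(⟨_, AddSubgroup.zsmul_mem_zmultiples v s⟩, ⟨_, AddSubgroup.zsmul_mem_zmultiples _ t⟩),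
        rfl⟩
  rw [Nat.card_prod] at this
  rw [sq]
  exact this.trans (Nat.mul_le_mul (hz _) (hz _))

variable {H V : Type*} [Group H] [CommGroup V] [MulDistribMulAction H V]

/-- the norm map of an action -/
noncomputable def nrm (H V : Type*) [Group H] [Fintype H] [CommGroup V] [MulDistribMulAction H V] :
    V →* V where
  toFun v := ∏ h : H, h • v
  map_one' := by simp
  map_mul' v w := by simp [Finset.prod_mul_distrib]

theorem nrm_smul [Fintype H] (h : H) (v : V) : nrm H V (h • v) = nrm H V v :=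
  Fintype.prod_equiv (Equiv.mulRight h) _ _ fun g => by simp [mul_smul]

theorem eq_one_of_nrm [Fintype H] [Finite V] (hc : (Nat.card H).Coprime (Nat.card V)) {v : V}
    (h : ∀ g : H, g • v = v) (h1 : nrm H V v = 1) : v = 1 := by
  have : v ^ Nat.card H = 1 := by
    rw [← h1]; simp [nrm, h]
  rw [← orderOf_eq_one_iff]
  exact Nat.eq_one_of_dvd_coprimes hc (orderOf_dvd_of_pow_eq_one this) (orderOf_dvd_natCard v)

theorem index_ne_two (hH : _root_.commutator H = ⊤) (K : Subgroup H) : K.index ≠ 2 := fun h => by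
  have : _root_.commutator H ≤ K := by
    rw [_root_.commutator, commutator_le]
    intro a _ b _
    simp only [commutatorElement_def, mul_mem_iff_of_index_two h, inv_mem_iff]
    tauto
  rw [hH, top_le_iff] at this
  rw [this, index_top] at h
  omega

theorem inv_of_fix {t : H} (ht : t * t = 1) (h : ∀ v : V, t • v = v → v = 1) (v : V) :
    t • v = v⁻¹ := by
  rw [eq_inv_iff_mul_eq_one]
  exact h _ (by rw [smul_mul', ← mul_smul, ht, one_smul, mul_comm])

theorem eq_one_of_inv [Finite V] (hV : Odd (Nat.card V)) {v : V} (h : v = v⁻¹) : v = 1 := by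
  rw [← orderOf_eq_one_iff]
  refine Nat.eq_one_of_dvd_coprimes (Nat.coprime_two_left.2 hV) (orderOf_dvd_of_pow_eq_one ?_)
    (orderOf_dvd_natCard v)
  rw [pow_two]; exact eq_inv_iff_mul_eq_one.1 h

theorem even_index [Finite V] (hV : Odd (Nat.card V)) {t : H} (ht : t * t = 1) {v : V}
    (hv : t • v ≠ v) : ∃ w : V, 2 ∣ (MulAction.stabilizer H w).index := by
  let w := v⁻¹ * t • v
  have hw : t • w = w⁻¹ := by
    simp only [w, smul_mul', smul_inv', ← mul_smul, ht, one_smul, mul_inv_rev, inv_inv]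
  have hw1 : w ≠ w⁻¹ := fun h => hv (inv_mul_eq_one.1 (eq_one_of_inv hV h)).symm
  let T : Subgroup H :=
    { carrier := {h | h • w = w ∨ h • w = w⁻¹}
      one_mem' := Or.inl (one_smul _ _)
      mul_mem' := by
        rintro a b (ha | ha) (hb | hb) <;> simp [mul_smul, smul_inv', ha, hb]
      inv_mem' := by
        rintro a (ha | ha)
        · exact Or.inl (inv_smul_eq_iff.2 ha.symm)
        · exact Or.inr (inv_smul_eq_iff.2 (by rw [smul_inv', ha, inv_inv])) }
  have hle : MulAction.stabilizer H w ≤ T := fun h hh => Or.inl hh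
  refine ⟨w, ?_⟩
  rw [← relIndex_mul_index hle]
  refine Dvd.dvd.mul_right (dvd_of_eq (relIndex_eq_two_iff_exists_notMem_and.2
    ⟨t, Or.inr hw, fun h => hw1 ((show t • w = w from h).symm.trans hw), ?_⟩).symm) _
  rintro b (hb | hb)
  · exact Or.inr hb
  · exact Or.inl (by rw [MulAction.mem_stabilizer_iff, mul_smul, hw, smul_inv', hb, inv_inv])

theorem irr_of_le_two [Finite H] [Finite V] (hH : _root_.commutator H = ⊤)
    (hirr : ∀ W : Subgroup V, (∀ h : H, ∀ w ∈ W, h • w ∈ W) → W = ⊥ ∨ W = ⊤) {P : Subgroup H}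
    (hP : ∀ (h : H) (v : V), ∃ g ∈ P, h • v = g • v) {C : Subgroup H} (hC : C.relIndex P ≤ 2)
    (W : Subgroup V) (hW : ∀ h ∈ C, ∀ w ∈ W, h • w ∈ W) : W = ⊥ ∨ W = ⊤ := by
  obtain ⟨y, hy⟩ : ∃ y : H, ∀ g ∈ P, y * g ∈ C ∨ g ∈ C := by
    have h0 : C.relIndex P ≠ 0 := index_ne_zero_of_finite
    obtain h | h : C.relIndex P = 1 ∨ C.relIndex P = 2 := by omega
    · exact ⟨1, fun g hg => Or.inr (relIndex_eq_one.1 h hg)⟩
    · obtain ⟨a, -, -, ha⟩ := relIndex_eq_two_iff_exists_notMem_and'.1 h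
      exact ⟨a, ha⟩
  have hcard : ∀ h : H, Nat.card (h • W : Subgroup V) = Nat.card W := fun h =>
    Nat.card_congr (equivSMul h W).toEquiv.symm
  have h1 : ∀ h : H, h • W = y⁻¹ • W ∨ h • W = W := fun h => by
    have : ((h • W : Subgroup V) : Set V) ⊆ (y⁻¹ • W : Subgroup V) ∪ W := by
      intro x hx
      obtain ⟨w, hw, rfl⟩ := (mem_smul_pointwise_iff_exists x h W).1 hx
      obtain ⟨g, hg, e⟩ := hP h w
      rw [e]
      rcases hy g hg with h2 | h2
      · exact Or.inl (mem_inv_pointwise_smul_iff.2 (by rw [← mul_smul]; exact hW _ h2 w hw))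
      · exact Or.inr (hW _ h2 w hw)
    rcases SubgroupClass.subset_union.1 this with h2 | h2
    · exact Or.inl (eq_of_le_of_card_ge h2 (by rw [hcard, hcard]))
    · exact Or.inr (eq_of_le_of_card_ge h2 (by rw [hcard]))
  have h2 : (MulAction.stabilizer H W).index ≤ 2 := by
    rw [MulAction.index_stabilizer]
    refine le_trans (Set.ncard_le_ncard (t := {y⁻¹ • W, W}) ?_) ((Set.ncard_insert_le _ _).trans
      (by simp))
    rintro _ ⟨h, rfl⟩
    exact h1 h
  have h3 := index_ne_two hH (MulAction.stabilizer H W)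
  have h4 : (MulAction.stabilizer H W).index ≠ 0 := index_ne_zero_of_finite
  have h5 := index_eq_one.1 (show (MulAction.stabilizer H W).index = 1 by omega)
  refine hirr W fun h w hw => ?_
  have : h • W = W := show h ∈ MulAction.stabilizer H W from h5 ▸ mem_top h
  exact this ▸ smul_mem_pointwise_smul w h W hw

theorem relIndex_le_two {G : Type*} [Group G] [Finite G] {P U : Subgroup G} (hP : IsPGroup 2 P)
    (hU : Nat.card U = 4) (hn : P ≤ normalizer (U : Set G)) {u : G} (hu : u ∈ U) (h1 : u ≠ 1) :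
    (centralizer ({u} : Set G)).relIndex P ≤ 2 := by
  letI : MulAction P G := MulAction.compHom G (MulAut.conj.comp P.subtype)
  have e : (centralizer ({u} : Set G)).subgroupOf P = MulAction.stabilizer P u := by
    ext g
    rw [mem_subgroupOf, mem_centralizer_singleton_iff, MulAction.mem_stabilizer_iff]
    exact mul_inv_eq_iff_eq_mul.symm
  have h3 : (centralizer ({u} : Set G)).relIndex P ≤ 3 := by
    rw [relIndex, e, MulAction.index_stabilizer]
    have : MulAction.orbit P u ⊆ (U : Set G) \ {1} := by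
      rintro _ ⟨g, rfl⟩
      refine ⟨(mem_normalizer_iff.1 (hn g.2) u).1 hu, fun h => h1 ?_⟩
      have : (g : G) * u * g⁻¹ = 1 := h
      simpa using this
    refine (Set.ncard_le_ncard this).trans ?_
    rw [Set.ncard_diff_singleton_of_mem U.one_mem, ← Nat.card_coe_set_eq]
    exact (congrArg (· - 1) hU).le
  obtain ⟨k, hk⟩ := hP.index ((centralizer ({u} : Set G)).subgroupOf P)
  rw [relIndex, hk] at h3 ⊢
  rcases k with _ | _ | k
  · norm_num
  · norm_num
  · have := Nat.one_le_two_pow (n := k)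
    rw [pow_succ, pow_succ] at h3; omega

theorem core [Finite H] [Finite V] [FaithfulSMul H V] {p q : ℕ} (hp : p.Prime) (hq : q.Prime)
    (hV : IsPGroup q V) (hc : (Nat.card H).Coprime (Nat.card V)) (hH : _root_.commutator H = ⊤)
    (hirr : ∀ W : Subgroup V, (∀ h : H, ∀ w ∈ W, h • w ∈ W) → W = ⊥ ∨ W = ⊤)
    (ho : ∀ v : V, ∃ k, (MulAction.stabilizer H v).index = p ^ k) : Subsingleton H := by
  classical
  haveI : Fact (Nat.Prime 2) := ⟨Nat.prime_two⟩
  haveI := Fact.mk hq
  by_contra hne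
  rw [not_subsingleton_iff_nontrivial] at hne
  have hns : ¬ Group.IsSolvable H := fun h =>
    (IsSolvable.commutator_lt_top_of_nontrivial H).ne hH
  have h2 : 2 ∣ Nat.card H := by
    by_contra h
    exact hns (S0205.result (Nat.odd_iff.2 (by omega)))
  have hVo : Odd (Nat.card V) := Nat.coprime_two_left.1 (hc.coprime_dvd_left h2)
  have hfa : ∀ t : H, t ≠ 1 → ∃ v : V, t • v ≠ v := fun t ht => by
    by_contra! h
    exact ht (eq_of_smul_eq_smul (α := V) fun v => by rw [h, one_smul])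
  obtain rfl : p = 2 := by
    obtain ⟨t, ht⟩ := exists_prime_orderOf_dvd_card' (G := H) 2 h2
    obtain ⟨v, hv⟩ := hfa t (ne_one_of_orderOf_prime Nat.prime_two ht)
    obtain ⟨w, hw⟩ := even_index hVo (by rw [← pow_two, ← ht, pow_orderOf_eq_one]) hv
    obtain ⟨k, hk⟩ := ho w
    exact ((Nat.prime_dvd_prime_iff_eq Nat.prime_two hp).1
      (Nat.prime_two.dvd_of_dvd_pow (hk ▸ hw))).symm
  obtain ⟨P⟩ : Nonempty (Sylow 2 H) := inferInstance
  have hP : ∀ (h : H) (v : V), ∃ g ∈ (P : Subgroup H), h • v = g • v := fun h v => by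
    obtain ⟨k, hk⟩ := ho v
    obtain ⟨x, hx, y, hy, rfl⟩ := Core.exists_mul_of_coprime_index (H := P)
      (K := MulAction.stabilizer H v) (by
        rw [hk]
        exact ((Nat.Prime.coprime_iff_not_dvd Nat.prime_two).2 P.not_dvd_index).symm.pow_right k) h
    exact ⟨x, hx, by rw [mul_smul, hy]⟩
  have hI : ∀ t : H, orderOf t = 2 → (centralizer ({t} : Set H)).relIndex P ≤ 2 →
      ∀ v : V, t • v = v⁻¹ := fun t ht h => by
    refine inv_of_fix (by rw [← pow_two, ← ht, pow_orderOf_eq_one]) fun v hv => ?_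
    let W : Subgroup V := (MulDistribMulAction.toMonoidHom V t).eqLocus (MonoidHom.id V)
    obtain ⟨u, hu⟩ := hfa t (ne_one_of_orderOf_prime Nat.prime_two ht)
    have := (irr_of_le_two hH hirr hP h W fun g hg w hw => by
      have e : t • w = w := hw
      show t • g • w = g • w
      rw [← mul_smul, ← mem_centralizer_singleton_iff.1 hg, mul_smul, e]).resolve_right
        fun e => hu (show u ∈ W from e ▸ mem_top u)
    exact mem_bot.1 (this ▸ (show v ∈ W from hv))
  have hA : ∀ A : Subgroup P, A.Normal → IsMulCommutative A → IsCyclic A := fun A hA hAc => by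
    by_contra hnc
    let e := A.equivMapOfInjective (P : Subgroup H).subtype (subtype_injective _)
    obtain ⟨U, -, hU, hn⟩ := Inv.exists_normal_four_of_comm (P := P)
      (A := A.map (P : Subgroup H).subtype) P.2 (map_subtype_le A)
      (by
        have := le_normalizer_map (H := A) (P : Subgroup H).subtype
        rwa [normalizer_eq_top, ← MonoidHom.range_eq_map, range_subtype] at this)
      inferInstance (fun h => hnc (isCyclic_of_surjective e.symm e.symm.surjective))
    have h4 : Nat.card U = 4 := hU.card_four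
    have hu : ∀ u : U, u ≠ 1 → ∀ v : V, (u : H) • v = v⁻¹ := fun u hu =>
      hI u (by
        rw [orderOf_coe]
        exact orderOf_eq_prime (hU.exponent_two ▸ Monoid.pow_exponent_eq_one u) hu)
        (relIndex_le_two P.2 h4 hn u.2 fun h => hu (Subtype.ext h))
    haveI := Fintype.ofFinite U
    obtain ⟨a, b, c, hab, hac, hbc⟩ := Fintype.two_lt_card_iff.1
      (show 2 < Fintype.card U by rw [← Nat.card_eq_fintype_card, h4]; norm_num)
    have key : ∀ x y : U, x ≠ 1 → y ≠ 1 → x = y := fun x y hx hy =>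
      Subtype.ext (eq_of_smul_eq_smul (α := V) fun v => by rw [hu x hx, hu y hy])
    by_cases ha : a = 1
    · exact hbc (key b c (ha ▸ hab.symm) (ha ▸ hac.symm))
    · by_cases hb : b = 1
      · exact hac (key a c ha (hb ▸ hbc.symm))
      · exact hab (key a b ha hb)
  have hnc : ¬ IsCyclic P := fun h => by
    have h3 := IsCyclic.isComplement' ((Nat.minFac_eq_two_iff _).2 h2) h
    letI := h.commGroup
    have h4 := Abelianization.commutator_subset_ker (MonoidHom.transferSylow P
      (h.normalizer_le_centralizer ((Nat.minFac_eq_two_iff _).2 h2)))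
    rw [hH, top_le_iff] at h4
    rw [h4, isComplement'_top_left] at h3
    exact P.not_dvd_index (by rw [h3, index_bot]; exact h2)
  obtain ⟨a, b, m, ha, hi, hb, hab⟩ := PGrp.exists_gens_of_normal_abelian_cyclic P.2 hA hnc
  have hi' : (zpowers (a : H)).relIndex P = 2 := by
    refine Eq.trans ?_ hi
    rw [relIndex]; congr 1
    ext x
    rw [mem_subgroupOf]
    exact (MonoidHom.map_zpowers (P : Subgroup H).subtype a ▸
      mem_map_iff_mem (K := zpowers a) (x := x) (subtype_injective _))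
  have hI1 : ∀ t ∈ zpowers (a : H), orderOf t = 2 → ∀ v : V, t • v = v⁻¹ := fun t ht h2 =>
    hI t h2 ((relIndex_le_of_le_left (le_centralizer_of_comm inferInstance ht)
      (hi'.trans_ne two_ne_zero)).trans hi'.le)
  have hI2 : ∀ t ∈ (P : Subgroup H), orderOf t = 2 → ∀ v : V, t • v = v⁻¹ := fun t ht h2 => by
    by_cases h : t ∈ zpowers (a : H)
    · exact hI1 t h h2
    rcases S0111.result P _ (zpowers_le.2 a.2) hi' t h2 ht h with ⟨M, -, hM, -⟩ | ⟨g, hg⟩
    · exact absurd hM (index_ne_two hH M)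
    · intro v
      have := hI1 _ hg (by rw [← h2]; exact (MulAut.conj g).orderOf_eq t) (g • v)
      rw [← mul_smul, inv_mul_cancel_right, mul_smul, ← smul_inv'] at this
      exact MulAction.injective g this
  have hz : orderOf ((a : H) ^ 2 ^ m) = 2 := by
    rw [orderOf_pow_of_dvd (by positivity) (by rw [orderOf_coe, ha]; exact pow_dvd_pow 2 (by omega)),
      orderOf_coe, ha, pow_succ, Nat.mul_div_cancel_left _ (by positivity)]
  have hb2 : b ^ 2 ≠ 1 := fun h => hb (by
    have h3 : orderOf (b : H) = 2 := by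
      rw [orderOf_coe]; exact orderOf_eq_prime h fun e => hb (e ▸ one_mem _)
    have : b = a ^ 2 ^ m := Subtype.ext (eq_of_smul_eq_smul (α := V) fun v => by
      rw [hI2 _ b.2 h3, coe_pow, hI1 _ (npow_mem_zpowers _ _) hz])
    exact this ▸ npow_mem_zpowers _ _)
  obtain ⟨hm, -, hab⟩ : 1 ≤ m ∧ b ^ 2 = a ^ 2 ^ m ∧ b * a * b⁻¹ = a⁻¹ := by tauto
  obtain ⟨t, ht⟩ := exists_ne (1 : H)
  obtain ⟨v, hv⟩ := hfa t ht
  have hv1 : v ≠ 1 := fun e => hv (by rw [e, smul_one])
  haveI : Nontrivial V := ⟨v, 1, hv1⟩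
  obtain ⟨n, hn0, hn⟩ := hV.nontrivial_iff_card.1 inferInstance
  have hqo : Odd q := (Nat.odd_pow_iff hn0.ne').1 (hn ▸ hVo)
  have hexp : ∀ w : V, w ^ q = 1 := by
    obtain ⟨u, hu⟩ := exists_prime_orderOf_dvd_card' (G := V) q (hn ▸ dvd_pow_self q hn0.ne')
    have := (hirr (powMonoidHom q : V →* V).ker fun h w hw => by
      have e : w ^ q = 1 := hw
      show (h • w) ^ q = 1
      rw [← smul_pow', e, smul_one]).resolve_left fun e => ne_one_of_orderOf_prime hq hu
        (mem_bot.1 (e ▸ (show u ^ q = 1 from hu ▸ pow_orderOf_eq_one u)))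
    exact fun w => show w ∈ (powMonoidHom q : V →* V).ker from this ▸ mem_top w
  have hd := dim2 (A := Additive V) (Representation.ofMulDistribMulAction H V)
    (fun x y e => eq_of_smul_eq_smul (α := V) fun w =>
      congrArg (fun f : Module.End ℤ (Additive V) => (f (Additive.ofMul w)).toMul) e)
    hq hqo (fun w => hexp w.toMul) (a := a) (b := b) hm (by rw [orderOf_coe, ha])
    (congrArg Subtype.val hab) fun W hW => by
      let W' : Subgroup V :=
        { carrier := {v | Additive.ofMul v ∈ W}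
          one_mem' := W.zero_mem
          mul_mem' := fun h1 h2 => W.add_mem h1 h2
          inv_mem' := fun h1 => W.neg_mem h1 }
      have := irr_of_le_two hH hirr hP hi'.le W' fun g hg w hw => by
          obtain ⟨k, rfl⟩ := (mem_zpowers_iff_mem_range_orderOf.1 hg |> Finset.mem_image.1).imp
            fun _ h => h.2
          induction k with
          | zero => simpa using hw
          | succ k ih =>
            rw [pow_succ', mul_smul]
            exact hW _ (ih (npow_mem_zpowers _ _))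
      refine this.imp (fun e => ?_) fun e => ?_
      · exact (Submodule.eq_bot_iff _).2 fun w hw =>
          show w.toMul = 1 from mem_bot.1 (e ▸ (hw : w.toMul ∈ W'))
      · exact eq_top_iff.2 fun w _ =>
          show w.toMul ∈ W' from e ▸ mem_top _
  replace hd : Nat.card V ≤ q ^ 2 := hd
  obtain ⟨r, hr, hrH, hr2⟩ : ∃ r : ℕ, r.Prime ∧ r ∣ Nat.card H ∧ r ≠ 2 := by
    by_contra! h
    haveI := (isPGroup_iff_forall_prime.2 h).isNilpotent
    exact hns inferInstance
  have hcop : ∀ k, r.Coprime (2 ^ k) := fun k =>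
    ((Nat.coprime_primes hr Nat.prime_two).2 hr2).pow_right k
  obtain ⟨s, hs, hsr⟩ := exists_prime_orderOf_mem (H := MulAction.stabilizer H v) hr (by
    obtain ⟨k, hk⟩ := ho v
    rw [← (MulAction.stabilizer H v).card_mul_index, hk] at hrH
    exact (hcop k).dvd_of_dvd_mul_right hrH)
  haveI := Fintype.ofFinite (zpowers s)
  have hc' : (Nat.card (zpowers s)).Coprime (Nat.card V) :=
    hc.coprime_dvd_left (card_subgroup_dvd_card _)
  have hfix : ∀ w : V, s • w = w → w ∈ (nrm (zpowers s) V).ker → w = 1 := fun w h1 h2 =>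
    eq_one_of_nrm hc' (fun g => (zpowers_le.2 (show s ∈ MulAction.stabilizer H w from h1)) g.2) h2
  have hY : ∀ w, nrm (zpowers s) V (s • w) = nrm (zpowers s) V w := fun w =>
    nrm_smul (⟨s, mem_zpowers s⟩ : zpowers s) w
  generalize nrm (zpowers s) V = N at hfix hY
  have hY1 : N.ker ≠ ⊤ := fun e => hv1 (hfix v hs (e ▸ mem_top v))
  obtain ⟨u, hu⟩ := hfa s (ne_one_of_orderOf_prime hr hsr)
  have hw : u⁻¹ * s • u ∈ N.ker := by rw [MonoidHom.mem_ker, map_mul, map_inv, hY, inv_mul_cancel]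
  have hw1 : u⁻¹ * s • u ≠ 1 := fun e => hu (inv_mul_eq_one.1 e).symm
  generalize u⁻¹ * s • u = w at hw hw1
  have hwq : orderOf w = q := orderOf_eq_prime (hexp w) hw1
  have hYw : zpowers w = N.ker := by
    refine eq_of_le_of_card_ge (zpowers_le.2 hw) ?_
    rw [Nat.card_zpowers, hwq]
    have h3 : N.ker.index ≠ 1 := fun e => hY1 (index_eq_one.1 e)
    obtain ⟨j, hj⟩ := hV.index N.ker
    have h4 := N.ker.card_mul_index
    have h5 : q ≤ N.ker.index := by
      rw [hj] at h3 ⊢
      exact Nat.le_self_pow (fun e => h3 (by rw [e, pow_zero])) q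
    have h6 := Nat.mul_le_mul_left (Nat.card N.ker) h5
    rw [h4] at h6
    exact Nat.le_of_mul_le_mul_right (h6.trans (sq q ▸ hd)) hq.pos
  obtain ⟨k, hk⟩ := mem_zpowers_iff.1 (hYw ▸ (show s • w ∈ N.ker by
    rw [MonoidHom.mem_ker, hY]; exact hw))
  have hsn : s⁻¹ ∈ normalizer (MulAction.stabilizer H w : Set H) :=
    mem_normalizer_fintype fun g hg => by
      have e : g • w = w := hg
      show (s⁻¹ * g * s⁻¹⁻¹) • w = w
      rw [inv_inv, mul_smul, mul_smul, ← hk, smul_zpow', e, hk, inv_smul_smul]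
  have h3 : s ^ (MulAction.stabilizer H w).relIndex (normalizer (MulAction.stabilizer H w : Set H)) ∈
      MulAction.stabilizer H w :=
    pow_index_mem (H := (MulAction.stabilizer H w).subgroupOf _) ⟨s, inv_mem_iff.1 hsn⟩
  obtain ⟨j, hj⟩ := ho w
  refine hw1 (hfix w (zpowers_le.2 h3 (mem_zpowers_pow_iff.2 ?_)) hw)
  rw [hsr]
  exact ((hcop j).coprime_dvd_right (hj ▸ relIndex_dvd_index_of_le le_normalizer)).symm

theorem main [Finite H] [Finite V] {p q : ℕ} (hp : p.Prime) (hq : q.Prime)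
    (hV : IsPGroup q V) (hc : (Nat.card H).Coprime (Nat.card V)) (hH : _root_.commutator H = ⊤)
    (ho : ∀ v : V, ∃ k, (MulAction.stabilizer H v).index = p ^ k) (h : H) (v : V) : h • v = v := by
  classical
  haveI := Fintype.ofFinite H
  by_contra hv
  obtain ⟨W, ⟨hW, g, w, hw, hgw⟩, hmin⟩ := (wellFounded_lt (α := Subgroup V)).has_min
    {W | (∀ h : H, ∀ w ∈ W, h • w ∈ W) ∧ ∃ h : H, ∃ w ∈ W, h • w ≠ w}
    ⟨⊤, fun _ _ _ => mem_top _, h, v, mem_top _, hv⟩
  have hlt : ∀ U < W, (∀ h : H, ∀ w ∈ U, h • w ∈ U) → ∀ h : H, ∀ u ∈ U, h • u = u :=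
    fun U hU h1 h u hu => by
      by_contra h2
      exact hmin U ⟨h1, h, u, hu, h2⟩ hU
  have hker : W ≤ (nrm H V).ker := by
    by_contra h1
    have h2 := hlt (W ⊓ (nrm H V).ker) (inf_lt_left.2 h1) fun h u hu =>
      mem_inf.2 ⟨hW h u hu.1, by rw [MonoidHom.mem_ker, nrm_smul]; exact hu.2⟩
    have h3 : w⁻¹ * g • w ∈ W ⊓ (nrm H V).ker := mem_inf.2 ⟨mul_mem (inv_mem hw) (hW g w hw), by
      rw [MonoidHom.mem_ker, map_mul, map_inv, nrm_smul, inv_mul_cancel]⟩
    exact hgw (inv_mul_eq_one.1 (eq_one_of_nrm hc (fun h => h2 h _ h3) h3.2)).symm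
  letI : MulDistribMulAction H W :=
    { smul := fun h w => ⟨h • w.1, hW h w w.2⟩
      one_smul := fun w => Subtype.ext (one_smul H w.1)
      mul_smul := fun a b w => Subtype.ext (mul_smul a b w.1)
      smul_one := fun h => Subtype.ext (smul_one h)
      smul_mul := fun h a b => Subtype.ext (smul_mul' h a.1 b.1) }
  let φ := MulDistribMulAction.toMulAut H W
  have := core (H := φ.range) (V := W) hp hq (hV.to_subgroup W)
    ((hc.coprime_dvd_left (card_range_dvd φ)).coprime_dvd_right (card_subgroup_dvd_card W))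
    (by
      have h1 := map_top_of_surjective _ φ.rangeRestrict_surjective
      rw [_root_.commutator, ← h1, ← map_commutator]
      exact congrArg _ hH)
    (fun U hU => by
      by_cases h1 : U = ⊤
      · exact Or.inr h1
      refine Or.inl (eq_bot_iff.2 fun u hu => ?_)
      have h2 := hlt (U.map W.subtype) (lt_of_le_of_ne (map_subtype_le U) fun e => h1 (by
        rw [← comap_map_eq_self_of_injective W.subtype_injective U, e, comap_subtype,
          subgroupOf_self])) (by
        rintro h _ ⟨x, hx, rfl⟩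
        exact ⟨_, hU ⟨φ h, h, rfl⟩ x hx, rfl⟩)
      exact Subtype.ext (eq_one_of_nrm hc (fun h => h2 h _ ⟨u, hu, rfl⟩) (hker u.2)))
    (fun x => by
      obtain ⟨k, hk⟩ := ho x.1
      refine ⟨k, ?_⟩
      rw [← hk, ← index_comap_of_surjective _ φ.rangeRestrict_surjective]
      congr 1
      ext h
      exact Subtype.ext_iff)
  have e : φ.rangeRestrict g = 1 := Subsingleton.elim _ _
  exact hgw (congrArg (fun f : φ.range => (f.1 ⟨w, hw⟩ : V)) e)

end POrb

end Cfsg.Agent.FGS
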