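import Mathlib
import Cfsg.Agent.S0016
import Cfsg.Agent.PGrp.CyclicOdd
import Cfsg.Agent.Core.Coprime2
import Cfsg.Agent.FGS.Basic2
import Cfsg.Agent.FGS.Super

/-!
# FGS/EqOrd: groups in which `p`-subgroups of equal order are conjugate
-/

set_option autoImplicit false

open Subgroup
open scoped commutatorElement

namespace Cfsg.Agent.FGS

variable {G : Type*} [Group G]

theorem zpowers_eq_of_card_prime [Finite G] {p : ℕ} (hp : p.Prime) {H : Subgroup G}
    (hH : Nat.card H = p) {x : G} (hx : x ∈ H) (h1 : x ≠ 1) : zpowers x = H := by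
  refine Core.eq_of_le_of_card_le (zpowers_le.mpr hx) ?_
  have h2 : orderOf x = p := ((Nat.dvd_prime hp).mp (hH ▸ orderOf_dvd_card_of_mem hx)).resolve_left
    (by simpa using h1)
  rw [Nat.card_zpowers, h2, hH]

theorem orderOf_eq_prime' {p : ℕ} (hp : p.Prime) {x : G} (h : x ^ p = 1) (h1 : x ≠ 1) :
    orderOf x = p :=
  have := Fact.mk hp
  orderOf_eq_prime h h1

theorem exists_central_orderOf_eq [Finite G] {p : ℕ} [Fact p.Prime] {P : Subgroup G}
    (hP : IsPGroup p P) (hne : P ≠ ⊥) :
    ∃ z ∈ P, z ∈ centralizer (P : Set G) ∧ orderOf z = p := by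
  have : Nontrivial P := (nontrivial_iff_ne_bot P).mpr hne
  obtain ⟨z, -, hz, ho⟩ := PGrp.exists_mem_center_orderOf_eq hP ⊤ top_ne_bot
  exact ⟨z, z.2, fun y hy => congrArg Subtype.val (mem_center_iff.mp hz ⟨y, hy⟩), by simpa using ho⟩

theorem forall_of_eq_map_conj {H K : Subgroup G} {g : G} (h : K = H.map (MulAut.conj g).toMonoidHom)
    {n : ℕ} (hH : ∀ x ∈ H, x ^ n = 1) : ∀ x ∈ K, x ^ n = 1 := by
  rw [h]
  rintro _ ⟨x, hx, rfl⟩
  rw [← map_pow, hH x hx, map_one]

theorem comm_of_eq_map_conj {H K : Subgroup G} {g : G} (h : K = H.map (MulAut.conj g).toMonoidHom)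
    (hH : IsMulCommutative H) : IsMulCommutative K := by
  rw [h]
  refine Core.isMulCommutative_of_forall ?_
  rintro _ ⟨x, hx, rfl⟩ _ ⟨y, hy, rfl⟩
  rw [← map_mul, Core.comm_of_isMulCommutative hH hx hy, map_mul]

/-- If abelian `p`-subgroups of equal order are conjugate, then a `p`-subgroup has at most one
subgroup of order `p` or has exponent `p`. -/
theorem unique_or_exponent [Finite G] {p : ℕ} [hp : Fact p.Prime]
    (hC : ∀ H K : Subgroup G, IsMulCommutative H → IsMulCommutative K → IsPGroup p H →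
      Nat.card H = Nat.card K → ∃ g : G, K = H.map (MulAut.conj g).toMonoidHom)
    {P : Subgroup G} (hP : IsPGroup p P) :
    (∀ H K : Subgroup P, Nat.card H = p → Nat.card K = p → H = K) ∨ ∀ x ∈ P, x ^ p = 1 := by
  rcases eq_or_ne P ⊥ with rfl | hne
  · right
    intro x hx
    rw [mem_bot.mp hx, one_pow]
  obtain ⟨z, hzP, hz, hzo⟩ := exists_central_orderOf_eq hP hne
  refine or_iff_not_imp_left.mpr fun hn => ?_
  obtain ⟨h, hhP, hh, hhz⟩ : ∃ h ∈ P, h ^ p = 1 ∧ h ∉ zpowers z := by
    by_contra hc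
    push Not at hc
    apply hn
    have key : ∀ H : Subgroup P, Nat.card H = p → H = zpowers ⟨z, hzP⟩ := by
      intro H hH
      refine Core.eq_of_le_of_card_le (fun x hx => ?_) ?_
      · obtain ⟨i, hi⟩ := hc x x.2 (by
          have := orderOf_dvd_iff_pow_eq_one.mp (hH ▸ orderOf_dvd_card_of_mem hx)
          exact congrArg Subtype.val this)
        exact ⟨i, Subtype.ext hi⟩
      · rw [Nat.card_zpowers, hH, ← hzo]
        simp
    intro H K hH hK
    rw [key H hH, key K hK]
  have hhc : h ∈ centralizer ((zpowers z : Subgroup G) : Set G) := by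
    rw [PGrp.centralizer_zpowers]
    exact mem_centralizer_singleton_iff.mpr (hz h hhP)
  have hE := PGrp.isMulCommutative_sup_zpowers inferInstance hhc
  have hEc := PGrp.card_sup_zpowers hp.out (centralizer_le_normalizer _ hhc) (hh ▸ one_mem _) hhz
  have hEe : ∀ x ∈ zpowers z ⊔ zpowers h, x ^ p = 1 := by
    intro x hx
    obtain ⟨_, ⟨i, rfl⟩, j, rfl⟩ := (PGrp.mem_sup_zpowers (centralizer_le_normalizer _ hhc)).mp hx
    have hc : Commute z h := (hz h hhP).symm
    rw [(hc.zpow_zpow i j).mul_pow, ← zpow_natCast, ← zpow_natCast, zpow_comm, zpow_comm h,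
      zpow_natCast, zpow_natCast, hh, ← hzo, pow_orderOf_eq_one, one_zpow, one_zpow, one_mul]
  intro x hx
  by_contra hxp
  obtain ⟨k, hk⟩ := exists_orderOf_eq_of_mem hP hx
  have h2 : p ^ 2 ∣ orderOf x := by
    rw [hk]
    refine pow_dvd_pow p ?_
    by_contra hlt
    exact hxp (orderOf_dvd_iff_pow_eq_one.mp
      (hk ▸ (pow_dvd_pow p (by omega : k ≤ 1)).trans (pow_one p).dvd))
  obtain ⟨j, hj⟩ := exists_pow_orderOf_eq h2
  obtain ⟨g, hg⟩ := hC _ (zpowers (x ^ j)) hE inferInstance
    (hP.to_le (sup_le (zpowers_le.mpr hzP) (zpowers_le.mpr hhP)))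
    (by rw [hEc, Nat.card_zpowers, Nat.card_zpowers, hj, hzo, sq])
  have h3 := orderOf_dvd_of_pow_eq_one (forall_of_eq_map_conj hg hEe _ (mem_zpowers _))
  rw [hj] at h3
  have := Nat.le_of_dvd hp.out.pos h3
  have := hp.out.one_lt
  nlinarith

/-- A generalized quaternion group of order at least 16 contains a cyclic and a non-abelian
subgroup of order 8. -/
theorem exists_card_eight {n : ℕ} (e : G ≃* QuaternionGroup (2 ^ (n + 2))) :
    ∃ H K : Subgroup G, Nat.card H = 8 ∧ Nat.card K = 8 ∧ IsMulCommutative H ∧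
      ¬ IsMulCommutative K := by
  have : NeZero (2 ^ (n + 2)) := ⟨by positivity⟩
  have : Finite G := Finite.of_equiv _ e.symm.toEquiv
  set c := e.symm (QuaternionGroup.a 1)
  set v := e.symm (QuaternionGroup.xa 0)
  have hc : orderOf c = 2 ^ (n + 3) := by
    rw [MulEquiv.orderOf_eq, QuaternionGroup.orderOf_a_one]; ring
  have h1 : v * c * v⁻¹ = c⁻¹ := by
    rw [mul_inv_eq_iff_eq_mul, eq_inv_mul_iff_mul_eq, ← map_mul, ← map_mul]
    simp [v]
  have h2 : v ^ 2 = c ^ 2 ^ (n + 2) := by
    rw [← map_pow, ← map_pow, QuaternionGroup.xa_sq, QuaternionGroup.a_one_pow]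
  set u := c ^ 2 ^ (n + 1) with hu
  have hu4 : orderOf u = 4 := by
    rw [hu, orderOf_pow_of_dvd (by positivity) (hc ▸ pow_dvd_pow 2 (by omega)), hc,
      Nat.pow_div (by omega) two_pos, show n + 3 - (n + 1) = 2 by omega]
    rfl
  have h3 : v * u * v⁻¹ = u⁻¹ := by rw [hu, ← conj_pow, h1, inv_pow]
  have h4 : ¬ v * u = u * v := by
    intro h
    rw [h, mul_inv_cancel_right, ← mul_eq_one_iff_eq_inv, ← sq] at h3
    have := orderOf_dvd_of_pow_eq_one h3
    rw [hu4] at this
    omega
  refine ⟨zpowers (c ^ 2 ^ n), zpowers u ⊔ zpowers v, ?_, ?_, inferInstance, fun h => h4 ?_⟩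
  · rw [Nat.card_zpowers, orderOf_pow_of_dvd (by positivity) (hc ▸ pow_dvd_pow 2 (by omega)), hc,
      Nat.pow_div (by omega) two_pos, show n + 3 - n = 3 by omega]
    rfl
  · rw [PGrp.card_sup_zpowers Nat.prime_two, Nat.card_zpowers, hu4]
    · refine mem_normalizer_fintype ?_
      rintro _ ⟨i, rfl⟩
      simp only
      rw [← conj_zpow, h3]
      exact zpow_mem (inv_mem (mem_zpowers u)) i
    · rw [h2, pow_succ, pow_mul]
      exact pow_mem (mem_zpowers u) 2
    · rintro ⟨i, hi⟩
      simp only at hi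
      exact h4 (hi ▸ ((Commute.refl u).zpow_left i).eq)
  · exact Core.comm_of_isMulCommutative h (mem_sup_right (mem_zpowers v)) (mem_sup_left (mem_zpowers u))

/-- Structure of a non-abelian group of exponent `p` whose subgroups of order `p ^ 3` are all
abelian or all non-abelian. -/
theorem card_eq_cube [Finite G] {p : ℕ} [hp : Fact p.Prime] (he : ∀ x : G, x ^ p = 1)
    (hna : ¬ IsMulCommutative G) (h : ∀ H K : Subgroup G, Nat.card H = p ^ 3 → Nat.card K = p ^ 3 →
      IsMulCommutative H → IsMulCommutative K) : Nat.card G = p ^ 3 := by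
  have hG : IsPGroup p G := fun x => ⟨1, by simpa using he x⟩
  obtain ⟨x, -, hx, -, hx2⟩ := PGrp.exists_central_mod_normal hG ⊤ (center G) fun h =>
    hna ⟨⟨fun a b => mem_center_iff.mp (h (mem_top b)) a⟩⟩
  obtain ⟨y, hy⟩ : ∃ y : G, ⁅x, y⁆ ≠ 1 := by
    by_contra hc
    push Not at hc
    exact hx (mem_center_iff.mpr fun g => (commutatorElement_eq_one_iff_mul_comm.mp (hc g)).symm)
  have hz := hx2 y
  set z := ⁅x, y⁆ with hzdef
  have hZ : zpowers z ≤ center G := zpowers_le.mpr hz
  have := PGrp.normal_of_le_center hZ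
  have hA : Nat.card (zpowers z ⊔ zpowers x : Subgroup G) = p ^ 2 := by
    rw [PGrp.card_sup_zpowers hp.out (le_normalizer_of_normal (mem_top x)) (he x ▸ one_mem _)
      (fun h => hx (hZ h)), Nat.card_zpowers, orderOf_eq_prime (he z) hy, sq]
  have hAc : IsMulCommutative (zpowers z ⊔ zpowers x : Subgroup G) :=
    PGrp.isMulCommutative_sup_zpowers inferInstance fun g hg => (mem_center_iff.mp (hZ hg) x).symm
  have hCA : centralizer ((zpowers z ⊔ zpowers x : Subgroup G) : Set G) = centralizer {x} := by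
    rw [PGrp.centralizer_sup_zpowers, centralizer_eq_top_iff_subset.mpr hZ, top_inf_eq]
  have hyA : y ∉ zpowers z ⊔ zpowers x := fun h => hy (commutatorElement_eq_one_iff_mul_comm.mpr
    (Core.comm_of_isMulCommutative hAc (mem_sup_right (mem_zpowers x)) h))
  have hyn : y ∈ normalizer ((zpowers z ⊔ zpowers x : Subgroup G) : Set G) := by
    refine PGrp.le_normalizer_of_commutator_le (N := zpowers z) (P := zpowers y) le_sup_left ?_
      (mem_zpowers y)
    refine PGrp.commutator_sup_zpowers_le le_normalizer_of_normal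
      (le_normalizer_of_normal (mem_top x)) ?_
    rintro _ ⟨i, rfl⟩
    exact PGrp.commutator_symm_mem (PGrp.commutator_zpow_left_mem
      (le_normalizer_of_normal (mem_top y)) (PGrp.commutator_symm_mem (mem_zpowers z)) i)
  have hK : Nat.card (zpowers z ⊔ zpowers x ⊔ zpowers y : Subgroup G) = p ^ 3 := by
    rw [PGrp.card_sup_zpowers hp.out hyn (he y ▸ one_mem _) hyA, hA, ← pow_succ]
  have hC : centralizer ({x} : Set G) ≤ zpowers z ⊔ zpowers x := by
    intro w hw
    by_contra hn
    rw [← hCA] at hw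
    have := h (zpowers z ⊔ zpowers x ⊔ zpowers w) _ (by
      rw [PGrp.card_sup_zpowers hp.out (centralizer_le_normalizer _ hw) (he w ▸ one_mem _) hn, hA,
        ← pow_succ]) hK (PGrp.isMulCommutative_sup_zpowers hAc hw)
    exact hy (commutatorElement_eq_one_iff_mul_comm.mpr (Core.comm_of_isMulCommutative this
      (mem_sup_left (mem_sup_right (mem_zpowers x))) (mem_sup_right (mem_zpowers y))))
  have h1 : center G < zpowers z ⊔ zpowers x :=
    lt_of_le_of_ne ((center_le_centralizer _).trans hC) fun e =>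
      hx (e ▸ mem_sup_right (mem_zpowers x))
  have h2 : Nat.card (center G) ≤ p := by
    obtain ⟨k, hk⟩ := PGrp.exists_card_eq_pow hG (center G)
    have := Core.card_lt_of_lt h1
    rw [hk, hA, Nat.pow_lt_pow_iff_right hp.out.one_lt] at this
    rw [hk]
    exact (Nat.pow_le_pow_right hp.out.pos (by omega : k ≤ 1)).trans (pow_one p).le
  have h3 := (PGrp.index_centralizer_singleton_le (W := center G) (x := x)
    fun g => PGrp.commutator_symm_mem (hx2 g)).trans h2
  refine le_antisymm ?_ (hK ▸ card_le_card_group _)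
  rw [← (centralizer ({x} : Set G)).index_mul_card, pow_succ']
  exact Nat.mul_le_mul h3 (hA ▸ card_le_of_le hC)

end Cfsg.Agent.FGS
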