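import Mathlib
import Cfsg.Agent.S0256
import Cfsg.Agent.S0496
import Cfsg.Agent.S0494
import Cfsg.Agent.S0989
import Cfsg.Agent.S0990
import Cfsg.Agent.S1016
import Cfsg.Agent.Max.SymIdx
import Cfsg.Agent.Perm.Small
import Cfsg.Agent.Perm.MinNormalProd
import Cfsg.Agent.Core.MinNormal
import Cfsg.Agent.Classical.SLBasic

/-! Subgroups of the alternating group of degree 8. -/

set_option autoImplicit false

namespace Cfsg.Agent.FGS

open Subgroup Equiv MulAction
open scoped Pointwise

theorem gl_equiv_psl {ι F : Type*} [Fintype ι] [DecidableEq ι] [Nonempty ι] [Field F] [Finite F]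
    (hF : Nat.card F = 2) : Nonempty (GL ι F ≃* Matrix.ProjectiveSpecialLinearGroup ι F) := by
  have h1 : Nat.card Fˣ = 1 := by rw [Nat.card_units, hF]
  have h2 : center (Matrix.SpecialLinearGroup ι F) = ⊥ := by
    rw [← card_eq_one, Classical.SLBasic.card_center_SL, hF]; simp
  have : Subsingleton Fˣ := (Nat.card_eq_one_iff_unique.mp h1).1
  refine ⟨(MulEquiv.ofBijective (Matrix.SpecialLinearGroup.toGL : Matrix.SpecialLinearGroup ι F →* GL ι F)
    ⟨Matrix.SpecialLinearGroup.toGL_injective, ?_⟩).symm.trans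
    ((QuotientGroup.quotientMulEquivOfEq h2).trans QuotientGroup.quotientBot).symm⟩
  rw [← MonoidHom.range_eq_top, Classical.SLBasic.range_toGL_eq_ker, eq_top_iff]
  exact fun g _ => Subsingleton.elim _ _

theorem gl4_equiv {F : Type*} [Field F] [Fintype F] (hF : Fintype.card F = 2) :
    Nonempty (GL (Fin 4) F ≃* alternatingGroup (Fin 8)) := by
  obtain ⟨e⟩ := gl_equiv_psl (ι := Fin 4) (F := F) (by rw [Nat.card_eq_fintype_card, hF])
  obtain ⟨f⟩ := S0256.result hF
  exact ⟨e.trans f⟩

theorem card_A8 : Nat.card (alternatingGroup (Fin 8)) = 20160 := by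
  have := Max.two_mul_card_alt (Ω := Fin 8) (by simp)
  simp only [Nat.card_fin] at this
  rw [show Nat.factorial 8 = 40320 by decide] at this
  omega

variable {G : Type*} [Group G] [Finite G]

theorem alt_or_sym_of_inj {β : Type*} [Finite β] {n : ℕ} (hβ : Nat.card β = n) (φ : G →* Perm β)
    (hφ : Function.Injective φ) (h : n.factorial ≤ 2 * Nat.card G) :
    (2 * Nat.card G = n.factorial ∧ Nonempty (G ≃* alternatingGroup (Fin n))) ∨
      (Nat.card G = n.factorial ∧ Nonempty (G ≃* Perm (Fin n))) := by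
  let e : β ≃ Fin n := Finite.equivFinOfCardEq hβ
  let ψ : G →* Perm (Fin n) := e.permCongrHom.toMonoidHom.comp φ
  have hψ : Function.Injective ψ := e.permCongrHom.injective.comp hφ
  have h1 := ψ.range.card_mul_index
  rw [← Nat.card_congr (MonoidHom.ofInjective hψ).toEquiv, Nat.card_perm, Nat.card_fin] at h1
  have h2 : ψ.range.index ≤ 2 := Nat.le_of_mul_le_mul_left (by rw [h1]; omega) (Nat.card_pos (α := G))
  have h3 := ψ.range.index_ne_zero_of_finite
  rcases (show ψ.range.index = 2 ∨ ψ.range.index = 1 by omega) with h4 | h4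
  · exact Or.inl ⟨by rw [← h1, h4, mul_comm], ⟨(MonoidHom.ofInjective hψ).trans
      (MulEquiv.subgroupCongr (Perm.eq_alternatingGroup_of_index_eq_two h4))⟩⟩
  · exact Or.inr ⟨by rw [← h1, h4, mul_one], ⟨MulEquiv.ofBijective ψ ⟨hψ, MonoidHom.range_eq_top.mp (index_eq_one.mp h4)⟩⟩⟩

theorem orbit_triv [IsSimpleGroup G] (hG : ¬ IsMulCommutative G) {X : Type*} [MulAction G X] (x : X)
    (h : ¬ 2 * Nat.card G ∣ (orbit G x).ncard.factorial) (g : G) : g • x = x := by
  by_contra h1
  refine h ?_
  rw [← index_stabilizer]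
  exact Perm.two_mul_card_dvd_factorial hG _ fun e => h1 (show g ∈ stabilizer G x from e ▸ mem_top g)

theorem pairs_le : ∀ v : Fin 4 → ZMod 2, v ≠ 0 →
    (((Finset.univ.erase 0).erase v).image fun w => ({w, w + v} : Finset (Fin 4 → ZMod 2))).card ≤ 7 := by
  decide +kernel

theorem ne_1344 (f : G →* alternatingGroup (Fin 8)) (hf : Function.Injective f) [IsSimpleGroup G] :
    Nat.card G ≠ 1344 := fun h => by
  have hG : ¬ IsMulCommutative G := Perm.not_comm_of_not_prime (by rw [h]; norm_num)
  obtain ⟨e⟩ := gl4_equiv (F := ZMod 2) rfl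
  let φ : G →* GL (Fin 4) (ZMod 2) := e.symm.toMonoidHom.comp f
  have hφ : Function.Injective φ := e.symm.injective.comp hf
  letI : DistribMulAction G (Fin 4 → ZMod 2) := DistribMulAction.compHom _ φ
  have key : ∀ k, k ≤ 7 → ¬ 2 * Nat.card G ∣ k.factorial := by rw [h]; decide
  have : Fact (Nat.Prime 2) := ⟨Nat.prime_two⟩
  obtain ⟨P⟩ : Nonempty (Sylow 2 G) := inferInstance
  obtain ⟨v, hv, hv0⟩ := P.2.exists_fixed_point_of_prime_dvd_card_of_fixed_point (Fin 4 → ZMod 2)
    (by simp) (a := 0) (fun g => smul_zero (g : G))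
  have h1 : ∀ g : G, g • v = v := by
    have h2 : (stabilizer G v).index ∣ (P : Subgroup G).index := index_dvd_of_le fun g hg => hv ⟨g, hg⟩
    have h3 := (P : Subgroup G).card_mul_index
    rw [Perm.sylow_card_eq P (a := 6) (m := 21) (by rw [h]; norm_num) (by norm_num), h] at h3
    rw [show (P : Subgroup G).index = 21 by omega, index_stabilizer] at h2
    have h4 : (orbit G v).ncard ≤ 16 := by simpa using Set.ncard_le_card (orbit G v)
    refine orbit_triv hG v (key _ ?_)
    have : ∀ k, k ≤ 16 → k ∣ 21 → k ≤ 7 := by decide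
    exact this _ h4 h2
  have h2 : ∀ (g : G) (w : Fin 4 → ZMod 2), g • g • w = w := fun g w => by
    by_cases hw : w = 0
    · simp [hw]
    by_cases hw' : w = v
    · rw [hw', h1, h1]
    have h3 : g • ({w, w + v} : Finset (Fin 4 → ZMod 2)) = {w, w + v} := by
      refine orbit_triv hG _ (key _ (le_trans ?_ (pairs_le v hv0.symm))) g
      rw [← Set.ncard_coe_finset]
      refine Set.ncard_le_ncard ?_
      rintro _ ⟨a, rfl⟩
      simp only [Finset.coe_image, Set.mem_image, Finset.mem_coe, Finset.mem_erase, Finset.mem_univ, and_true]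
      refine ⟨a • w, ⟨fun e => hw' (by rw [← inv_smul_smul a w, e, h1]), fun e => hw (by rw [← inv_smul_smul a w, e, smul_zero])⟩, ?_⟩
      simp [Finset.smul_finset_insert, h1]
    have h4 : g • w ∈ ({w, w + v} : Finset (Fin 4 → ZMod 2)) := h3 ▸ Finset.smul_mem_smul_finset (by simp)
    simp only [Finset.mem_insert, Finset.mem_singleton] at h4
    rcases h4 with h4 | h4
    · rw [h4, h4]
    · rw [h4, smul_add, h4, h1, add_assoc, ZModModule.add_self, add_zero]
  have : Fact (Nat.Prime 7) := ⟨by norm_num⟩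
  obtain ⟨g, hg⟩ := exists_prime_orderOf_dvd_card' (G := G) 7 (by rw [h]; norm_num)
  have h3 : g ^ 2 = 1 := hφ (by
    rw [map_one]
    refine Units.ext (Matrix.ext_of_mulVec_single fun i => ?_)
    have := h2 g (Pi.single i 1)
    rw [← mul_smul, ← sq] at this
    rw [Units.val_one, Matrix.one_mulVec]
    exact this)
  have := orderOf_dvd_of_pow_eq_one h3
  rw [hg] at this
  norm_num at this

theorem norm7 (f : G →* alternatingGroup (Fin 8)) (hf : Function.Injective f) {Q : Subgroup G} (hQ : Nat.card Q = 7) :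
    Nat.card (normalizer (Q : Set G)) ∣ 21 := by
  have : Fact (Nat.Prime 7) := ⟨by norm_num⟩
  have h1 : Nat.card ((Q.map f).map (alternatingGroup (Fin 8)).subtype) = 7 := by
    rw [card_map_of_injective (subtype_injective _), card_map_of_injective hf, hQ]
  let P : Sylow 7 (Perm (Fin 8)) := Sylow.ofCard _ (h1.trans (by
    rw [Nat.card_perm, Nat.card_fin, show Nat.factorial 8 = 7 * 5760 by decide,
      Nat.factorization_mul (by norm_num) (by norm_num)]
    simp [Nat.factorization_eq_zero_of_not_dvd, Nat.Prime.factorization_self (show Nat.Prime 7 by norm_num)]))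
  have h2 := (S0990.result (by simp) 7 (by norm_num) P).2
  rw [S0989.result 7 (by simp) P] at h2
  have h3 : (P : Subgroup (Perm (Fin 8))).subgroupOf (alternatingGroup (Fin 8)) = Q.map f :=
    comap_map_eq_self_of_injective (subtype_injective _) _
  rw [h3] at h2
  rw [← show Nat.card (normalizer (Q.map f : Set (alternatingGroup (Fin 8)))) = 21 by omega,
    ← card_map_of_injective hf]
  exact card_dvd_of_le (le_normalizer_map f)

theorem norm7_eq (f : G →* alternatingGroup (Fin 8)) (hf : Function.Injective f) [IsSimpleGroup G]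
    (hG : ¬ IsMulCommutative G) [Fact (Nat.Prime 7)] (P : Sylow 7 G) (h7 : 7 ∣ Nat.card G) :
    Nat.card P = 7 ∧ Nat.card (normalizer ((P : Subgroup G) : Set G)) = 21 := by
  have h0 := card_dvd_of_injective f hf
  rw [card_A8] at h0
  obtain ⟨m, hm⟩ := h7
  have hP : Nat.card P = 7 := Perm.sylow_card_eq P (a := 1) (m := m) (by simpa using hm) (by
    rintro ⟨k, rfl⟩
    rw [hm, ← mul_assoc] at h0
    exact absurd ((dvd_mul_right _ _).trans h0) (by norm_num))
  refine ⟨hP, ?_⟩
  have h1 := norm7 f hf hP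
  have h2 := card_dvd_of_le (le_normalizer (H := (P : Subgroup G)))
  have h3 : Nat.card (normalizer ((P : Subgroup G) : Set G)) ≠ 7 := fun e => by
    refine Perm.normalizer_not_le_centralizer hG P ⟨m, hm⟩ ?_
    rw [← eq_of_le_of_card_ge le_normalizer (e.trans hP.symm).le]
    have := isCyclic_of_prime_card hP
    exact le_centralizer _
  rw [hP] at h2
  have : ∀ k, k ≤ 21 → k ∣ 21 → 7 ∣ k → k ≠ 7 → k = 21 := by decide
  exact this _ (Nat.le_of_dvd (by norm_num) h1) h1 h2 h3

theorem range_A8 (f : G →* alternatingGroup (Fin 8)) (hf : Function.Injective f) :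
    Nat.card G * f.range.index = 20160 ∧ (f.range.index = 1 ∨ 8 ≤ f.range.index) := by
  have h1 := f.range.card_mul_index
  rw [← Nat.card_congr (MonoidHom.ofInjective hf).toEquiv, card_A8] at h1
  refine ⟨h1, ?_⟩
  by_cases h : f.range = ⊤
  · exact Or.inl (index_eq_one.mpr h)
  · have := alternatingGroup.isSimpleGroup (α := Fin 8) (by simp)
    exact Or.inr (Max.le_index_of_simple (by norm_num) (by rw [card_A8]; decide) h)

theorem simple_card_A8 (f : G →* alternatingGroup (Fin 8)) (hf : Function.Injective f) [IsSimpleGroup G]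
    (hG : ¬ IsMulCommutative G) : Nat.card G = 60 ∨ Nat.card G = 168 ∨ Nat.card G = 360 ∨ Nat.card G = 2520 ∨
      Nat.card G = 20160 := by
  obtain ⟨h1, h2⟩ := range_A8 f hf
  have : Fact (Nat.Prime 7) := ⟨by norm_num⟩
  have h3 : 7 ∣ Nat.card G → ∃ k, Nat.card G = 21 * (7 * k + 1) := fun h7 => by
    obtain ⟨P⟩ : Nonempty (Sylow 7 G) := inferInstance
    have h4 := Perm.card_sylow_mul P
    rw [(norm7_eq f hf hG P h7).2] at h4
    have h5 : Nat.card (Sylow 7 G) % 7 = 1 := card_sylow_modEq_one 7 G
    exact ⟨Nat.card (Sylow 7 G) / 7, by omega⟩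
  have h4 := ne_1344 f hf
  have h5 := S1016.result (G := G)
  by_cases h6 : Nat.card G ≤ 1092
  · rcases S0496.result hG h6 with h | h | h | h | h | h <;> rw [h] at h1 h3 ⊢ <;> omega
  · have h7 : f.range.index ≤ 18 := by nlinarith
    generalize f.range.index = k at *
    interval_cases k <;> omega

theorem case_2520 (f : G →* alternatingGroup (Fin 8)) (hf : Function.Injective f) (h : 2520 ∣ Nat.card G) :
    Nonempty (G ≃* alternatingGroup (Fin 7)) ∨ Nonempty (G ≃* alternatingGroup (Fin 8)) := by
  obtain ⟨h1, h2 | h2⟩ := range_A8 f hf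
  · exact Or.inr ⟨MulEquiv.ofBijective f ⟨hf, MonoidHom.range_eq_top.mp (index_eq_one.mp h2)⟩⟩
  obtain ⟨k, hk⟩ := h
  have h3 : k * f.range.index = 8 := by rw [hk, mul_assoc] at h1; omega
  have h4 : k = 1 := by
    rcases k with _ | _ | k
    · omega
    · rfl
    · nlinarith
  subst h4
  have := alternatingGroup.isSimpleGroup (α := Fin 8) (by simp)
  have h5 : f.range ≠ ⊤ := fun e => by rw [e, index_top] at h2; omega
  rcases alt_or_sym_of_inj (n := 7) (by rw [Max.card_other]; omega) ((Max.cosetRes f.range).comp f.rangeRestrict)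
    ((Max.cosetRes_injective (Max.core_eq_bot h5)).comp (MonoidHom.ofInjective hf).injective)
    (by rw [hk]; decide) with h | h
  · exact Or.inl h.2
  · rw [hk] at h; exact absurd h.1 (by decide)

theorem case_168 (f : G →* alternatingGroup (Fin 8)) (hf : Function.Injective f) (N : Subgroup G) [N.Normal]
    [IsSimpleGroup N] (h : Nat.card N = 168) : N = ⊤ := by
  have : Fact (Nat.Prime 7) := ⟨by norm_num⟩
  obtain ⟨P⟩ : Nonempty (Sylow 7 N) := inferInstance
  obtain ⟨h1, h2⟩ := norm7_eq (f.comp N.subtype) (hf.comp (subtype_injective N))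
    (Perm.not_comm_of_not_prime (by rw [h]; norm_num)) P (by rw [h]; norm_num)
  have h3 := norm7 f hf ((card_map_of_injective (subtype_injective N)).trans h1)
  have h4 := eq_of_le_of_card_ge (le_normalizer_map (H := (P : Subgroup N)) N.subtype)
    (by rw [card_map_of_injective (subtype_injective N), h2]; exact Nat.le_of_dvd (by norm_num) h3)
  rw [eq_top_iff, ← P.normalizer_sup_eq_top, ← h4]
  exact sup_le (map_subtype_le _) le_rfl

theorem case_60 (N : Subgroup G) [N.Normal] [IsSimpleGroup N] (h : Nat.card N = 60)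
    (hC : centralizer (N : Set G) = ⊥) :
    Nonempty (G ≃* alternatingGroup (Fin 5)) ∨ Nonempty (G ≃* Perm (Fin 5)) := by
  obtain ⟨e⟩ := S0494.result h
  let a := MulEquiv.ofBijective _ (Max.conjNormal_bijective (Ω := Fin 5) (by simp) (by simp))
  let φ : G →* Perm (Fin 5) := a.symm.toMonoidHom.comp ((MulAut.congr e).toMonoidHom.comp MulAut.conjNormal)
  have hφ : Function.Injective φ := a.symm.injective.comp ((MulAut.congr e).injective.comp (by
    rw [← MonoidHom.ker_eq_bot_iff, eq_bot_iff, ← hC]
    intro g hg x hx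
    have := congrArg Subtype.val (DFunLike.congr_fun hg ⟨x, hx⟩)
    simp only [MulAut.conjNormal_apply, MulAut.one_apply, mul_inv_eq_iff_eq_mul] at this
    exact this.symm))
  have := card_le_card_group N
  rcases alt_or_sym_of_inj (n := 5) (by simp) φ hφ (by rw [show Nat.factorial 5 = 120 by decide]; omega) with h | h
  · exact Or.inl h.2
  · exact Or.inr h.2

theorem no_45 [IsSimpleGroup G] (h : Nat.card G = 360) (K : Subgroup G) : K.index ≠ 8 := fun hK => by
  have : Fact (Nat.Prime 5) := ⟨by norm_num⟩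
  have h1 := K.card_mul_index
  rw [h, hK] at h1
  have h2 : Nat.card K = 5 ^ 1 * 9 := by omega
  obtain ⟨Q⟩ : Nonempty (Sylow 5 K) := inferInstance
  have h3 := Perm.card_sylow_dvd h2 (by norm_num)
  have h4 : Nat.card (Sylow 5 K) % 5 = 1 := card_sylow_modEq_one 5 K
  have h5 : ∀ k, k ≤ 9 → k ∣ 9 ∨ k ∣ 8 → k % 5 = 1 → k = 1 := by decide
  have h6 := h5 _ (Nat.le_of_dvd (by norm_num) h3) (Or.inl h3) h4
  have : Subsingleton (Sylow 5 K) := (Nat.card_eq_one_iff_unique.mp h6).1
  have hn := Sylow.normal_of_subsingleton Q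
  let P : Sylow 5 G := Sylow.ofCard ((Q : Subgroup K).map K.subtype) (by
    rw [card_map_of_injective (subtype_injective _), Perm.sylow_card_eq Q h2 (by norm_num), h,
      show 360 = 5 * 72 by norm_num, Nat.factorization_mul (by norm_num) (by norm_num)]
    simp [Nat.factorization_eq_zero_of_not_dvd, Nat.Prime.factorization_self (show Nat.Prime 5 by norm_num)])
  have h7 : K ≤ normalizer ((P : Subgroup G) : Set G) := by
    have := le_normalizer_map (H := (Q : Subgroup K)) K.subtype
    rwa [normalizer_eq_top, ← MonoidHom.range_eq_map, range_subtype] at this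
  have h8 : Nat.card (Sylow 5 G) ∣ 8 := by rw [P.card_eq_index_normalizer, ← hK]; exact index_dvd_of_le h7
  exact Perm.card_sylow_ne_one (Perm.not_comm_of_not_prime (by rw [h]; norm_num)) (by rw [h]; norm_num)
    (h5 _ ((Nat.le_of_dvd (by norm_num) h8).trans (by norm_num)) (Or.inr h8) (card_sylow_modEq_one 5 G))

theorem case_360 (f : G →* alternatingGroup (Fin 8)) (hf : Function.Injective f) (N : Subgroup G) [hN : N.Normal]
    [IsSimpleGroup N] (h : Nat.card N = 360) :
    Nonempty (G ≃* alternatingGroup (Fin 6)) ∨ Nonempty (G ≃* Perm (Fin 6)) := by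
  letI : MulAction G (Fin 8) := MulAction.compHom _ f
  have hs : ∀ (g : G) (x : Fin 8), g • x = (f g).1 x := fun _ _ => rfl
  have hG : ¬ IsMulCommutative N := Perm.not_comm_of_not_prime (by rw [h]; norm_num)
  have h1 : ∀ x : Fin 8, (∀ g : N, g • x = x) ∨ (orbit N x).ncard = 6 := fun x => by
    by_cases h2 : 2 * Nat.card N ∣ (orbit N x).ncard.factorial
    · have h3 : (orbit N x).ncard ≤ 8 := by simpa using Set.ncard_le_card (orbit N x)
      have h4 := no_45 h (stabilizer N x)
      have h5 := (stabilizer N x).index_dvd_card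
      rw [index_stabilizer] at h4 h5
      rw [h] at h2 h5
      have : ∀ k, k ≤ 8 → 2 * 360 ∣ k.factorial → k ∣ 360 → k ≠ 8 → k = 6 := by decide
      exact Or.inr (this _ h3 h2 h5 h4)
    · exact Or.inl (orbit_triv hG x h2)
  obtain ⟨x, hx⟩ : ∃ x : Fin 8, (orbit N x).ncard = 6 := by
    by_contra! h2
    have : Subsingleton N := ⟨fun a b => Subtype.ext (hf (Subtype.ext (Equiv.ext fun x =>
      (((h1 x).resolve_right (h2 x)) a).trans (((h1 x).resolve_right (h2 x)) b).symm)))⟩
    have := Nat.card_of_subsingleton (1 : N)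
    omega
  let Ω : SubMulAction G (Fin 8) :=
    { carrier := orbit N x
      smul_mem' := fun g y hy => by
        have e := orbit_eq_iff.mpr hy
        rcases h1 (g • y) with h2 | h2
        · have : orbit N y ⊆ {y} := by
            rintro _ ⟨n, rfl⟩
            have := h2 ⟨_, hN.conj_mem _ n.2 g⟩
            change (g * n * g⁻¹) • g • y = _ at this
            rw [mul_smul, inv_smul_smul, mul_smul, smul_left_cancel_iff] at this
            exact this
          have := Set.ncard_le_ncard this
          rw [e, hx, Set.ncard_singleton] at this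
          omega
        · rcases orbit.eq_or_disjoint (G := N) (g • y) x with h3 | h3
          · exact h3 ▸ mem_orbit_self _
          · have := Set.ncard_le_card (orbit N (g • y) ∪ orbit N x)
            rw [Set.ncard_union_eq h3, hx, h2] at this
            simp at this }
  have hφ : Function.Injective (MulAction.toPermHom G Ω) := by
    rw [← MonoidHom.ker_eq_bot_iff, eq_bot_iff]
    intro g hg
    have h2 : (((f g).1.support : Finset (Fin 8)) : Set (Fin 8)) ⊆ (orbit N x)ᶜ := fun y hy hy' =>
      Perm.mem_support.mp hy (congrArg Subtype.val (DFunLike.congr_fun (MonoidHom.mem_ker.mp hg) (⟨y, hy'⟩ : Ω)) :)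
    have h3 := Set.ncard_le_ncard h2
    rw [Set.ncard_coe_finset, Set.ncard_compl, hx, Nat.card_fin] at h3
    refine hf (Subtype.ext ?_)
    rcases h3.eq_or_lt with h4 | h4
    · have := (Perm.card_support_eq_two.mp h4).sign_eq
      rw [Perm.mem_alternatingGroup.mp (f g).2] at this
      exact absurd this (by decide)
    · rw [map_one]; exact Perm.card_support_le_one.mp (by omega)
  have := card_le_card_group N
  rcases alt_or_sym_of_inj (n := 6) hx _ hφ (by rw [show Nat.factorial 6 = 720 by decide]; omega) with h | h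
  · exact Or.inl h.2
  · exact Or.inr h.2

theorem min_normal_A8 (f : G →* alternatingGroup (Fin 8)) (hf : Function.Injective f) (N : Subgroup G) [N.Normal]
    (h0 : N ≠ ⊥) (hmin : ∀ M : Subgroup G, M.Normal → M ≤ N → M = ⊥ ∨ M = N) (hab : ¬ IsMulCommutative N) :
    IsSimpleGroup N := by
  obtain ⟨T, _, m, hT, hm, ⟨e⟩⟩ := Perm.minimal_normal_equiv_pi N h0 hmin
  let i : T →* (Fin m → T) := MonoidHom.mulSingle (fun _ => T) ⟨0, hm⟩
  have hi : Function.Injective i := fun a b e => by simpa [i] using congrFun e ⟨0, hm⟩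
  have : Finite (Fin m → T) := Finite.of_equiv _ e.toEquiv
  have : Finite T := Finite.of_injective _ hi
  have h1 := simple_card_A8 (f.comp (N.subtype.comp (e.symm.toMonoidHom.comp i)))
    (hf.comp ((subtype_injective N).comp (e.symm.injective.comp hi)))
    fun hc => hab ⟨⟨fun a b => e.injective (by rw [map_mul, map_mul]; exact funext fun j => hc.1.1 _ _)⟩⟩
  have h2 := card_dvd_of_injective (f.comp N.subtype) (hf.comp (subtype_injective N))
  rw [card_A8, Nat.card_congr e.toEquiv, Nat.card_fun, Nat.card_fin] at h2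
  obtain rfl : m = 1 := by
    by_contra h3
    have h4 := (pow_dvd_pow _ (show 2 ≤ m by omega)).trans h2
    rcases h1 with h | h | h | h | h <;> rw [h] at h4 <;> norm_num at h4
  exact (e.trans (MulEquiv.piUnique fun _ => T)).isSimpleGroup

theorem classify_A8 [Nontrivial G] (f : G →* alternatingGroup (Fin 8)) (hf : Function.Injective f)
    (h : ∀ N : Subgroup G, N.Normal → IsMulCommutative N → N = ⊥) :
    (∃ n : ℕ, 5 ≤ n ∧ n ≤ 8 ∧ Nonempty (G ≃* alternatingGroup (Fin n))) ∨ Nonempty (G ≃* Perm (Fin 5)) ∨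
      Nonempty (G ≃* Perm (Fin 6)) ∨ (IsSimpleGroup G ∧ Nat.card G = 168) := by
  by_contra! H
  obtain ⟨H1, H2, H3, H4⟩ := H
  have key : ∀ K : Subgroup G, K.Normal → K ≠ ⊥ → ∃ N : Subgroup G, N.Normal ∧ N ≤ K ∧ IsSimpleGroup N ∧
      Nat.card N = 60 := fun K _ hK => by
    obtain ⟨N, _, h0, h1, hmin⟩ := Core.exists_minimal_normal_le K hK
    have hab : ¬ IsMulCommutative N := fun e => h0 (h N ‹_› e)
    have := min_normal_A8 f hf N h0 hmin hab
    refine ⟨N, ‹_›, h1, this, ?_⟩
    rcases simple_card_A8 (f.comp N.subtype) (hf.comp (subtype_injective N)) hab with e | e | e | e | e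
    · exact e
    · obtain rfl := case_168 f hf N e
      exact absurd (by simpa using e) (H4 topEquiv.symm.isSimpleGroup)
    · rcases case_360 f hf N e with ⟨⟨a⟩⟩ | ⟨⟨a⟩⟩
      · exact ((H1 6 (by norm_num) (by norm_num)).false a).elim
      · exact (H3.false a).elim
    all_goals
      rcases case_2520 f hf (Dvd.dvd.trans (by rw [e]; all_goals norm_num) (card_subgroup_dvd_card N)) with ⟨⟨a⟩⟩ | ⟨⟨a⟩⟩
      · exact ((H1 7 (by norm_num) (by norm_num)).false a).elim
      · exact ((H1 8 (by norm_num) (by norm_num)).false a).elim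
  obtain ⟨N, _, -, _, hN⟩ := key ⊤ inferInstance top_ne_bot
  by_cases hC : centralizer (N : Set G) = ⊥
  · rcases case_60 N hN hC with ⟨⟨a⟩⟩ | ⟨⟨a⟩⟩
    · exact (H1 5 (by norm_num) (by norm_num)).false a
    · exact H2.false a
  obtain ⟨M, _, hM, _, hM'⟩ := key _ inferInstance hC
  have h1 : M ⊓ N = ⊥ := h _ inferInstance (Core.isMulCommutative_of_forall fun x hx y hy => (hM hy.1 x hx.2))
  have h2 := (card_subgroup_dvd_card (M ⊔ N)).trans (card_dvd_of_injective f hf)
  rw [← (M.subgroupOf (M ⊔ N)).card_mul_index, Nat.card_congr (subgroupOfEquivOfLe le_sup_left).toEquiv,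
    ← relIndex, relIndex_sup_left, ← inf_relIndex_right, h1, relIndex_bot_left, hN, hM', card_A8] at h2
  norm_num at h2

end Cfsg.Agent.FGS
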