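import Mathlib
import Cfsg.Agent.FGS.Basic2
import Cfsg.Agent.FGS.CycSyl
import Cfsg.Agent.Transfer.ThompsonMin
import Cfsg.Agent.Core.PSolvable
import Cfsg.Agent.Core.Fitting
import Cfsg.Agent.Core.Coprime
import Cfsg.Agent.Core.MinNormal

/-! Groups whose maximal subgroups are `p`-nilpotent or of prime index. -/

set_option autoImplicit false

namespace Cfsg.Agent.FGS

open Subgroup Cfsg Cfsg.Agent Cfsg.Agent.Transfer
open scoped IsMulCommutative

universe u

variable {G : Type*} [Group G] [Finite G] {p : ℕ} [hp : Fact p.Prime]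

theorem exists_normal_of_npc {B : Subgroup G} [B.Normal] (h : HasNormalPComplement p B) :
    ∃ A : Subgroup G, A.Normal ∧ A ≤ B ∧ ¬ p ∣ Nat.card A ∧ ∃ k, A.relIndex B = p ^ k := by
  haveI := pResidual_characteristic (p := p) (G := B)
  refine ⟨(pResidual p B).map B.subtype, inferInstance, map_subtype_le _, ?_, ?_⟩
  · rw [Core.card_map_subtype]; exact hasNormalPComplement_iff_not_dvd.mp h
  · rw [relIndex, subgroupOf, comap_map_eq_self_of_injective B.subtype_injective]
    exact exists_index_pResidual_eq_pow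

theorem npc_of_relIndex {A B : Subgroup G} [A.Normal] (h1 : ¬ p ∣ Nat.card A) {k : ℕ}
    (h2 : A.relIndex B = p ^ k) : HasNormalPComplement p B :=
  hasNormalPComplement_of_normal (A.subgroupOf B) (fun h => h1 (h.trans (by
    rw [Core.card_subgroupOf]; exact card_dvd_of_le inf_le_left))) (IsPGroup.of_card h2)

theorem npc_comap_of_le_frattini {N : Subgroup G} [N.Normal] (hN : N ≤ frattini G) (hNp : IsPGroup p N)
    {B : Subgroup (G ⧸ N)} [B.Normal] (h : HasNormalPComplement p B) :
    HasNormalPComplement p (B.comap (QuotientGroup.mk' N)) := by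
  obtain ⟨L, hL, hLB, h1, k, h2⟩ := exists_normal_of_npc h
  obtain ⟨n, hn⟩ := IsPGroup.iff_card.mp hNp
  have hs := QuotientGroup.mk'_surjective N
  have hNL : N ≤ L.comap (QuotientGroup.mk' N) := QuotientGroup.le_comap_mk' N L
  have h3 : N.relIndex (L.comap (QuotientGroup.mk' N)) = Nat.card L := by
    rw [Core.relIndex_eq_card_map_mk', map_comap_eq_self_of_surjective hs]
  have h4 : (Nat.card N).Coprime (Nat.card L) := by
    rw [hn]; exact Nat.Coprime.pow_left _ ((Nat.Prime.coprime_iff_not_dvd hp.out).mpr h1)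
  obtain ⟨T, t1, t2, t3, t4⟩ := Core.exists_complement_in N _ hNL
    (le_top.trans (normalizer_eq_top N).ge) (by rwa [h3])
  rw [h3] at t4
  have t5 : T.map (QuotientGroup.mk' N) = L := by
    rw [← map_mk'_sup, t3, map_comap_eq_self_of_surjective hs]
  have t6 := Core.normalizer_map_mk' T N (t4 ▸ h4.symm) (Or.inr (Core.solvable_of_isPGroup hNp))
  rw [t5, normalizer_eq_top] at t6
  have t7 := congrArg (comap (QuotientGroup.mk' N)) t6
  rw [comap_top, comap_map_eq, QuotientGroup.ker_mk'] at t7
  haveI : T.Normal := normalizer_eq_top_iff.mp (Core.eq_top_of_sup_le_frattini hN t7.symm)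
  refine npc_of_relIndex (A := T) (t4 ▸ h1) (k := n + k) ?_
  rw [← relIndex_mul_relIndex T _ _ t1 (comap_mono hLB), relIndex_comap, map_comap_eq_self_of_surjective hs,
    h2, pow_add, ← hn, ← t3, Core.relIndex_sup_eq_relIndex (le_top.trans (normalizer_eq_top N).ge)]
  congr 1
  have := Core.card_inf_mul_relIndex T N
  rwa [t2.symm.eq_bot, card_bot, one_mul] at this

theorem npc_quotient_inf {B C : Subgroup G} [B.Normal] [C.Normal] (hB : HasNormalPComplement p (G ⧸ B))
    (hC : ¬ p ∣ C.index) : HasNormalPComplement p (G ⧸ (B ⊓ C)) := by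
  refine hasNormalPComplement_of_ker (QuotientGroup.map (B ⊓ C) B (MonoidHom.id G) fun _ h => mem_comap.mpr (mem_inf.mp h).1)
    (fun h => hC (h.trans ?_)) hB
  rw [QuotientGroup.ker_map, comap_id, ← Core.relIndex_eq_card_map_mk', inf_relIndex_left]
  exact relIndex_dvd_index_of_normal C B

theorem exists_two_npc (G : Type u) [Group G] [Finite G] : IsPSolvable p G →
    (∀ M : Subgroup G, IsCoatom M → HasNormalPComplement p M ∨ M.index.Prime) →
    ∃ (B : Subgroup G) (_ : B.Normal), HasNormalPComplement p B ∧ HasNormalPComplement p (G ⧸ B) := by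
  refine Core.induction_on_card (P := fun G _ _ => IsPSolvable p G →
    (∀ M : Subgroup G, IsCoatom M → HasNormalPComplement p M ∨ M.index.Prime) →
    ∃ (B : Subgroup G) (_ : B.Normal), HasNormalPComplement p B ∧ HasNormalPComplement p (G ⧸ B))
    (fun G _ _ ih hs hm => ?_) G
  rcases subsingleton_or_nontrivial G with h0 | h0
  · exact ⟨⊤, inferInstance, hasNormalPComplement_of_not_dvd (by simp [hp.out.ne_one]),
      hasNormalPComplement_of_not_dvd (by simp [hp.out.ne_one])⟩
  obtain ⟨N, hN, hN1, -, hmin⟩ := Core.exists_minimal_normal_le (⊤ : Subgroup G) top_ne_bot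
  have hsurj := QuotientGroup.mk'_surjective N
  obtain ⟨B, hB, h1, h2⟩ := ih (G ⧸ N) (Core.card_quotient_lt N hN1) (Core.IsPSolvable.quotient hs N)
    fun M hM => (hm _ (isCoatom_comap_of_surjective hsurj hM)).imp (fun h => by
      have := hasNormalPComplement_map (QuotientGroup.mk' N) h
      rwa [map_comap_eq_self_of_surjective hsurj] at this) fun h => by
        rwa [index_comap_of_surjective _ hsurj] at h
  have h3 : HasNormalPComplement p (G ⧸ B.comap (QuotientGroup.mk' N)) := by
    refine hasNormalPComplement_of_injective (QuotientGroup.map _ B (QuotientGroup.mk' N) le_rfl) ?_ h2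
    rw [← MonoidHom.ker_eq_bot_iff, QuotientGroup.ker_map, QuotientGroup.map_mk'_self]
  let f : B.comap (QuotientGroup.mk' N) →* B := (QuotientGroup.mk' N).subgroupComap B
  have hf : ∀ x, x ∈ f.ker → (x : G) ∈ N := fun x hx =>
    (QuotientGroup.eq_one_iff _).mp (congrArg Subtype.val (MonoidHom.mem_ker.mp hx))
  rcases Core.minimal_normal_of_isPSolvable N (Core.IsPSolvable.subgroup hs N) hmin with hNp | hNp
  swap
  · refine ⟨_, inferInstance, hasNormalPComplement_of_ker f (fun h => ?_) h1, h3⟩
    refine (Nat.Prime.coprime_iff_not_dvd hp.out).mp hNp.symm (h.trans ?_)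
    rw [← Core.card_map_subtype]
    exact card_dvd_of_le (by rintro _ ⟨x, hx, rfl⟩; exact hf x hx)
  by_cases hF : N ≤ frattini G
  · exact ⟨_, inferInstance, npc_comap_of_le_frattini hF hNp h1, h3⟩
  obtain ⟨M, hM, hNM⟩ : ∃ M : Subgroup G, IsCoatom M ∧ ¬ N ≤ M := by
    by_contra! h
    exact hF (Core.le_frattini_iff.mpr h)
  have hsup := sup_eq_top_of_isCoatom hM hNM
  rcases hm M hM with h | h
  · refine ⟨N, hN, hasNormalPComplement_of_isPGroup hNp, hasNormalPComplement_of_surjective
      ((QuotientGroup.mk' N).comp M.subtype) (fun x => ?_) h⟩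
    have : x ∈ M.map (QuotientGroup.mk' N) := by
      rw [← map_mk'_sup, sup_comm, hsup, map_top_of_surjective _ hsurj]; trivial
    obtain ⟨y, hy, rfl⟩ := this
    exact ⟨⟨y, hy⟩, rfl⟩
  obtain ⟨q, -, hq⟩ := Core.minimal_normal_elementary N (Core.solvable_of_isPGroup hNp) hN1 hmin
  have hMN : M ⊓ N = ⊥ := by
    refine (hmin _ (normalizer_eq_top_iff.mp (eq_top_iff.mpr (hsup.ge.trans (sup_le ?_ ?_))))
      inf_le_right).resolve_right fun h => hNM (h.ge.trans inf_le_left)
    · exact Core.le_normalizer_inf le_normalizer (le_top.trans (normalizer_eq_top N).ge)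
    · exact fun x hx => centralizer_le_normalizer _ fun y hy => Core.comm_of_isMulCommutative hq.1 hy.2 hx
  have hc : (Nat.card N).Prime := by
    have := Core.card_inf_mul_relIndex M N
    rw [hMN, card_bot, one_mul, ← Core.index_eq_relIndex_of_sup_eq_top' (sup_comm M N ▸ hsup)] at this
    rwa [← this]
  obtain ⟨n, hn⟩ := IsPGroup.iff_card.mp hNp
  have hcp : Nat.card N = p := by
    rw [hn] at hc ⊢; rw [(hc.eq_one_of_pow), pow_one]
  have hC : ¬ p ∣ (centralizer (N : Set G)).index := fun hd => by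
    haveI := isCyclic_of_prime_card hcp
    have h4 : (centralizer (N : Set G)).index ∣ Nat.card (MulAut N) := by
      have : (MulAut.conjNormal : G →* MulAut N).ker ≤ centralizer (N : Set G) := fun x hx y hy => by
        have := congrArg Subtype.val (DFunLike.congr_fun (MonoidHom.mem_ker.mp hx) ⟨y, hy⟩)
        exact (mul_inv_eq_iff_eq_mul.mp this).symm
      refine (index_dvd_of_le this).trans ?_
      rw [index_ker]; exact card_subgroup_dvd_card _
    rw [IsCyclic.card_mulAut, hcp, Nat.totient_prime hp.out] at h4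
    have := Nat.le_of_dvd (by have := hp.out.two_le; omega) (hd.trans h4)
    have := hp.out.pos; omega
  refine ⟨B.comap (QuotientGroup.mk' N) ⊓ centralizer (N : Set G), inferInstance, ?_, npc_quotient_inf h3 hC⟩
  refine hasNormalPComplement_of_ker_le_center (f.comp (inclusion inf_le_left)) (fun x hx => ?_) h1
  exact mem_center_iff.mpr fun y => Subtype.ext (y.2.2 x (hf _ hx)).symm

theorem exists_chain_of_max (hs : IsPSolvable p G) (hmax : ∀ M : Subgroup G, IsCoatom M →
    (∃ K : Subgroup ↥M, K.Normal ∧ ¬ p ∣ Nat.card K ∧ ∃ k : ℕ, K.index = p ^ k) ∨ (M.index).Prime) :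
    ∃ A B C : Subgroup G, A.Normal ∧ B.Normal ∧ C.Normal ∧ A ≤ B ∧ B ≤ C ∧ ¬ p ∣ Nat.card A ∧
      (∃ k : ℕ, A.relIndex B = p ^ k) ∧ ¬ p ∣ B.relIndex C ∧ ∃ k : ℕ, C.index = p ^ k := by
  obtain ⟨B, hB, h1, h2⟩ := exists_two_npc G hs fun M hM => (hmax M hM).imp_left
    fun ⟨K, _, h1, k, h2⟩ => hasNormalPComplement_of_normal K h1 (IsPGroup.of_card h2)
  obtain ⟨A, hA, h3, h4, h5⟩ := exists_normal_of_npc h1
  have hsurj := QuotientGroup.mk'_surjective B
  haveI := pResidual_normal (p := p) (G := G ⧸ B)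
  refine ⟨A, B, (pResidual p (G ⧸ B)).comap (QuotientGroup.mk' B), hA, hB, inferInstance, h3,
    QuotientGroup.le_comap_mk' B _, h4, h5, ?_, ?_⟩
  · rw [Core.relIndex_eq_card_map_mk', map_comap_eq_self_of_surjective hsurj]
    exact hasNormalPComplement_iff_not_dvd.mp h2
  · rw [index_comap_of_surjective _ hsurj]; exact exists_index_pResidual_eq_pow

end Cfsg.Agent.FGS
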