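import Mathlib
import Cfsg.Agent.FGS.EqOrd
import Cfsg.Agent.FGS.TwoNPC
import Cfsg.Agent.FGS.Basic2
import Cfsg.Agent.Core.CoprimeGen
import Cfsg.Agent.Core.Coprime2
import Cfsg.Agent.S0081

set_option autoImplicit false

namespace Cfsg.Agent.FGS

open Subgroup
open scoped commutatorElement

variable {G : Type*} [Group G] [Finite G] {p : ℕ} [hp : Fact p.Prime]

theorem mem_sup_of_fpf {S V P : Subgroup G} [S.Normal] [V.Normal] (hV : V ≠ ⊥) (hP : IsPGroup p P)
    (hSP : S ≤ P) (hpV : ¬ p ∣ Nat.card V) (h : ∀ x ∈ P, x ∉ S → V ⊓ centralizer {x} = ⊥) {a b : G}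
    (ha : a ∈ P) (hb : b ∈ P) (hab : ⁅a, b⁆ ∈ S) (hap : a ^ p ∈ S) (hbp : b ^ p ∈ S) (hbS : b ∉ S) :
    a ∈ zpowers b ⊔ S := by
  by_contra hc
  obtain ⟨n, hn⟩ := IsPGroup.iff_card.mp hP
  have hcop : (Nat.card P).Coprime (Nat.card V) := hn ▸ (hp.out.coprime_iff_not_dvd.mpr hpV).pow_left n
  have hd : ∀ v ∈ V, v ∈ S → v = 1 := fun v hv hs => Core.eq_one_of_mem_of_coprime hcop (hSP hs) hv
  have key : ∀ x ∈ P, x ∉ S → V.map (QuotientGroup.mk' S) ⊓ centralizer {QuotientGroup.mk' S x} ≤ ⊥ := by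
    rintro x hx hxS _ ⟨⟨v, hv, rfl⟩, h1⟩
    have h2 : ⁅v, x⁆ = 1 := hd _ (commutator_le_left V ⊤ (commutator_mem_commutator hv (mem_top x))) (by
      rw [← QuotientGroup.eq_one_iff, ← QuotientGroup.mk'_apply, map_commutatorElement,
        commutatorElement_eq_one_iff_mul_comm]
      exact mem_centralizer_singleton_iff.mp h1)
    rw [mem_bot.mp ((h x hx hxS).le (mem_inf.mpr ⟨hv, mem_centralizer_singleton_iff.mpr
      (commutatorElement_eq_one_iff_mul_comm.mp h2)⟩)), map_one]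
    exact one_mem _
  have h1 : ∀ x : G, x ^ p ∈ S → QuotientGroup.mk' S x ^ p = 1 := fun x hx => by
    rw [← map_pow]; exact (QuotientGroup.eq_one_iff _).mpr hx
  have := Core.le_of_centralizers_two (A := P.map (QuotientGroup.mk' S)) (K := V.map (QuotientGroup.mk' S)) (L := ⊥)
    (Core.solvable_of_isPGroup (hP.map _)) (Core.map_le_normalizer_map (le_top.trans (normalizer_eq_top V).ge) _)
    ((hcop.coprime_dvd_left (Core.card_map_dvd _ _)).coprime_dvd_right (Core.card_map_dvd _ _)) (q := p)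
    ((hp.out.coprime_iff_not_dvd.mpr hpV).coprime_dvd_right (Core.card_map_dvd _ _))
    (mem_map_of_mem _ ha) (mem_map_of_mem _ hb) (by
      rw [← commutatorElement_eq_one_iff_commute, ← map_commutatorElement]
      exact (QuotientGroup.eq_one_iff _).mpr hab) (h1 a hap ▸ one_mem _) (h1 b hbp ▸ one_mem _)
    (fun i _ => by
      rw [← map_pow, ← map_mul]
      refine key _ (mul_mem ha (pow_mem hb i)) fun h2 => hc ?_
      exact (mul_mem_cancel_right (mem_sup_left (pow_mem (mem_zpowers b) i))).mp (mem_sup_right h2))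
    (fun j hj hj' => by
      rw [← map_pow]
      refine key _ (pow_mem hb j) fun h2 => hbS ?_
      have h3 := orderOf_eq_prime (h1 b hbp) (mt (QuotientGroup.eq_one_iff b).mp hbS)
      have h4 : QuotientGroup.mk' S b ^ j = 1 := by rw [← map_pow]; exact (QuotientGroup.eq_one_iff _).mpr h2
      exact absurd (Nat.le_of_dvd hj (h3 ▸ orderOf_dvd_of_pow_eq_one h4)) hj'.not_ge)
  exact hV (eq_bot_iff.mpr fun v hv => hd v hv ((QuotientGroup.eq_one_iff v).mp (this (mem_map_of_mem _ hv))))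

theorem exists_central_mod {N P : Subgroup G} [N.Normal] (hP : IsPGroup p P) (h : ¬ P ≤ N) :
    ∃ g ∈ P, g ∉ N ∧ g ^ p ∈ N ∧ ∀ y ∈ P, ⁅y, g⁆ ∈ N := by
  obtain ⟨_, ⟨g, hg, rfl⟩, h1, h2⟩ := exists_central_orderOf_eq (hP.map (QuotientGroup.mk' N))
    (by rwa [Ne, Subgroup.map_eq_bot_iff, QuotientGroup.ker_mk'])
  refine ⟨g, hg, mt (QuotientGroup.eq_one_iff g).mpr (ne_one_of_orderOf_prime hp.out h2), ?_, fun y hy => ?_⟩
  · rw [← QuotientGroup.eq_one_iff, ← QuotientGroup.mk'_apply, map_pow, ← h2, pow_orderOf_eq_one]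
  · rw [← QuotientGroup.eq_one_iff, ← QuotientGroup.mk'_apply, map_commutatorElement,
      commutatorElement_eq_one_iff_mul_comm]
    exact h1 _ (mem_map_of_mem _ hy)

omit [Finite G] in
theorem ncard_conj_orbit (C : Subgroup G) (u : G) :
    {w : G | ∃ c ∈ C, c * u * c⁻¹ = w}.ncard = (centralizer ({u} : Set G)).relIndex C := by
  letI : MulAction C G := MulAction.compHom G ((MulAut.conj (G := G)).comp C.subtype)
  have h2 : MulAction.stabilizer C u = (centralizer ({u} : Set G)).subgroupOf C := by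
    ext c
    rw [MulAction.mem_stabilizer_iff, mem_subgroupOf, mem_centralizer_singleton_iff]
    exact mul_inv_eq_iff_eq_mul
  have h3 : MulAction.orbit C u = {w : G | ∃ c ∈ C, c * u * c⁻¹ = w} := by
    ext w
    exact ⟨fun ⟨c, e⟩ => ⟨c, c.2, e⟩, fun ⟨c, hc, e⟩ => ⟨⟨c, hc⟩, e⟩⟩
  rw [← h3, ← MulAction.index_stabilizer C u, h2]; rfl

/-- Camina pairs -/
def Cam (N : Subgroup G) : Prop := ∀ g : G, g ∉ N → ∀ n ∈ N, ∃ x : G, x * g * x⁻¹ = g * n

theorem Cam.trans {N : Subgroup G} [N.Normal] (h : Cam N) (P : Sylow p G) {g : G} (hg : g ∈ (P : Subgroup G))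
    (hgN : g ∉ N) (hc : ∀ y ∈ (P : Subgroup G), ⁅y, g⁆ ∈ N) {s : G} (hs : s ∈ (P : Subgroup G) ⊓ N) :
    ∃ y ∈ (P : Subgroup G), s = ⁅g⁻¹, y⁆ := by
  let D := (centralizer {QuotientGroup.mk' N g}).comap (QuotientGroup.mk' N)
  have hD : ∀ x, x ∈ D ↔ g⁻¹ * (x * g * x⁻¹) ∈ N := fun x => by
    rw [mem_comap, mem_centralizer_singleton_iff, ← QuotientGroup.eq, QuotientGroup.mk_mul, QuotientGroup.mk_mul,
      QuotientGroup.mk_inv, eq_mul_inv_iff_mul_eq, eq_comm]
    rfl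
  have h0 : ∀ L : Subgroup G, ((fun n => g * n) '' (L : Set G)).ncard = Nat.card L := fun L =>
    Set.ncard_image_of_injective _ (mul_right_injective g)
  have h1 : (centralizer ({g} : Set G)).relIndex D = Nat.card N := by
    rw [← ncard_conj_orbit, ← h0]
    congr 1
    ext w
    refine ⟨fun ⟨c, hc, e⟩ => ⟨_, (hD c).mp hc, by simp [e]⟩, fun ⟨n, hn, e⟩ => ?_⟩
    obtain ⟨x, hx⟩ := h g hgN n hn
    exact ⟨x, (hD x).mpr (by simpa [hx] using hn), hx.trans e⟩
  have h2 : centralizer ({g} : Set G) ≤ D := fun x hx => (hD x).mpr (by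
    simp [mem_centralizer_singleton_iff.mp hx])
  have h3 : Nat.card (centralizer ({g} : Set G) ⊓ P : Subgroup G) * Nat.card ((P : Subgroup G) ⊓ N : Subgroup G) ∣
      Nat.card P := by
    obtain ⟨a, ha⟩ := IsPGroup.iff_card.mp (P.isPGroup'.to_le (inf_le_right : centralizer ({g} : Set G) ⊓ P ≤ _))
    obtain ⟨b, hb⟩ := IsPGroup.iff_card.mp (P.isPGroup'.to_le (inf_le_left : (P : Subgroup G) ⊓ N ≤ _))
    have := (mul_dvd_mul (card_dvd_of_le (inf_le_left : centralizer ({g} : Set G) ⊓ P ≤ _))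
      (card_dvd_of_le (inf_le_right : (P : Subgroup G) ⊓ N ≤ _))).trans
      (show _ ∣ Nat.card G by rw [← h1, Core.card_mul_relIndex h2]; exact card_subgroup_dvd_card D)
    rw [ha, hb, ← pow_add] at this ⊢
    exact P.pow_dvd_card_of_pow_dvd_card this
  rw [← Core.card_inf_mul_relIndex (centralizer ({g} : Set G)) P, Nat.mul_dvd_mul_iff_left Nat.card_pos,
    ← ncard_conj_orbit, ← h0] at h3
  have h4 : {w : G | ∃ c ∈ (P : Subgroup G), c * g * c⁻¹ = w} = (fun n => g * n) '' ((P : Subgroup G) ⊓ N : Subgroup G) := by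
    refine Set.eq_of_subset_of_ncard_le ?_ (Nat.le_of_dvd (Set.ncard_pos (Set.toFinite _) |>.mpr
      ⟨g, 1, one_mem _, by simp⟩) h3)
    rintro _ ⟨c, hc', rfl⟩
    refine ⟨g⁻¹ * (c * g * c⁻¹), mem_inf.mpr ⟨mul_mem (inv_mem hg) (mul_mem (mul_mem hc' hg) (inv_mem hc')), ?_⟩,
      by simp⟩
    simpa [commutatorElement_def, mul_assoc] using Normal.conj_mem' inferInstance _ (hc c hc') g
  obtain ⟨y, hy, e⟩ := h4.ge ⟨s, hs, rfl⟩
  exact ⟨y, hy, by rw [commutatorElement_def, inv_inv, mul_assoc, mul_assoc, ← mul_assoc y, e]; simp⟩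

theorem Cam.npc {N : Subgroup G} [N.Normal] (h : Cam N) (hd : p ∣ N.index) : HasNormalPComplement p N := by
  obtain ⟨P⟩ : Nonempty (Sylow p G) := inferInstance
  obtain ⟨g, hg, hgN, -, hc⟩ := exists_central_mod P.isPGroup' fun hle => not_dvd_index_of_sylow_le P hle hd
  refine S0081.result P N fun s hs => ?_
  obtain ⟨y, hy, rfl⟩ := h.trans P hg hgN hc (mem_inf.mpr ⟨hs.2, hs.1⟩)
  exact PGrp.commutator_le_map_frattini P.isPGroup' (commutator_mem_commutator (inv_mem hg) hy)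

theorem eq_bot_of_eqOrd {N V : Subgroup G} (h : ∀ x : G, x ∉ N → ∀ n ∈ N, orderOf (x * n) = orderOf x)
    (hV : V ≤ N) {x : G} (hx : x ∉ N) (hc : (orderOf x).Coprime (Nat.card V)) : V ⊓ centralizer {x} = ⊥ := by
  refine eq_bot_iff.mpr fun v hv => ?_
  have h1 := h x hx v (hV hv.1)
  have h2 := hc.coprime_dvd_right (V.orderOf_dvd_natCard hv.1)
  rw [(show Commute x v from (mem_centralizer_singleton_iff.mp hv.2).symm).orderOf_mul_eq_mul_orderOf_of_coprime h2,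
    Nat.mul_eq_left (orderOf_pos x).ne'] at h1
  exact orderOf_eq_one_iff.mp h1

omit [Finite G] in
theorem Cam.eqOrd {N : Subgroup G} (h : Cam N) (x : G) (hx : x ∉ N) (n : G) (hn : n ∈ N) :
    orderOf (x * n) = orderOf x := by
  obtain ⟨y, hy⟩ := h x hx n hn
  exact hy ▸ (MulAut.conj y).orderOf_eq x

theorem coprime_orderOf_of_mem {P V : Subgroup G} (hP : IsPGroup p P) (hV : ¬ p ∣ Nat.card V) {x : G}
    (hx : x ∈ P) : (orderOf x).Coprime (Nat.card V) := by
  obtain ⟨n, hn⟩ := IsPGroup.iff_card.mp hP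
  exact ((hp.out.coprime_iff_not_dvd.mpr hV).pow_left n).coprime_dvd_left (hn ▸ P.orderOf_dvd_natCard hx)

theorem Cam.false_of_normal {N V : Subgroup G} [N.Normal] [V.Normal] (h : Cam N) (hd : p ∣ N.index)
    (P : Sylow p G) [hS : ((P : Subgroup G) ⊓ N).Normal] (hne : (P : Subgroup G) ⊓ N ≠ ⊥) (hVN : V ≤ N)
    (hV : V ≠ ⊥) (hpV : ¬ p ∣ Nat.card V) : False := by
  obtain ⟨g, hg, hgN, hgp, hc⟩ := exists_central_mod P.isPGroup' fun hle => not_dvd_index_of_sylow_le P hle hd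
  refine (Core.commutator_lt_of_nilpotent P.isPGroup'.isNilpotent inf_le_left le_rfl
    (le_top.trans (normalizer_eq_top _).ge) hne).not_ge fun s hs => ?_
  obtain ⟨y, hy, rfl⟩ := h.trans P hg hgN hc hs
  by_cases hyN : y ∈ N
  · rw [commutator_comm]
    exact commutator_mem_commutator (inv_mem hg) (mem_inf.mpr ⟨hy, hyN⟩)
  obtain ⟨b, hb, hbN, hbp, -⟩ := exists_central_mod (P.isPGroup'.to_le (zpowers_le.mpr hy))
    fun hle => hyN (hle (mem_zpowers y))
  have hbP := zpowers_le.mpr hy hb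
  have := mem_sup_of_fpf hV P.isPGroup' inf_le_left hpV (fun x hx hx' => eq_bot_of_eqOrd h.eqOrd hVN
    (fun h1 => hx' (mem_inf.mpr ⟨hx, h1⟩)) (coprime_orderOf_of_mem P.isPGroup' hpV hx)) hg hbP
    (mem_inf.mpr ⟨by
      rw [commutatorElement_def]; exact mul_mem (mul_mem (mul_mem hg hbP) (inv_mem hg)) (inv_mem hbP), by
      rw [← commutatorElement_inv]; exact inv_mem (hc b hbP)⟩)
    (mem_inf.mpr ⟨pow_mem hg p, hgp⟩) (mem_inf.mpr ⟨pow_mem hbP p, hbp⟩) fun h1 => hbN h1.2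
  obtain ⟨_, ⟨k, rfl⟩, t, ht, e⟩ := mem_sup_of_normal_right.mp (sup_le_sup_right (zpowers_le.mpr hb) _ (inv_mem this))
  have h1 : ⁅y ^ k * t, y⁆ = ⁅y ^ k * t * (y ^ k)⁻¹, y⁆ := by
    simp only [commutatorElement_def]; group
  rw [← e, h1]
  exact commutator_mem_commutator (hS.conj_mem _ ht _) hy

omit [Finite G] in
theorem Cam.map {N : Subgroup G} (h : Cam N) (M : Subgroup G) [M.Normal] (hM : M ≤ N) :
    Cam (N.map (QuotientGroup.mk' M)) := by
  rintro g hg _ ⟨n, hn, rfl⟩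
  obtain ⟨g, rfl⟩ := QuotientGroup.mk'_surjective M g
  obtain ⟨x, hx⟩ := h g (fun h1 => hg (mem_map_of_mem _ h1)) n hn
  exact ⟨QuotientGroup.mk' M x, by simpa using congrArg (QuotientGroup.mk' M) hx⟩

end Cfsg.Agent.FGS
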