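import Mathlib
import Cfsg.Agent.FGS.Basic2
import Cfsg.Agent.BG.AmbPi
import Cfsg.Agent.BG.AmbCent
import Cfsg.Agent.Core.Product

/-!
# FGS/ClassCount: counting conjugacy classes of `π`-elements
-/

set_option autoImplicit false

open Subgroup Cfsg.Agent.BG Cfsg.Agent.BG.Amb
open scoped Classical

namespace Cfsg.Agent.FGS

variable {G : Type*} [Group G]

/-- The number of conjugacy classes of `π`-elements. -/
noncomputable abbrev kpi (π : Set ℕ) (G : Type*) [Group G] : ℕ :=
  Nat.card {C : ConjClasses G // ∀ q : ℕ, q.Prime →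
    (∃ g : G, ConjClasses.mk g = C ∧ q ∣ orderOf g) → q ∈ π}

theorem kpi_univ : kpi Set.univ G = Nat.card (ConjClasses G) :=
  Nat.card_congr (Equiv.subtypeUnivEquiv fun _ _ _ _ => trivial)

theorem kpi_pred_mk {π : Set ℕ} {x : G} : (∀ q : ℕ, q.Prime →
    (∃ g : G, ConjClasses.mk g = ConjClasses.mk x ∧ q ∣ orderOf g) → q ∈ π) ↔
    IsPiNat π (orderOf x) := by
  refine ⟨fun h q hq hd => h q hq ⟨x, rfl, hd⟩, fun h q hq ⟨g, e, hd⟩ => h q hq ?_⟩
  obtain ⟨c, rfl⟩ := isConj_iff.mp (ConjClasses.mk_eq_mk_iff_isConj.mp e)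
  rwa [orderOf_conj']

theorem card_classes_mul [Fintype G] (P : ConjClasses G → Prop) :
    Nat.card {C // P C} * Nat.card G =
      ∑ x : G with P (ConjClasses.mk x), Nat.card (centralizer ({x} : Set G)) := by
  rw [← Finset.sum_fiberwise_of_maps_to (t := Finset.univ.filter P) (g := ConjClasses.mk)
    (fun x hx => by simpa using hx), Nat.card_eq_fintype_card, Fintype.card_subtype,
    ← Finset.sum_const_nat (f := fun _ => Nat.card G) (fun _ _ => rfl)]
  refine Finset.sum_congr rfl fun C hC => ?_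
  obtain ⟨x, rfl⟩ := ConjClasses.exists_rep C
  rw [Finset.sum_const_nat (m := Nat.card (centralizer ({x} : Set G))),
    ← index_mul_card (centralizer ({x} : Set G)), ← ncard_carrier, Set.ncard_eq_toFinset_card']
  · congr 2
    ext y
    simp only [Set.mem_toFinset, ConjClasses.mem_carrier_iff_mk_eq, Finset.mem_filter,
      Finset.mem_univ, true_and] at hC ⊢
    exact ⟨fun h => ⟨h ▸ hC, h⟩, fun h => h.2⟩
  · intro y hy
    obtain ⟨c, rfl⟩ := isConj_iff.mp (ConjClasses.mk_eq_mk_iff_isConj.mp (Finset.mem_filter.mp hy).2)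
    rw [centralizer_conj, card_conj]

theorem kpi_mul [Fintype G] (π : Set ℕ) : kpi π G * Nat.card G =
    ∑ x : G with IsPiNat π (orderOf x), Nat.card (centralizer ({x} : Set G)) := by
  rw [kpi, card_classes_mul]
  simp only [kpi_pred_mk]

theorem card_conjClasses_mul [Fintype G] : Nat.card (ConjClasses G) * Nat.card G =
    ∑ x : G, Nat.card (centralizer ({x} : Set G)) := by
  rw [← kpi_univ, kpi_mul, Finset.filter_true_of_mem fun _ _ _ _ _ => trivial]

theorem card_centralizer_subtype (N : Subgroup G) (x : N) :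
    Nat.card (centralizer ({x} : Set N)) = Nat.card (centralizer ({(x : G)} : Set G) ⊓ N : Subgroup G) := by
  rw [centralizer_subgroupOf, ← inf_subgroupOf_right,
    Nat.card_congr (subgroupOfEquivOfLe inf_le_right).toEquiv]

theorem card_eq_card_filter [Fintype G] (H : Subgroup G) :
    Nat.card H = (Finset.univ.filter (· ∈ H)).card := by
  rw [Nat.card_eq_fintype_card, Fintype.card_subtype]

theorem coset_bound [Fintype G] (π : Set ℕ) (N : Subgroup G) [N.Normal] (c : G ⧸ N) :
    ∑ x : G with IsPiNat π (orderOf x) ∧ QuotientGroup.mk x = c,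
      Nat.card (centralizer ({x} : Set G) ⊓ N : Subgroup G) ≤ kpi π N * Nat.card N := by
  rw [kpi_mul]
  simp only [card_eq_card_filter]
  refine le_trans ?_ (Finset.sum_le_sum (f := fun a : N => (Finset.univ.filter fun z : G =>
    z ∈ centralizer {(a : G)} ∧ (z : G ⧸ N) = c).card) fun a _ => ?_)
  · rw [← Finset.card_sigma, ← Finset.card_sigma]
    let f : (Σ _ : G, G) → Σ _ : N, G := fun x =>
      ⟨if h : x.2 ∈ N then ⟨piPart π x.2, piPart_mem π h⟩ else 1, x.1 * piPart πᶜ x.2⟩
    refine Finset.card_le_card_of_injOn f (fun x hx => ?_) fun x hx y hy e => ?_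
    · simp only [Finset.coe_sigma, Set.mem_sigma_iff, Finset.coe_filter, Finset.mem_univ, true_and,
        Set.mem_ofPred_eq, mem_inf, f] at hx ⊢
      rw [dif_pos hx.2.2]
      refine ⟨by rw [← orderOf_coe]; exact piPart_pi π _, mul_mem (mem_centralizer_symm.mp
        (piPart_mem π hx.2.1)) (mem_cent1_iff_commute.mpr (piPart_commute _ _ _)), ?_⟩
      exact (QuotientGroup.mk_mul_of_mem _ (piPart_mem _ hx.2.2)).trans hx.1.2
    · simp only [Finset.coe_sigma, Set.mem_sigma_iff, Finset.coe_filter, Finset.mem_univ, true_and,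
        Set.mem_ofPred_eq, mem_inf, f] at hx hy e
      rw [dif_pos hx.2.2, dif_pos hy.2.2, Sigma.mk.inj_iff, heq_iff_eq, Subtype.ext_iff] at e
      have key : ∀ x n : G, IsPiNat π (orderOf x) → n ∈ centralizer {x} →
          piPart π (x * piPart πᶜ n) = x := fun x n h1 h2 => piPart_unique h1 (piPart_pi _ _)
        (mem_cent1_iff_commute.mp (piPart_mem _ h2)).symm
      have h1 : x.1 = y.1 := by rw [← key _ _ hx.1.1 hx.2.1, e.2, key _ _ hy.1.1 hy.2.1]
      refine Sigma.ext h1 (heq_of_eq ?_)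
      rw [← piPart_mul_compl π x.2, ← piPart_mul_compl π y.2, show piPart π x.2 = _ from e.1,
        mul_left_cancel (h1 ▸ e.2 : y.1 * piPart πᶜ x.2 = y.1 * piPart πᶜ y.2)]
  · rcases (Finset.univ.filter fun z : G => z ∈ centralizer {(a : G)} ∧
      (z : G ⧸ N) = c).eq_empty_or_nonempty with e | ⟨w, hw⟩
    · simp [e]
    rw [← card_eq_card_filter, card_centralizer_subtype, card_eq_card_filter]
    refine Finset.card_le_card_of_injOn (w⁻¹ * ·) (fun z hz => ?_) (mul_right_injective _).injOn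
    simp only [Finset.coe_filter, Finset.mem_univ, true_and, Set.mem_ofPred_eq, mem_inf,
      Finset.mem_filter] at hw hz ⊢
    exact ⟨mul_mem (inv_mem hw.1) hz.1, QuotientGroup.eq.mp (hw.2.trans hz.2.symm)⟩

theorem card_centralizer_le [Finite G] (N : Subgroup G) [N.Normal] (x : G) :
    Nat.card (centralizer ({x} : Set G)) ≤ Nat.card (centralizer ({(x : G ⧸ N)} : Set (G ⧸ N))) *
      Nat.card (centralizer ({x} : Set G) ⊓ N : Subgroup G) := by
  rw [← Core.card_inf_mul_relIndex N, mul_comm, inf_comm]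
  refine Nat.mul_le_mul_right _ ?_
  have := relIndex_ker (centralizer {x}) (QuotientGroup.mk' N)
  rw [QuotientGroup.ker_mk'] at this
  refine this.trans_le (card_le_of_le ?_)
  rintro _ ⟨y, hy, rfl⟩
  exact mem_centralizer_singleton_iff.mpr
    (congrArg (QuotientGroup.mk' N) (mem_centralizer_singleton_iff.mp hy))

theorem kpi_le_mul [Finite G] (π : Set ℕ) (N : Subgroup G) [N.Normal] :
    kpi π G ≤ kpi π N * kpi π (G ⧸ N) := by
  have := Fintype.ofFinite G
  refine Nat.le_of_mul_le_mul_right ?_ (Nat.card_pos (α := G))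
  rw [kpi_mul, card_eq_card_quotient_mul_card_subgroup N, mul_comm (kpi π N), mul_mul_mul_comm,
    kpi_mul, Finset.sum_mul, ← Finset.sum_fiberwise_of_maps_to (g := fun x : G => (x : G ⧸ N))
    (t := Finset.univ.filter fun c => IsPiNat π (orderOf c)) (fun x hx => by
      simp only [Finset.mem_filter, Finset.mem_univ, true_and] at hx ⊢
      exact piNat_of_dvd hx (orderOf_map_dvd (QuotientGroup.mk' N) x))]
  refine Finset.sum_le_sum fun c _ => le_trans ?_ (Nat.mul_le_mul_left _ (coset_bound π N c))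
  rw [Finset.filter_filter, Finset.mul_sum]
  refine Finset.sum_le_sum fun x hx => ?_
  rw [← (Finset.mem_filter.mp hx).2.2]
  exact card_centralizer_le N x

theorem kpi_le_card_of_conj [Finite G] {π : Set ℕ} (H : Subgroup G)
    (h : ∀ x : G, IsPiNat π (orderOf x) → ∃ g : G, g * x * g⁻¹ ∈ H) : kpi π G ≤ Nat.card H := by
  have key : ∀ C : {C : ConjClasses G // ∀ q : ℕ, q.Prime →
      (∃ g : G, ConjClasses.mk g = C ∧ q ∣ orderOf g) → q ∈ π}, ∃ y : H, ConjClasses.mk (y : G) = C := by
    rintro ⟨C, hC⟩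
    obtain ⟨x, rfl⟩ := ConjClasses.exists_rep C
    obtain ⟨g, hg⟩ := h x (kpi_pred_mk.mp hC)
    exact ⟨⟨_, hg⟩, ConjClasses.mk_eq_mk_iff_isConj.mpr (isConj_iff.mpr ⟨g, rfl⟩).symm⟩
  choose f hf using key
  exact Nat.card_le_card_of_injective f fun C D e => Subtype.ext (by rw [← hf, e, hf])

theorem kpi_le_mul_of_centralizer [Finite G] (π ρ : Set ℕ) {m : ℕ}
    (h : ∀ x : G, kpi (π ∩ ρᶜ) (centralizer ({x} : Set G)) ≤ m) : kpi π G ≤ kpi (π ∩ ρ) G * m := by
  have := Fintype.ofFinite G
  refine Nat.le_of_mul_le_mul_right ?_ (Nat.card_pos (α := G))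
  rw [kpi_mul, mul_right_comm, kpi_mul, Finset.sum_mul,
    ← Finset.sum_fiberwise_of_maps_to (g := piPart ρ)
    (t := Finset.univ.filter fun c => IsPiNat (π ∩ ρ) (orderOf c)) (fun x hx => by
      simp only [Finset.mem_filter, Finset.mem_univ, true_and] at hx ⊢
      exact piNat_inter (piElem_of_mem_zpowers hx (piPart_mem_zpowers _ _)) (piPart_pi _ _))]
  refine Finset.sum_le_sum fun x hx => le_trans ?_ (Nat.mul_le_mul_left _ (h x))
  rw [mul_comm, kpi_mul]
  refine (Finset.sum_le_sum_of_subset (t := (Finset.univ.filter fun y : centralizer ({x} : Set G) =>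
    IsPiNat (π ∩ ρᶜ) (orderOf y)).image fun y : centralizer ({x} : Set G) => x * y) fun g hg => ?_).trans ?_
  · simp only [Finset.mem_filter, Finset.mem_univ, true_and, Finset.mem_image] at hg ⊢
    obtain ⟨hg, rfl⟩ := hg
    refine ⟨⟨piPart ρᶜ g, mem_cent1_iff_commute.mpr (piPart_commute _ _ _)⟩, ?_, piPart_mul_compl _ _⟩
    rw [← orderOf_coe]
    exact piNat_inter (piElem_of_mem_zpowers hg (piPart_mem_zpowers _ _)) (piPart_pi _ _)
  rw [Finset.sum_image fun a _ b _ e => Subtype.ext (mul_left_cancel e)]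
  refine Finset.sum_le_sum fun y hy => le_of_eq ?_
  simp only [Finset.mem_filter, Finset.mem_univ, true_and] at hx hy
  rw [card_centralizer_subtype, centralizer_mul_of_coprime (mem_cent1_iff_commute.mp y.2).symm
    (piNat_coprime (piNat_mono Set.inter_subset_right hx)
      (piNat_mono Set.inter_subset_right (by rwa [orderOf_coe]))), inf_comm]

end Cfsg.Agent.FGS
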