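import Mathlib
import Cfsg.Agent.FGS.Basic2
import Cfsg.Agent.FGS.SylowNum
import Cfsg.Agent.FGS.ClassCount
import Cfsg.Agent.Core.SylowOf
import Cfsg.Agent.Core.Cores
import Cfsg.Agent.H2.Subnormal

/-! Subnormalizers of `p`-subgroups. -/

set_option autoImplicit false

namespace Cfsg.Agent.FGS

open Subgroup Cfsg Cfsg.Agent Finset
open scoped Classical

theorem card_smul_mem {L X : Type*} [Group L] [Finite L] [MulAction L X] (x : X) (S : X → Prop) :
    Nat.card {g : L // S (g • x)} =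
      Nat.card {y : X // S y ∧ ∃ g : L, y = g • x} * Nat.card (MulAction.stabilizer L x) := by
  let f : {g : L // S (g • x)} → {y : X // S y ∧ ∃ g : L, y = g • x} := fun g => ⟨g.1 • x, g.2, g.1, rfl⟩
  have hf : Function.Surjective f := by
    rintro ⟨_, h, g, rfl⟩
    exact ⟨⟨g, h⟩, rfl⟩
  haveI := Finite.of_surjective f hf
  haveI := Fintype.ofFinite {y : X // S y ∧ ∃ g : L, y = g • x}
  rw [← Nat.card_congr (Equiv.sigmaFiberEquiv f), Nat.card_sigma, Nat.card_eq_fintype_card,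
    ← card_univ, ← smul_eq_mul, ← sum_const]
  refine sum_congr rfl ?_
  rintro ⟨_, h, g, rfl⟩ -
  refine Nat.card_congr
    { toFun := fun a => ⟨g⁻¹ * a.1.1, by
        rw [MulAction.mem_stabilizer_iff, mul_smul, show a.1.1 • x = g • x from congrArg Subtype.val a.2,
          inv_smul_smul]⟩
      invFun := fun s => ⟨⟨g * s, by rwa [mul_smul, s.2]⟩, Subtype.ext (by
        change (g * s) • x = g • x
        rw [mul_smul, s.2])⟩
      left_inv := fun a => by ext; simp
      right_inv := fun s => by ext; simp }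

section Mobius

variable {α : Type*} [PartialOrder α]

/-- The Möbius weights of a finite poset, counted from the top. -/
noncomputable def nu (X : Finset α) (x : α) : ℤ :=
  1 - ∑ y ∈ (X.filter (x < ·)).attach, nu X y
termination_by (X.filter (x < ·)).card
decreasing_by
  obtain ⟨y, hy⟩ := y
  rw [mem_filter] at hy
  refine card_lt_card ⟨fun z hz => ?_, fun h => ?_⟩
  · rw [mem_filter] at hz ⊢
    exact ⟨hz.1, hy.2.trans hz.2⟩
  · exact lt_irrefl y (mem_filter.mp (h (mem_filter.mpr hy))).2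

theorem nu_eq (X : Finset α) (x : α) : nu X x = 1 - ∑ y ∈ X.filter (x < ·), nu X y := by
  rw [nu, sum_attach]

theorem filter_le_eq {X : Finset α} {x : α} (hx : x ∈ X) :
    X.filter (x ≤ ·) = insert x (X.filter (x < ·)) := by
  ext y
  simp only [mem_filter, mem_insert]
  constructor
  · rintro ⟨h1, h2⟩
    exact h2.eq_or_lt.imp Eq.symm fun h => ⟨h1, h⟩
  · rintro (rfl | h)
    · exact ⟨hx, le_rfl⟩
    · exact ⟨h.1, h.2.le⟩

theorem sum_nu {X : Finset α} {x : α} (hx : x ∈ X) : ∑ y ∈ X.filter (x ≤ ·), nu X y = 1 := by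
  rw [filter_le_eq hx, sum_insert (by simp), nu_eq]; ring

theorem eq_nu [WellFoundedGT α] {X Y : Finset α} (hY : ∀ y ∈ Y, ∀ x ∈ X, y ≤ x → x ∈ Y) (hYX : Y ⊆ X)
    {f : α → ℤ} (h : ∀ y ∈ Y, ∑ z ∈ Y.filter (y ≤ ·), f z = 1) : ∀ y ∈ Y, f y = nu X y := by
  intro y
  induction y using WellFoundedGT.induction with
  | ind y ih =>
  intro hy
  have h1 := h y hy
  rw [filter_le_eq hy, sum_insert (by simp)] at h1
  have h2 : X.filter (y < ·) = Y.filter (y < ·) := by
    ext z
    simp only [mem_filter]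
    exact ⟨fun h => ⟨hY y hy z h.1 h.2.le, h.2⟩, fun h => ⟨hYX h.1, h.2⟩⟩
  rw [nu_eq, h2, ← sum_congr rfl fun z hz => ih z (mem_filter.mp hz).2 (mem_filter.mp hz).1]
  linarith

theorem nu_eq_of_retract [WellFoundedGT α] {X Y : Finset α} (hYX : Y ⊆ X) (x : α) (r : α → α)
    (h1 : ∀ z ∈ X, x < z → r z ∈ Y ∧ x < r z) (h2 : ∀ y ∈ Y, ∀ z ∈ X, y ≤ r z ↔ y ≤ z) :
    nu X x = nu Y x := by
  have hmaps : ∀ z ∈ X.filter (x < ·), r z ∈ Y.filter (x < ·) := fun z hz =>
    mem_filter.mpr (h1 z (mem_filter.mp hz).1 (mem_filter.mp hz).2)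
  rw [nu_eq, nu_eq, ← sum_fiberwise_of_maps_to hmaps]
  congr 1
  refine sum_congr rfl (eq_nu (fun y hy z hz h => mem_filter.mpr ⟨hz, (mem_filter.mp hy).2.trans_le h⟩)
    (filter_subset _ _) fun y hy => ?_)
  rw [mem_filter] at hy
  refine (sum_fiberwise_eq_sum_filter _ _ r (nu X)).trans ?_
  rw [← sum_nu (hYX hy.1)]
  refine sum_congr ?_ fun _ _ => rfl
  ext z
  simp only [mem_filter]
  constructor
  · rintro ⟨h, -, h'⟩
    exact ⟨h.1, (h2 y hy.1 z h.1).mp h'⟩
  · rintro ⟨h, h'⟩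
    exact ⟨⟨h, hy.2.trans_le h'⟩, h1 z h (hy.2.trans_le h'), (h2 y hy.1 z h).mpr h'⟩

end Mobius

variable {G : Type*} [Group G] [Fintype G] {p : ℕ} [hp : Fact p.Prime]

/-- The `g`-invariant `p`-subgroups of `L`. -/
noncomputable def invP (p : ℕ) (L : Subgroup G) (g : G) : Finset (Subgroup G) :=
  univ.filter fun T => IsPGroup p T ∧ T ≤ L ∧ g ∈ normalizer (T : Set G)

omit hp in
theorem mem_invP {L T : Subgroup G} {g : G} :
    T ∈ invP p L g ↔ IsPGroup p T ∧ T ≤ L ∧ g ∈ normalizer (T : Set G) := by simp [invP]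

theorem nu_invP {L T : Subgroup G} {g : G} (hg : g ∈ normalizer (T : Set G)) :
    nu (invP p L g) T = nu (invP p (L ⊓ normalizer (T : Set G)) g) T := by
  refine nu_eq_of_retract (fun z hz => ?_) T (· ⊓ normalizer (T : Set G)) (fun z hz h => ⟨?_, ?_⟩)
    fun y hy z _ => ?_
  · rw [mem_invP] at hz ⊢
    exact ⟨hz.1, hz.2.1.trans inf_le_left, hz.2.2⟩
  · rw [mem_invP] at hz ⊢
    exact ⟨hz.1.to_le inf_le_left, inf_le_inf_right _ hz.2.1, Core.le_normalizer_inf
      (zpowers_le.mpr hz.2.2) ((zpowers_le.mpr hg).trans le_normalizer) (mem_zpowers g)⟩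
  · exact Core.lt_inf_normalizer_of_nilpotent (mem_invP.mp hz).1.isNilpotent h
  · exact ⟨fun h => h.trans inf_le_left, fun h => le_inf h ((mem_invP.mp hy).2.1.trans inf_le_right)⟩

theorem sum_sylow (N : Subgroup G) :
    ∑ T ∈ univ.filter (fun T => Core.IsSylowOf p T N),
      Nat.card (N ⊓ normalizer (T : Set G) : Subgroup G) = Nat.card N := by
  have h1 : (univ.filter (fun T => Core.IsSylowOf p T N)).card = Nat.card (Sylow p N) := by
    haveI := Fintype.ofFinite (Sylow p N)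
    rw [Nat.card_eq_fintype_card, ← card_univ]
    symm
    refine card_bij (fun S _ => (S : Subgroup N).map N.subtype)
      (fun S _ => mem_filter.mpr ⟨mem_univ _, Core.isSylowOf_map_subtype S⟩)
      (fun S _ T _ h => Sylow.ext (map_injective N.subtype_injective h)) fun T hT => ?_
    obtain ⟨S, hS⟩ := (mem_filter.mp hT).2.exists_sylow
    exact ⟨S, mem_univ _, hS⟩
  refine Nat.eq_of_mul_eq_mul_right (Nat.card_pos (α := Sylow p N)) ?_
  rw [sum_mul, sum_congr rfl (g := fun _ => Nat.card N), sum_const, h1, smul_eq_mul, mul_comm]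
  intro T hT
  rw [card_sylow_of_isSylowOf (mem_filter.mp hT).2, inf_comm, Core.card_inf_mul_relIndex]

omit hp in
theorem sum_comm_invP (L H : Subgroup G) :
    ∑ g ∈ univ.filter (· ∈ L), ∑ T ∈ (invP p L g).filter (H ≤ ·), nu (invP p L g) T =
      ∑ T ∈ univ.filter (fun T : Subgroup G => IsPGroup p T ∧ T ≤ L ∧ H ≤ T),
        ∑ g ∈ univ.filter (· ∈ L ⊓ normalizer (T : Set G)), nu (invP p L g) T := by
  refine sum_comm' fun g T => ?_
  simp only [mem_filter, mem_univ, true_and, mem_invP, Subgroup.mem_inf]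
  tauto

theorem sum_nu_invP (T : Subgroup G) : ∀ L : Subgroup G, IsPGroup p T → T ≤ L →
    ∑ g ∈ univ.filter (· ∈ L ⊓ normalizer (T : Set G)), nu (invP p L g) T =
      if Core.IsSylowOf p T L then (Nat.card (L ⊓ normalizer (T : Set G) : Subgroup G) : ℤ) else 0 := by
  induction T using WellFoundedGT.induction with
  | ind T ih =>
  intro L hT hTL
  set N := L ⊓ normalizer (T : Set G) with hN
  have hTN : T ≤ N := le_inf hTL le_normalizer
  have hNN : N ⊓ normalizer (T : Set G) = N := inf_eq_left.mpr inf_le_right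
  have h1 := sum_comm_invP (p := p) N T
  rw [sum_congr rfl (g := fun _ => (1 : ℤ)) fun g hg =>
    sum_nu (mem_invP.mpr ⟨hT, hTN, (mem_filter.mp hg).2.2⟩), sum_const, ← card_eq_card_filter,
    ← add_sum_erase _ _ (a := T) (mem_filter.mpr ⟨mem_univ _, hT, hTN, le_rfl⟩), hNN,
    sum_congr rfl (s₁ := Finset.erase _ _) fun U hU => ih U (lt_of_le_of_ne (mem_filter.mp (mem_of_mem_erase hU)).2.2.2
      (ne_of_mem_erase hU).symm) N (mem_filter.mp (mem_of_mem_erase hU)).2.1
      (mem_filter.mp (mem_of_mem_erase hU)).2.2.1, ← sum_filter] at h1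
  rw [sum_congr rfl fun g hg => nu_invP (p := p) (L := L) (T := T) (mem_filter.mp hg).2.2]
  split_ifs with hS
  · rw [sum_eq_zero (s := Finset.filter _ (Finset.erase _ _)) fun U hU => ?_] at h1
    · simpa using h1.symm
    · rw [mem_filter, mem_erase, mem_filter] at hU
      exact absurd (hS.eq_of_le hU.2.isPGroup (hU.2.le.trans inf_le_left) hU.1.2.2.2.2) hU.1.1.symm
  · have h2 : ((univ.filter (fun U : Subgroup G => IsPGroup p U ∧ U ≤ N ∧ T ≤ U)).erase T).filter
        (fun U => Core.IsSylowOf p U N) = univ.filter (fun U => Core.IsSylowOf p U N) := by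
      ext U
      simp only [mem_filter, mem_erase, mem_univ, true_and, and_iff_right_iff_imp]
      intro hU
      refine ⟨?_, hU.isPGroup, hU.le, hU.normal_le hT hTN inf_le_right⟩
      rintro rfl
      exact hS hU.of_normalizer
    rw [h2, ← Nat.cast_sum, sum_sylow] at h1
    simpa using h1.symm

theorem isSubnormal_iff_exists {H : Subgroup G} (hH : IsPGroup p H) (g : G) :
    (H.subgroupOf (H ⊔ zpowers g)).IsSubnormal ↔
      ∃ T : Subgroup G, IsPGroup p T ∧ H ≤ T ∧ g ∈ normalizer (T : Set G) := by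
  constructor
  · intro h
    refine ⟨(pCore p ↥(H ⊔ zpowers g)).map (Subgroup.subtype _), (Core.pCore_isPGroup p).map _,
      fun x hx => ⟨⟨x, mem_sup_left hx⟩, Core.le_pCore_of_isSubnormal h hH.comap_subtype hx, rfl⟩,
      Core.le_normalizer_map_subtype_of_normal _ _ (mem_sup_right (mem_zpowers g))⟩
  · rintro ⟨T, hT, hHT, hg⟩
    haveI := hT.isNilpotent
    have hn : H ⊔ zpowers g ≤ normalizer (T : Set G) :=
      sup_le (hHT.trans le_normalizer) (zpowers_le.mpr hg)
    have h1 : H2.SN (T ⊔ zpowers g) H := (H2.SN.of_normal le_sup_left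
      (sup_le le_normalizer (zpowers_le.mpr hg))).trans (H2.SN.of_isNilpotent hHT)
    exact (h1.mono le_sup_left (sup_le_sup_right hHT _)).isSubnormal_subgroupOf

theorem card_subnormalizer {H : Subgroup G} (hH : IsPGroup p H) (P : Sylow p G) :
    Nat.card {g : G // (H.subgroupOf (H ⊔ zpowers g)).IsSubnormal} =
      Nat.card {Q : Sylow p G // H ≤ (Q : Subgroup G)} *
        Nat.card (normalizer ((P : Subgroup G) : Set G)) := by
  haveI := Fintype.ofFinite (Sylow p G)
  have h1 := sum_comm_invP (p := p) ⊤ H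
  have h2 : ∀ g : G, ∑ T ∈ (invP p ⊤ g).filter (H ≤ ·), nu (invP p ⊤ g) T =
      if (H.subgroupOf (H ⊔ zpowers g)).IsSubnormal then 1 else 0 := by
    intro g
    rw [isSubnormal_iff_exists hH]
    split_ifs with h
    · obtain ⟨T, hT, hm⟩ := exists_minimal_of_wellFoundedLT _ h
      rw [← sum_nu (mem_invP.mpr ⟨hT.1, le_top, hT.2.2⟩)]
      refine sum_congr ?_ fun _ _ => rfl
      ext U
      simp only [mem_filter, mem_invP, and_congr_right_iff]
      intro hU
      refine ⟨fun h => ?_, hT.2.1.trans⟩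
      exact (hm (y := T ⊓ U) ⟨hT.1.to_le inf_le_left, le_inf hT.2.1 h, Core.le_normalizer_inf
        (zpowers_le.mpr hT.2.2) (zpowers_le.mpr hU.2.2) (mem_zpowers g)⟩ inf_le_left).trans inf_le_right
    · refine sum_eq_zero fun T hT => absurd ?_ h
      rw [mem_filter, mem_invP] at hT
      exact ⟨T, hT.1.1, hT.2, hT.1.2.2⟩
  rw [sum_congr rfl fun g _ => h2 g, sum_congr rfl fun T hT =>
    sum_nu_invP T ⊤ (mem_filter.mp hT).2.1 le_top, ← sum_filter, ← sum_filter] at h1
  rw [Nat.card_eq_fintype_card, Nat.card_eq_fintype_card (α := {Q : Sylow p G // _}),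
    Fintype.card_subtype, Fintype.card_subtype, ← smul_eq_mul, ← sum_const]
  zify
  refine Eq.trans (by simp) (h1.trans (sum_bij (fun (Q : Sylow p G) _ => (Q : Subgroup G)) ?_ ?_ ?_ ?_).symm)
  · intro Q hQ
    simp only [mem_filter, mem_univ, true_and] at hQ ⊢
    exact ⟨⟨Q.isPGroup', le_top, hQ⟩, Core.isSylowOf_top Q⟩
  · exact fun _ _ _ _ h => Sylow.ext h
  · intro T hT
    simp only [mem_filter, mem_univ, true_and] at hT ⊢
    obtain ⟨Q, rfl⟩ := hT.2.exists_sylow_top
    exact ⟨Q, hT.1.2.2, rfl⟩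
  · intro Q _
    rw [top_inf_eq, Nat.cast_inj]
    refine Nat.eq_of_mul_eq_mul_right (Nat.card_pos (α := Sylow p G)) ?_
    nth_rw 1 [card_sylow_eq P]
    rw [card_sylow_eq Q, card_mul_index, card_mul_index]

end Cfsg.Agent.FGS
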