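import Mathlib
import Cfsg.Agent.Inv.Pairs
import Cfsg.Agent.FGS.EqOrd
import Cfsg.Agent.PGrp.Comm

/-!
# FGS/Class2: a Sylow 2-subgroup of class two which is a maximal invariant subgroup
-/

set_option autoImplicit false

open Subgroup
open scoped commutatorElement Pointwise

namespace Cfsg.Agent.FGS

variable {G : Type*} [Group G]

theorem mul_mem_of_ti [Finite G] {P Q : Subgroup G} [Q.Normal] (hQP : Q ≤ P) (hP : P ≠ ⊤)
    (hti : ∀ s ∈ P, s ∉ Q → ∀ r, r * s * r⁻¹ ∈ P → r ∈ P) (hsq : ∀ s ∈ P, s * s ∈ Q)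
    {s t : G} (hs : s ∈ P) (ht : t ∈ P) (hsQ : s ∉ Q) (htQ : t ∉ Q) : s * t ∈ Q := by
  obtain ⟨g, hg⟩ : ∃ g, g ∉ P := by
    by_contra h
    push Not at h
    exact hP (eq_top_iff.mpr fun x _ => h x)
  let f := QuotientGroup.mk' Q
  have hf : ∀ x, f x = 1 ↔ x ∈ Q := fun x => QuotientGroup.eq_one_iff x
  have hm : ∀ x y, f x = f y → y ∈ P → x ∈ P := fun x y h hy => by
    have : x * y⁻¹ ∈ Q := by rw [← hf, map_mul, map_inv, h, mul_inv_cancel]
    simpa using mul_mem (hQP this) hy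
  have h1 : f (g * t * g⁻¹) * f (g * t * g⁻¹) = 1 := by
    rw [← map_mul, hf, conj_mul]
    exact Normal.conj_mem inferInstance _ (hsq t ht) g
  have h2 : f s * f s = 1 := by rw [← map_mul, hf]; exact hsq s hs
  rcases Inv.isConj_or_exists_central h1 h2 with ⟨d, -, h⟩ | ⟨c, -, h3, h4, h5⟩
  · obtain ⟨d, rfl⟩ := QuotientGroup.mk'_surjective Q d
    have h3 : f (d * g * t * (d * g)⁻¹) = f s := by
      rw [← h]; simp only [f, map_mul, map_inv]; group
    have h4 : d * g ∈ P := hti t ht htQ _ (hm _ _ h3 hs)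
    rw [← hf, map_mul, ← h3, ← map_mul, hf]
    generalize d * g = e at h4
    have h5 := mul_mem (hsq _ (mul_mem h4 ht)) (Normal.conj_mem inferInstance _ (inv_mem (hsq e h4)) t⁻¹)
    convert h5 using 1
    group
  · obtain ⟨c, rfl⟩ := QuotientGroup.mk'_surjective Q c
    have h6 : c ∈ P := hti s hs hsQ c (hm _ _ (by
      simp only [f, map_mul, map_inv]; rw [h5.eq, mul_inv_cancel_right]) hs)
    have h7 : g⁻¹ * c * g ∈ P := hti t ht htQ _ (hm _ t (by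
      have := h4.eq
      simp only [f, map_mul, map_inv] at this ⊢
      calc _ = (QuotientGroup.mk' Q g)⁻¹ * (QuotientGroup.mk' Q c * (QuotientGroup.mk' Q g *
            QuotientGroup.mk' Q t * (QuotientGroup.mk' Q g)⁻¹)) * (QuotientGroup.mk' Q c)⁻¹ *
            QuotientGroup.mk' Q g := by group
        _ = _ := by rw [this]; group) ht)
    refine absurd (inv_mem_iff.mp (hti c h6 (fun h => ?_) g⁻¹ (by rwa [inv_inv]))) hg
    rw [(hf c).mpr h, orderOf_one] at h3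
    exact absurd h3 (by decide)

/-- The elements normalizing `N` and centralizing `S` modulo `N`. -/
def centMod (S : Set G) (N : Subgroup G) : Subgroup G where
  carrier := {r | r ∈ normalizer (N : Set G) ∧ ∀ q ∈ S, ⁅r, q⁆ ∈ N}
  one_mem' := ⟨one_mem _, fun q _ => by rw [commutatorElement_one_left]; exact one_mem _⟩
  mul_mem' := by
    rintro a b ⟨ha, ha'⟩ ⟨hb, hb'⟩
    refine ⟨mul_mem ha hb, fun q hq => ?_⟩
    have := mul_mem (PGrp.conj_mem_of_mem_normalizer ha (hb' q hq)) (ha' q hq)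
    convert this using 1
    simp only [commutatorElement_def]; group
  inv_mem' := by
    rintro a ⟨ha, ha'⟩
    refine ⟨inv_mem ha, fun q hq => ?_⟩
    have := PGrp.conj_mem_of_mem_normalizer' ha (inv_mem (ha' q hq))
    convert this using 1
    simp only [commutatorElement_def]; group

theorem comm_of_max [Finite G] {P R : Subgroup G} (hPR : P < R)
    (hmax : ∀ H, P ≤ H → H ≤ R → H = P ∨ H = R) (hNP : R ⊓ normalizer (P : Set G) ≤ P)
    {S : Set G} {N : Subgroup G} (hN : R ≤ normalizer (N : Set G))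
    (hS : ∀ r ∈ R, ∀ q ∈ S, r * q * r⁻¹ ∈ S) (h : ∀ s ∈ P, ∀ q ∈ S, ⁅s, q⁆ ∈ N) :
    ∀ r ∈ R, ∀ q ∈ S, ⁅r, q⁆ ∈ N := by
  rcases hmax (R ⊓ centMod S N) (fun s hs => ⟨hPR.le hs, hN (hPR.le hs), h s hs⟩) inf_le_left with e | e
  · refine absurd (fun r hr => hNP ⟨hr, mem_normalizer_fintype fun x hx => ?_⟩) (not_le_of_gt hPR)
    have h1 : r * x * r⁻¹ ∈ R := mul_mem (mul_mem hr (hPR.le hx)) (inv_mem hr)
    refine e.le ⟨h1, hN h1, fun q hq => ?_⟩
    have := PGrp.conj_mem_of_mem_normalizer (hN hr) (h x hx _ (hS _ (inv_mem hr) q hq))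
    convert this using 1
    simp only [commutatorElement_def]; group
  · exact fun r hr => (e.ge hr).2.2

theorem sq_comm_iff {s u : G} (h1 : Commute ⁅s, u⁆ s) :
    Commute (s * s) u ↔ ⁅s, u⁆ * ⁅s, u⁆ = 1 := by
  have : s * s * u * (s * s)⁻¹ * u⁻¹ = ⁅s, u⁆ * ⁅s, u⁆ := by
    calc _ = s * ⁅s, u⁆ * s⁻¹ * ⁅s, u⁆ := by simp only [commutatorElement_def]; group
      _ = _ := by rw [← h1.eq, mul_inv_cancel_right]
  rw [← commutatorElement_eq_one_iff_commute, commutatorElement_def, this]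

theorem sq_comm_iff' {s u : G} (h1 : Commute ⁅s, u⁆ u) :
    Commute s (u * u) ↔ ⁅s, u⁆ * ⁅s, u⁆ = 1 := by
  have : s * (u * u) * s⁻¹ * (u * u)⁻¹ = ⁅s, u⁆ * ⁅s, u⁆ := by
    calc _ = ⁅s, u⁆ * (u * ⁅s, u⁆ * u⁻¹) := by simp only [commutatorElement_def]; group
      _ = _ := by rw [← h1.eq, mul_inv_cancel_right]
  rw [← commutatorElement_eq_one_iff_commute, commutatorElement_def, this]

theorem exists_block [Finite G] {P R : Subgroup G}
    (hc : ∀ x ∈ P, ∀ y ∈ P, ⁅x, y⁆ ∈ centralizer (P : Set G)) (hPR : P < R)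
    (hmax : ∀ H, P ≤ H → H ≤ R → H = P ∨ H = R) (hNP : R ⊓ normalizer (P : Set G) ≤ P)
    (hZ : ∀ r ∈ R, ∀ z ∈ P ⊓ centralizer (P : Set G), r * z * r⁻¹ ∈ P)
    (h1 : R ⊓ centralizer {z | z ∈ P ⊓ centralizer (P : Set G) ∧ z * z = 1} ≤ P)
    (h2 : R ≤ centralizer {y | ∃ z ∈ P ⊓ centralizer (P : Set G), z * z = y} →
      ∀ z ∈ P ⊓ centralizer (P : Set G), z * z = 1) :
    ∃ Q U : Subgroup G, P ⊓ centralizer (P : Set G) ≤ U ∧ U ≤ Q ∧ Q ≤ P ∧
      (∀ s ∈ P, s ∈ Q ↔ s ∈ centralizer (U : Set G)) ∧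
      (∀ s ∈ P, ∀ t ∈ P, s ∉ Q → t ∉ Q → s * t ∈ Q) ∧ (∀ u ∈ U, u * u = 1) ∧
      (∀ r ∈ R, ∀ q ∈ Q, ⁅r, q⁆ ∈ U) ∧
      ∀ z, (∀ s ∈ P, ∀ u ∈ U, ⁅s, u⁆ ∈ zpowers z) → ∀ x ∈ Q, ∀ y ∈ Q, ⁅x, y⁆ ≠ z := by
  let Q : Subgroup G :=
    { carrier := {q | ∀ r ∈ R, r * q * r⁻¹ ∈ P}
      one_mem' := fun r _ => by simp
      mul_mem' := fun {a b} ha hb r hr => by rw [← conj_mul]; exact mul_mem (ha r hr) (hb r hr)
      inv_mem' := fun {a} ha r hr => by rw [← conj_inv]; exact inv_mem (ha r hr) }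
  have hQP : Q ≤ P := fun q hq => by simpa using hq 1 (one_mem _)
  have hRQ : ∀ r ∈ R, ∀ q ∈ Q, r * q * r⁻¹ ∈ Q := fun r hr q hq s hs => by
    convert hq _ (mul_mem hs hr) using 1
    group
  have hNQ : R ≤ normalizer (Q : Set G) := fun r hr => mem_normalizer_fintype (hRQ r hr)
  have hZQ : P ⊓ centralizer (P : Set G) ≤ Q := fun z hz r hr => hZ r hr z hz
  have hcZ : ∀ x ∈ P, ∀ y ∈ P, ⁅x, y⁆ ∈ P ⊓ centralizer (P : Set G) := fun x hx y hy =>
    ⟨P.mul_mem (P.mul_mem (P.mul_mem hx hy) (P.inv_mem hx)) (P.inv_mem hy), hc x hx y hy⟩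
  have hcm : ∀ s ∈ P, s ∉ Q → R ⊓ centMod {s} Q ≤ P := by
    intro s hs hsQ
    rcases hmax (R ⊓ centMod {s} Q) (fun t ht => ⟨hPR.le ht, hNQ (hPR.le ht), by
      rintro _ rfl; exact hZQ (hcZ t ht _ hs)⟩) inf_le_left with e | e
    · exact e.le
    · refine absurd (fun r hr => ?_) hsQ
      simpa [commutatorElement_def] using mul_mem (hQP ((e.ge hr).2.2 s rfl)) hs
  have hti : ∀ s ∈ P, s ∉ Q → ∀ r ∈ R, r * s * r⁻¹ ∈ P → r ∈ P := by
    intro s hs hsQ r hr h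
    refine hNP ⟨hr, mem_normalizer_fintype fun x hx => ?_⟩
    have h3 : r * x * r⁻¹ ∈ R := mul_mem (mul_mem hr (hPR.le hx)) (inv_mem hr)
    refine hcm _ h (fun h4 => hsQ ?_) ⟨h3, hNQ h3, ?_⟩
    · simpa [mul_assoc] using hRQ _ (inv_mem hr) _ h4
    · rintro _ rfl
      rw [← conjugate_commutatorElement]
      exact hRQ r hr _ (hZQ (hcZ x hx s hs))
  have hsq : ∀ s ∈ P, s * s ∈ Q := by
    intro s hs r hr
    refine h1 ⟨R.mul_mem (R.mul_mem hr (hPR.le (mul_mem hs hs))) (R.inv_mem hr), fun z hz => ?_⟩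
    have h3 := hZ _ (inv_mem hr) z hz.1
    have h4 : Commute (s * s) (r⁻¹ * z * r⁻¹⁻¹) := by
      rw [sq_comm_iff (hc s hs _ h3 s hs).symm, ← sq_comm_iff' (hc s hs _ h3 _ h3).symm, conj_mul,
        hz.2]
      simp
    calc z * (r * (s * s) * r⁻¹) = r * ((r⁻¹ * z * r⁻¹⁻¹) * (s * s)) * r⁻¹ := by group
      _ = _ := by rw [← h4.eq]; group
  have hidx : ∀ s ∈ P, ∀ t ∈ P, s ∉ Q → t ∉ Q → s * t ∈ Q := by
    intro s hs t ht hsQ htQ
    have := (normal_subgroupOf_iff_le_normalizer (hQP.trans hPR.le)).mpr hNQ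
    exact mul_mem_of_ti (G := R) (P := P.subgroupOf R) (Q := Q.subgroupOf R) (comap_mono hQP)
      (fun h => not_le_of_gt hPR (subgroupOf_eq_top.mp h))
      (fun s hs hsQ r h => hti s hs hsQ r r.2 h) (fun s hs => hsq s hs)
      (s := ⟨s, hPR.le hs⟩) (t := ⟨t, hPR.le ht⟩) hs ht hsQ htQ
  have hRC : ∀ r ∈ R, ∀ u ∈ Q ⊓ centralizer (Q : Set G), r * u * r⁻¹ ∈ Q ⊓ centralizer (Q : Set G) :=
    fun r hr u hu => ⟨hRQ r hr u hu.1, PGrp.conj_mem_of_mem_normalizer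
      (Core.normalizer_le_normalizer_centralizer _ (hNQ hr)) hu.2⟩
  have hZV : P ⊓ centralizer (P : Set G) ≤ Q ⊓ centralizer (Q : Set G) :=
    le_inf hZQ (inf_le_right.trans (centralizer_le hQP))
  have hZ2 : ∀ z ∈ P ⊓ centralizer (P : Set G), z * z = 1 := by
    refine h2 fun r hr y hy => ?_
    have := comm_of_max hPR hmax hNP (S := {y | ∃ z ∈ Q ⊓ centralizer (Q : Set G), z * z = y})
      (N := ⊥) le_normalizer_of_normal (by
        rintro r hr _ ⟨z, hz, rfl⟩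
        exact ⟨_, hRC r hr z hz, conj_mul⟩) (by
        rintro s hs _ ⟨u, hu, rfl⟩
        rw [mem_bot, commutatorElement_eq_one_iff_commute,
          sq_comm_iff' (hc s hs _ (hQP hu.1) _ (hQP hu.1)).symm,
          ← sq_comm_iff (hc s hs _ (hQP hu.1) s hs).symm]
        exact hu.2 _ (hsq s hs)) r hr y (by
        obtain ⟨z, hz, e⟩ := hy
        exact ⟨z, hZV hz, e⟩)
    exact (commutatorElement_eq_one_iff_mul_comm.mp (mem_bot.mp this)).symm
  let U : Subgroup G :=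
    { carrier := {u | u ∈ Q ⊓ centralizer (Q : Set G) ∧ u * u = 1}
      one_mem' := ⟨one_mem _, mul_one _⟩
      mul_mem' := fun {a b} ha hb => ⟨mul_mem ha.1 hb.1, by
        rw [mul_assoc, ← mul_assoc b, ha.1.2 b hb.1.1, mul_assoc a b b, hb.2, mul_one, ha.2]⟩
      inv_mem' := fun {a} ha => ⟨inv_mem ha.1, by rw [← mul_inv_rev, ha.2, inv_one]⟩ }
  have hZU : P ⊓ centralizer (P : Set G) ≤ U := fun z hz => ⟨hZV hz, hZ2 z hz⟩
  have hRU : ∀ r ∈ R, ∀ u ∈ U, r * u * r⁻¹ ∈ U := fun r hr u hu =>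
    ⟨hRC r hr u hu.1, by rw [conj_mul, hu.2, mul_one, mul_inv_cancel]⟩
  have hNU : R ≤ normalizer (U : Set G) := fun r hr => mem_normalizer_fintype (hRU r hr)
  have hCU : ∀ s ∈ R, s ∈ centralizer (U : Set G) → s ∈ Q := fun s hs h r hr =>
    h1 ⟨R.mul_mem (R.mul_mem hr hs) (R.inv_mem hr), fun z hz => PGrp.conj_mem_of_mem_normalizer
      (Core.normalizer_le_normalizer_centralizer _ (hNU hr)) h z (hZU hz.1)⟩
  have hRQU := comm_of_max hPR hmax hNP hNU hRQ fun s hs q hq => hZU (hcZ s hs q (hQP hq))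
  refine ⟨Q, U, hZU, fun u hu => hu.1.1, hQP,
    fun s hs => ⟨fun h u hu => (hu.1.2 s h).symm, hCU s (hPR.le hs)⟩, hidx, fun u hu => hu.2, hRQU, ?_⟩
  rintro _ h x hx y hy rfl
  have h3 : R ≤ centralizer {⁅x, y⁆} := by
    intro r hr
    rw [mem_centralizer_singleton_iff, ← mul_inv_eq_iff_eq_mul, conjugate_commutatorElement,
      PGrp.conj_eq_commutator_mul, PGrp.conj_eq_commutator_mul]
    have ha := (hRQU r hr x hx).1
    have hb := (hRQU r hr y hy).1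
    generalize ⁅r, x⁆ = a at ha
    generalize ⁅r, y⁆ = b at hb
    calc ⁅a * x, b * y⁆ = a * (x * b) * y * x⁻¹ * (a⁻¹ * y⁻¹ * b⁻¹) := by
          simp only [commutatorElement_def]; group
      _ = a * b * (x * y * x⁻¹ * y⁻¹) * (a * b)⁻¹ := by
          have ha' : a⁻¹ ∈ centralizer (Q : Set G) := inv_mem (mem_inf.mp ha).2
          rw [hb.2 x hx, ← ha' _ (Q.inv_mem hy), mul_inv_rev, ha' _ (Q.inv_mem hb.1)]
          group
      _ = ⁅x, y⁆ := by
          have hab : a * b ∈ centralizer (Q : Set G) := mul_mem (mem_inf.mp ha).2 (mem_inf.mp hb).2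
          rw [← hab _ (Q.mul_mem (Q.mul_mem (Q.mul_mem hx hy) (Q.inv_mem hx)) (Q.inv_mem hy)),
            mul_inv_cancel_right, commutatorElement_def]
  have h4 : R ≤ centralizer (zpowers ⁅x, y⁆ : Set G) := by rwa [PGrp.centralizer_zpowers]
  have h5 := comm_of_max hPR hmax hNP (h4.trans (centralizer_le_normalizer _)) hRU h
  refine not_le_of_gt hPR fun r hr => hNP ⟨hr, mem_normalizer_fintype fun s hs => ?_⟩
  have hsR := hPR.le hs
  rw [PGrp.conj_eq_commutator_mul]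
  refine mul_mem (hQP (hCU _ (mul_mem (mul_mem (mul_mem hr hsR) (inv_mem hr)) (inv_mem hsR))
    fun u hu => ?_)) hs
  have h6 : ∀ a ∈ R, ∀ b ∈ R, ∀ u ∈ U, a * b * u * (a * b)⁻¹ = ⁅a, u⁆ * ⁅b, u⁆ * u := by
    intro a ha b hb u hu
    calc a * b * u * (a * b)⁻¹ = a * ⁅b, u⁆ * a⁻¹ * ⁅a, u⁆ * u := by
          simp only [commutatorElement_def]; group
      _ = _ := by
          rw [← h4 ha _ (h5 b hb u hu), mul_inv_cancel_right,
            (hRQU a ha u hu.1.1).1.2 _ (hRQU b hb u hu.1.1).1.1]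
  have h7 : ∀ u ∈ U, r * s * u * (r * s)⁻¹ = s * r * u * (s * r)⁻¹ := fun u hu => by
    rw [h6 r hr s hsR u hu, h6 s hsR r hr u hu, (hRQU r hr u hu.1.1).1.2 _ (hRQU s hsR u hu.1.1).1.1]
  have h8 := h7 _ (hRU _ (inv_mem (mul_mem hsR hr)) u hu)
  calc u * ⁅r, s⁆ = (s * r * ((s * r)⁻¹ * u * (s * r)⁻¹⁻¹) * (s * r)⁻¹) * ⁅r, s⁆ := by group
    _ = _ := by rw [← h8]; simp only [commutatorElement_def]; group

/-- Elementwise data of a block. -/
structure Blk (P : Subgroup G) (u z : G) : Prop where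
  mem : u ∈ P
  sq : u * u = 1
  comm : ∀ s ∈ P, ⁅s, u⁆ = 1 ∨ ⁅s, u⁆ = z
  ne : ∀ x ∈ P, ∀ y ∈ P, ⁅x, u⁆ = 1 → ⁅y, u⁆ = 1 → ⁅x, y⁆ ≠ z

theorem Blk.conj {P : Subgroup G} {u z a : G} (h : Blk P u z) (ha : a ∈ normalizer (P : Set G)) :
    Blk P (a * u * a⁻¹) (a * z * a⁻¹) := by
  have e : ∀ s t : G, ⁅s, a * t * a⁻¹⁆ = a * ⁅a⁻¹ * s * a, t⁆ * a⁻¹ := fun s t => by
    simp only [commutatorElement_def]; group
  refine ⟨PGrp.conj_mem_of_mem_normalizer ha h.mem, by rw [conj_mul, h.sq]; simp, fun s hs => ?_,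
    fun x hx y hy h1 h2 h3 => ?_⟩
  · rw [e]
    rcases h.comm _ (PGrp.conj_mem_of_mem_normalizer' ha hs) with h1 | h1 <;> simp [h1]
  · rw [e, conj_eq_one_iff] at h1 h2
    refine h.ne _ (PGrp.conj_mem_of_mem_normalizer' ha hx) _ (PGrp.conj_mem_of_mem_normalizer' ha hy)
      h1 h2 ?_
    calc _ = a⁻¹ * ⁅x, y⁆ * a := by simp only [commutatorElement_def]; group
      _ = z := by rw [h3]; group

theorem comm_mul_left {P : Subgroup G} (hc : ∀ x ∈ P, ∀ y ∈ P, ⁅x, y⁆ ∈ centralizer (P : Set G))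
    {x y u : G} (hx : x ∈ P) (hy : y ∈ P) (hu : u ∈ P) : ⁅x * y, u⁆ = ⁅x, u⁆ * ⁅y, u⁆ := by
  calc ⁅x * y, u⁆ = x * ⁅y, u⁆ * (x⁻¹ * ⁅x, u⁆) := by simp only [commutatorElement_def]; group
    _ = _ := by
      rw [hc y hy u hu x hx, mul_assoc, mul_inv_cancel_left, hc y hy u hu]
      exact P.mul_mem (P.mul_mem (P.mul_mem hx hu) (P.inv_mem hx)) (P.inv_mem hu)

theorem Blk.comm_of_odd {P : Subgroup G}
    (hc : ∀ x ∈ P, ∀ y ∈ P, ⁅x, y⁆ ∈ centralizer (P : Set G))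
    (hZ : ∀ z ∈ P ⊓ centralizer (P : Set G), z * z = 1) {u z a : G} (h : Blk P u z)
    (ha : a ∈ normalizer (P : Set G)) (hodd : Odd (orderOf a)) : ⁅a * u * a⁻¹, u⁆ = 1 := by
  by_contra hne
  have h2 := h.conj ha
  set v := a * u * a⁻¹ with hv
  have hz : ⁅v, u⁆ = z := (h.comm v h2.mem).resolve_left hne
  have hcZ : ∀ x ∈ P, ∀ y ∈ P, ⁅x, y⁆ * ⁅x, y⁆ = 1 := fun x hx y hy => hZ _
    ⟨P.mul_mem (P.mul_mem (P.mul_mem hx hy) (P.inv_mem hx)) (P.inv_mem hy), hc x hx y hy⟩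
  have hsymm : ∀ x ∈ P, ∀ y ∈ P, ⁅x, y⁆ = ⁅y, x⁆ := fun x hx y hy => by
    rw [← commutatorElement_inv x y]; exact eq_inv_of_mul_eq_one_left (hcZ x hx y hy)
  have hzz : z * z = 1 := hz ▸ hcZ v h2.mem u h.mem
  have haz : a * z * a⁻¹ = z := by
    rw [← (h2.comm u h.mem).resolve_left (by rwa [hsymm _ h.mem _ h2.mem]), hsymm _ h.mem _ h2.mem, hz]
  rw [haz] at h2
  have h3 := h2.conj ha
  rw [haz] at h3
  set w := a * v * a⁻¹ with hw
  have hwv : ⁅w, v⁆ = z := by rw [hw, hv, ← conjugate_commutatorElement, ← hv, hz, haz]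
  have key : ∀ y ∈ P, (∀ s ∈ P, ⁅s, y⁆ = 1 ∨ ⁅s, y⁆ = z) → ⁅y, u⁆ = 1 → ⁅y, v⁆ = 1 →
      y ∈ centralizer (P : Set G) := by
    intro y hy h4 h5 h6 s hs
    rw [← commutatorElement_eq_one_iff_mul_comm]
    rcases h.comm s hs with h7 | h7
    · exact (h4 s hs).resolve_right (h.ne s hs y hy h7 h5)
    · have h8 := (h4 _ (mul_mem hs h2.mem)).resolve_right (h.ne _ (mul_mem hs h2.mem) y hy
        (by rw [comm_mul_left hc hs h2.mem h.mem, h7, hz, hzz]) h5)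
      rwa [comm_mul_left hc hs h2.mem hy, hsymm _ h2.mem _ hy, h6, mul_one] at h8
  have hm : ∀ x ∈ P, ∀ y ∈ P, (∀ s ∈ P, ⁅s, x⁆ = 1 ∨ ⁅s, x⁆ = z) → (∀ s ∈ P, ⁅s, y⁆ = 1 ∨ ⁅s, y⁆ = z) →
      ∀ s ∈ P, ⁅s, x * y⁆ = 1 ∨ ⁅s, x * y⁆ = z := by
    intro x hx y hy h4 h5 s hs
    rw [hsymm s hs _ (mul_mem hx hy), comm_mul_left hc hx hy hs, hsymm x hx s hs, hsymm y hy s hs]
    rcases h4 s hs with h6 | h6 <;> rcases h5 s hs with h7 | h7 <;> simp [h6, h7, hzz]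
  have huv : ⁅u, v⁆ = z := (hsymm _ h.mem _ h2.mem).trans hz
  rcases h.comm w h3.mem with h4 | h4
  · have h5 := key (w * u) (mul_mem h3.mem h.mem) (hm _ h3.mem _ h.mem h3.comm h.comm)
      (by rw [comm_mul_left hc h3.mem h.mem h.mem, h4, commutatorElement_self, mul_one])
      (by rw [comm_mul_left hc h3.mem h.mem h2.mem, hwv, huv, hzz])
    have h6 : a ∈ normalizer ((P ⊓ centralizer {u} : Subgroup G) : Set G) := by
      refine Core.mem_of_pow_mem_of_coprime (n := 2) ?_ (Nat.coprime_two_left.mpr hodd)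
      have h7 : ∀ s ∈ P, ⁅s, w⁆ = 1 ↔ ⁅s, u⁆ = 1 := by
        intro s hs
        have h8 := commutatorElement_eq_one_iff_mul_comm.mpr (h5 s hs)
        rw [hsymm s hs _ (mul_mem h3.mem h.mem), comm_mul_left hc h3.mem h.mem hs,
          hsymm _ h3.mem s hs, hsymm _ h.mem s hs] at h8
        exact ⟨fun h9 => by rwa [h9, one_mul] at h8, fun h9 => by rwa [h9, mul_one] at h8⟩
      have ha2 := pow_mem ha 2
      have e : ∀ s, ⁅a ^ 2 * s * (a ^ 2)⁻¹, w⁆ = a ^ 2 * ⁅s, u⁆ * (a ^ 2)⁻¹ := fun s => by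
        rw [hw, hv, pow_two]; simp only [commutatorElement_def]; group
      refine mem_normalizer_iff.mpr fun s => ?_
      simp only [mem_inf, mem_centralizer_singleton_iff, ← commutatorElement_eq_one_iff_mul_comm]
      rw [← mem_normalizer_iff.mp ha2 s]
      refine and_congr_right fun hs => ?_
      rw [← h7 _ (PGrp.conj_mem_of_mem_normalizer ha2 hs), e, conj_eq_one_iff]
    have h7 := PGrp.conj_mem_of_mem_normalizer h6
      (mem_inf.mpr ⟨h.mem, mem_centralizer_singleton_iff.mpr rfl⟩)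
    exact hne (commutatorElement_eq_one_iff_mul_comm.mpr (mem_centralizer_singleton_iff.mp h7.2))
  · have huv' := mul_mem h.mem h2.mem
    have h5 := key (w * (u * v)) (mul_mem h3.mem huv')
      (hm _ h3.mem _ huv' h3.comm (hm _ h.mem _ h2.mem h.comm h2.comm))
      (by rw [comm_mul_left hc h3.mem huv' h.mem, comm_mul_left hc h.mem h2.mem h.mem, h4,
        commutatorElement_self, one_mul, hz, hzz])
      (by rw [comm_mul_left hc h3.mem huv' h2.mem, comm_mul_left hc h.mem h2.mem h2.mem, hwv,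
        commutatorElement_self, mul_one, huv, hzz])
    have h6 := hZ _ ⟨mul_mem h3.mem huv', h5⟩
    refine hne ?_
    have h7 : w * (u * v) * (w * (u * v)) = (w * w) * (u * v * (u * v)) := by
      rw [mul_assoc w (u * v), h5 _ huv']
      group
    rw [h7, h3.sq, one_mul] at h6
    rw [hsymm _ h2.mem _ h.mem, commutatorElement_def, inv_eq_of_mul_eq_one_right h.sq,
      inv_eq_of_mul_eq_one_right h2.sq, ← h6]
    group

theorem conj_mem_closure {S : Set G} {N : Subgroup G} {a : G} (h : ∀ x ∈ S, a * x * a⁻¹ ∈ N) :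
    ∀ x ∈ closure S, a * x * a⁻¹ ∈ N := fun _ hx =>
  (closure_le (N.comap (MulAut.conj a).toMonoidHom)).mpr h hx

/-- The center of a class two `2`-group `P` which is the normalizer in `K` of each of its
nontrivial `A`-invariant normal subgroups, `A` of odd order, is weakly closed. -/
theorem mem_of_conj_center_le [Finite G] {K P A : Subgroup G} (hP : IsPGroup 2 P) (hP1 : P ≠ ⊥)
    (hPK : P ≤ K) (hc : ∀ x ∈ P, ∀ y ∈ P, ⁅x, y⁆ ∈ centralizer (P : Set G))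
    (hA : A ≤ normalizer (P : Set G)) (hodd : ∀ a ∈ A, Odd (orderOf a))
    (hN : ∀ X : Subgroup G, X ≠ ⊥ → X ≤ P → P ≤ normalizer (X : Set G) → A ≤ normalizer (X : Set G) →
      K ⊓ normalizer (X : Set G) ≤ P) {g : G} (hg : g ∈ K)
    (hZg : ∀ z ∈ P ⊓ centralizer (P : Set G), g * z * g⁻¹ ∈ P) : g ∈ P := by
  by_contra hgP
  have hNP := hN P hP1 le_rfl le_normalizer hA
  have hS : ∀ S : Set G, S ⊆ P → (∀ n ∈ normalizer (P : Set G), ∀ x ∈ S, n * x * n⁻¹ ∈ S) →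
      ∀ x ∈ S, x ≠ 1 → K ⊓ centralizer S ≤ P := by
    intro S hSP hS x hx hx1
    have h1 : normalizer (P : Set G) ≤ normalizer (closure S : Set G) := fun n hn =>
      mem_normalizer_fintype (conj_mem_closure fun y hy => subset_closure (hS n hn y hy))
    refine le_trans (inf_le_inf_left _ ?_) (hN (closure S) (fun h => hx1 (mem_bot.mp
      (h ▸ subset_closure hx))) ((closure_le _).mpr hSP) (le_normalizer.trans h1) (hA.trans h1))
    rw [← centralizer_closure]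
    exact centralizer_le_normalizer _
  have hZn : ∀ n ∈ normalizer (P : Set G), ∀ x ∈ P ⊓ centralizer (P : Set G),
      n * x * n⁻¹ ∈ P ⊓ centralizer (P : Set G) := fun n hn x hx =>
    ⟨PGrp.conj_mem_of_mem_normalizer hn hx.1, PGrp.conj_mem_of_mem_normalizer
      (Core.normalizer_le_normalizer_centralizer _ hn) hx.2⟩
  obtain ⟨z, hzP, hz, hzo⟩ := exists_central_orderOf_eq hP hP1
  have hz1 := ne_one_of_orderOf_prime Nat.prime_two hzo
  have h1 := hS {z | z ∈ P ⊓ centralizer (P : Set G) ∧ z * z = 1} (fun x hx => hx.1.1)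
    (fun n hn x hx => ⟨hZn n hn x hx.1, by rw [conj_mul, hx.2]; simp⟩) z
    ⟨⟨hzP, hz⟩, by rw [← sq, ← hzo, pow_orderOf_eq_one]⟩ hz1
  have hCZ : K ⊓ centralizer ((P ⊓ centralizer (P : Set G) : Subgroup G) : Set G) ≤ P :=
    le_trans (inf_le_inf_left _ (centralizer_le fun x hx => hx.1)) h1
  have hcZ : ∀ x ∈ P, ∀ y ∈ P, ⁅x, y⁆ ∈ P ⊓ centralizer (P : Set G) := fun x hx y hy =>
    ⟨P.mul_mem (P.mul_mem (P.mul_mem hx hy) (P.inv_mem hx)) (P.inv_mem hy), hc x hx y hy⟩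
  set D := P ⊓ MulAut.conj g • P with hD
  have hZD : P ⊓ centralizer (P : Set G) ≤ D := fun x hx => ⟨hx.1, Core.mem_conj_smul_iff.mpr
    (hCZ ⟨K.mul_mem (K.mul_mem (K.inv_mem hg) (hPK hx.1)) hg, fun y hy => by
      calc y * (g⁻¹ * x * g) = g⁻¹ * (g * y * g⁻¹ * x) * g := by group
        _ = _ := by rw [hx.2 _ (hZg y hy)]; group⟩)⟩
  have hPD : P ≤ K ⊓ normalizer (D : Set G) := fun s hs => ⟨hPK hs, mem_normalizer_fintype fun x hx => by
    rw [PGrp.conj_eq_commutator_mul]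
    exact mul_mem (hZD (hcZ s hs x hx.1)) hx⟩
  have hlt : P < K ⊓ normalizer (D : Set G) := by
    refine lt_of_le_of_ne hPD fun h => hgP (hNP ⟨hg, mem_normalizer_fintype fun s hs => h.ge
      ⟨K.mul_mem (K.mul_mem hg (hPK hs)) (K.inv_mem hg), mem_normalizer_fintype fun x hx => ?_⟩⟩)
    rw [PGrp.conj_eq_commutator_mul]
    refine mul_mem ?_ hx
    have h2 := hcZ s hs _ (Core.mem_conj_smul_iff.mp hx.2)
    have e : ⁅g * s * g⁻¹, x⁆ = g * ⁅s, g⁻¹ * x * g⁆ * g⁻¹ := by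
      simp only [commutatorElement_def]; group
    rw [e]
    exact ⟨hZg _ h2, Core.mem_conj_smul_iff.mpr (by simpa [mul_assoc] using h2.1)⟩
  obtain ⟨R, ⟨hPR, hRD⟩, hmin⟩ := exists_minimal_le_of_wellFoundedLT
    (fun R => P < R) _ hlt |>.imp fun R h => And.intro (And.intro h.2.1 h.1) h.2.2
  have hRK : R ≤ K := hRD.trans inf_le_left
  obtain ⟨Q, U, hZU, hUQ, hQP, hQ, hidx, hU2, hRQ, hne⟩ := exists_block hc hPR
    (fun H h2 h3 => h2.eq_or_lt.imp Eq.symm fun h => le_antisymm h3 (hmin h h3))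
    (le_trans (inf_le_inf_right _ hRK) hNP)
    (fun r hr x hx => (PGrp.conj_mem_of_mem_normalizer (hRD hr).2 (hZD hx)).1)
    (le_trans (inf_le_inf_right _ hRK) h1) (fun h x hx => by
      by_contra hx1
      refine not_le_of_gt hPR (le_trans (le_inf hRK h) (hS _ ?_ ?_ _ ⟨x, hx, rfl⟩ hx1))
      · rintro _ ⟨y, hy, rfl⟩
        exact P.mul_mem hy.1 hy.1
      · rintro n hn _ ⟨y, hy, rfl⟩
        exact ⟨_, hZn n hn y hy, conj_mul⟩)
  have hUP := hUQ.trans hQP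
  have hAU : ∀ a ∈ A, ∀ u ∈ U, a * u * a⁻¹ ∈ Q := by
    intro a ha u hu
    by_contra hv
    have hvP := PGrp.conj_mem_of_mem_normalizer (hA ha) (hUP hu)
    have h3 : ∀ x ∈ U, a⁻¹ * x * a ∈ Q → x ∈ centralizer (P : Set G) := by
      intro x hx h s hs
      have h4 : a * u * a⁻¹ * x = x * (a * u * a⁻¹) := by
        calc a * u * a⁻¹ * x = a * (u * (a⁻¹ * x * a)) * a⁻¹ := by group
          _ = _ := by rw [(hQ _ (hQP h)).mp h u hu]; group
      by_cases hsQ : s ∈ Q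
      · exact ((hQ s hs).mp hsQ x hx).symm
      · have h5 := (hQ _ (mul_mem hs hvP)).mp (hidx s hs _ hvP hsQ hv) x hx
        rw [mul_assoc s, h4, ← mul_assoc, ← mul_assoc s] at h5
        exact (mul_right_cancel h5).symm
    obtain ⟨y, hy, hyv⟩ : ∃ y ∈ U, a⁻¹ * y * a ∉ Q := by
      by_contra h
      push Not at h
      exact hv ((hQ _ hvP).mpr fun x hx => (h3 x hx (h x hx) _ hvP).symm)
    have hyP := hUP hy
    have h4 : ∀ x ∈ U, x ∈ centralizer (P : Set G) ∨ x * y ∈ centralizer (P : Set G) := by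
      intro x hx
      by_cases h : a⁻¹ * x * a ∈ Q
      · exact Or.inl (h3 x hx h)
      · refine Or.inr (h3 _ (mul_mem hx hy) ?_)
        convert hidx _ (PGrp.conj_mem_of_mem_normalizer' (hA ha) (hUP hx)) _
          (PGrp.conj_mem_of_mem_normalizer' (hA ha) hyP) h hyv using 1
        group
    have h5 : ∀ s ∈ P, ∀ x ∈ U, ⁅s, x⁆ = 1 ∨ ⁅s, x⁆ = ⁅s, y⁆ := by
      intro s hs x hx
      refine (h4 x hx).imp (fun h => commutatorElement_eq_one_iff_mul_comm.mpr (h s hs)) fun h => ?_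
      have h6 := commutatorElement_eq_one_iff_mul_comm.mpr (h s hs).symm
      rw [comm_mul_left hc (hUP hx) hyP hs, mul_eq_one_iff_inv_eq, commutatorElement_inv] at h6
      rw [h6, ← commutatorElement_inv s y]
      exact inv_eq_of_mul_eq_one_right (hU2 _ (hZU (hcZ s hs y hyP)))
    have h6 : ∀ s ∈ P, ⁅s, y⁆ = 1 → s ∈ Q := fun s hs h => (hQ s hs).mpr fun x hx =>
      (commutatorElement_eq_one_iff_mul_comm.mp ((h5 s hs x hx).elim id fun e => e.trans h)).symm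
    have h7 : ∀ s ∈ P, ⁅s, y⁆ = 1 ∨ ⁅s, y⁆ = ⁅a * u * a⁻¹, y⁆ := by
      intro s hs
      by_cases hsQ : s ∈ Q
      · exact Or.inl (commutatorElement_eq_one_iff_mul_comm.mpr ((hQ s hs).mp hsQ y hy).symm)
      · have h8 := commutatorElement_eq_one_iff_mul_comm.mpr
          ((hQ _ (mul_mem hs hvP)).mp (hidx s hs _ hvP hsQ hv) y hy).symm
        rw [comm_mul_left hc hs hvP hyP, mul_eq_one_iff_eq_inv] at h8
        exact Or.inr (h8.trans (inv_eq_of_mul_eq_one_right (hU2 _ (hZU (hcZ _ hvP y hyP)))))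
    have hB : Blk P y ⁅a * u * a⁻¹, y⁆ := ⟨hyP, hU2 y hy, h7, fun x hx w hw h8 h9 =>
      hne _ (fun s hs x hx => by
        rcases h5 s hs x hx with e | e
        · exact e ▸ one_mem _
        · rcases h7 s hs with e' | e' <;> rw [e, e']
          exacts [one_mem _, mem_zpowers _]) x (h6 x hx h8) w (h6 w hw h9)⟩
    have h8 := hB.comm_of_odd hc (fun z hz => hU2 z (hZU hz)) (inv_mem (hA ha))
      (by rw [orderOf_inv]; exact hodd a ha)
    rw [inv_inv] at h8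
    exact hyv (h6 _ (PGrp.conj_mem_of_mem_normalizer' (hA ha) hyP) h8)
  let W := closure {w | ∃ a ∈ A, ∃ u ∈ U, a * u * a⁻¹ = w}
  have hWQ : W ≤ Q := (closure_le _).mpr (by rintro _ ⟨a, ha, u, hu, rfl⟩; exact hAU a ha u hu)
  have hUW : U ≤ W := fun u hu => subset_closure ⟨1, one_mem _, u, hu, by simp⟩
  have hRW : R ≤ normalizer (W : Set G) := fun r hr => mem_normalizer_fintype fun w hw => by
    rw [PGrp.conj_eq_commutator_mul]
    exact mul_mem (hUW (hRQ r hr w (hWQ hw))) hw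
  refine not_le_of_gt hPR (le_trans (le_inf hRK hRW) (hN W (fun h => hz1 (mem_bot.mp
    (h ▸ hUW (hZU ⟨hzP, hz⟩)))) (hWQ.trans hQP) (hPR.le.trans hRW) fun b hb =>
      mem_normalizer_fintype (conj_mem_closure ?_)))
  rintro _ ⟨a, ha, u, hu, rfl⟩
  exact subset_closure ⟨b * a, mul_mem hb ha, u, hu, by group⟩

end Cfsg.Agent.FGS
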