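import Mathlib
import Cfsg.Agent.Comp2.GenFitting

/-! A group generated by centreless components is their direct product. -/

set_option autoImplicit false

namespace Cfsg.Agent.FGS

open Subgroup

theorem equiv_pi_components {G : Type*} [Group G] [Finite G] (h : layer G = ⊤)
    (hZ : ∀ K : Subgroup G, IsComponent K → K ⊓ centralizer (K : Set G) = ⊥) :
    ∃ (k : ℕ) (K : Fin k → Subgroup G), (∀ i, IsComponent (K i)) ∧ Nonempty (G ≃* ∀ i, K i) := by
  classical
  let e := Finite.equivFin {K : Subgroup G // IsComponent K}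
  let K := fun i => (e.symm i).1
  have hK : ∀ i, IsComponent (K i) := fun i => (e.symm i).2
  have hc : ∀ i j, i ≠ j → K j ≤ centralizer (K i : Set G) := fun i j hij =>
    commutator_eq_bot_iff_le_centralizer.1 (Comp2.component_commutator_eq_bot_of_ne (hK j) (hK i)
      fun k => hij (e.symm.injective (Subtype.ext k.symm)))
  have hcomm : Pairwise fun i j => ∀ x y : G, x ∈ K i → y ∈ K j → Commute x y :=
    fun i j hij x y hx hy => hc i j hij hy x hx
  refine ⟨_, K, hK, ⟨(MulEquiv.ofBijective (noncommPiCoprod hcomm) ⟨?_, ?_⟩).symm⟩⟩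
  · refine injective_noncommPiCoprod_of_iSupIndep fun i => disjoint_iff.2 (eq_bot_iff.2 ?_)
    rw [← hZ _ (hK i)]
    exact inf_le_inf_left _ (iSup₂_le fun j hj => hc i j (Ne.symm hj))
  · rw [← MonoidHom.range_eq_top, noncommPiCoprod_range, eq_top_iff, ← h, Comp2.layer_le_iff]
    intro L hL
    exact le_iSup_of_le (e ⟨L, hL⟩) (by simp [K])

end Cfsg.Agent.FGS
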