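import Mathlib
import Cfsg.Agent.S4F.Abs
import Cfsg.Agent.PLocal.PP1
import Cfsg.Agent.Classical.Borel2
import Cfsg.Agent.FGS.Basic2

/-! Groups without real elements of order three. -/

set_option autoImplicit false

namespace Cfsg.Agent.FGS

open Subgroup Cfsg.Agent.LocalEven Cfsg.Agent.S4F

open scoped MatrixGroups

/-- No element of order three is real. -/
def NR (G : Type*) [Group G] : Prop := ∀ x : G, orderOf x = 3 → ¬ IsConj x x⁻¹

variable {G : Type*} [Group G]

theorem NR.of_inj {X : Type*} [Group X] (h : NR G) (f : X →* G) (hf : Function.Injective f) :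
    NR X := fun x hx c => h (f x) (by rwa [orderOf_injective f hf]) (map_inv f x ▸ f.map_isConj c)

theorem NR.pi {ι : Type*} {X : ι → Type*} [∀ i, Group (X i)] (h : ∀ i, NR (X i)) :
    NR (∀ i, X i) := fun x hx c => by
  haveI := Fact.mk Nat.prime_three
  obtain ⟨i, hi⟩ := Function.ne_iff.1 (ne_one_of_orderOf_eq hx)
  exact h i (x i) (orderOf_eq_prime (congrFun (hx ▸ pow_orderOf_eq_one x) i) hi)
    ((Pi.evalMonoidHom X i).map_isConj c)

theorem NR.eq_one (h : NR G) {y g : G} {k : ℕ} (hy : y ^ 3 ^ k = 1) (hg : g * y * g⁻¹ = y⁻¹) :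
    y = 1 := by
  haveI := Fact.mk Nat.prime_three
  induction k generalizing y with
  | zero => simpa using hy
  | succ k ih =>
    have h3 : y ^ 3 = 1 := ih (by rw [← pow_mul, ← pow_succ', hy]) (by rw [← conj_pow, hg, inv_pow])
    by_contra h1
    exact h y (orderOf_eq_prime h3 h1) (isConj_iff.2 ⟨g, hg⟩)

theorem NR.cent (h : NR G) {P : Subgroup G} (hP : IsPGroup 3 P) {k : ℕ} {g : G}
    (hg : g ^ 2 ^ k = 1) (hn : g ∈ normalizer (P : Set G)) : g ∈ centralizer (P : Set G) := by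
  induction k generalizing g with
  | zero => rw [show g = 1 by simpa using hg]; exact one_mem _
  | succ k ih =>
    have h2 := ih (g := g ^ 2) (by rw [← pow_mul, ← pow_succ', hg]) (pow_mem hn 2)
    intro x hx
    obtain ⟨j, hj⟩ := hP ⟨x⁻¹ * (g * x * g⁻¹), mul_mem (inv_mem hx) ((mem_normalizer_iff.1 hn x).1 hx)⟩
    have := h.eq_one (y := x⁻¹ * (g * x * g⁻¹)) (g := g) (congrArg Subtype.val hj) (by
      calc g * (x⁻¹ * (g * x * g⁻¹)) * g⁻¹ = g * x⁻¹ * g⁻¹ * (g ^ 2 * x) * (g ^ 2)⁻¹ := by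
            rw [sq]; group
        _ = _ := by rw [← h2 x hx]; group)
    calc x * g = x * (x⁻¹ * (g * x * g⁻¹)) * g := by rw [this, mul_one]
      _ = _ := by group

theorem exists_two_part [Finite G] (g : G) : ∃ m k : ℕ, Odd m ∧ (g ^ m) ^ 2 ^ k = 1 := by
  obtain ⟨k, m, hm, e⟩ := Nat.exists_eq_two_pow_mul_odd (orderOf_pos g).ne'
  exact ⟨m, k, hm, by rw [← pow_mul, mul_comm, ← e, pow_orderOf_eq_one]⟩

theorem NR.f3 [Finite G] (h : NR G) : F3 G := by
  haveI := Fact.mk Nat.prime_three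
  rintro ⟨K, f, hf⟩
  have hK := h.of_inj K.subtype K.subtype_injective
  let A := (alternatingGroup (Fin 3)).comap f
  obtain ⟨P, hP⟩ := exists_isSylowIn 3 A
  have hA : (IsSylowIn 3 (P.map f) (alternatingGroup (Fin 3))) :=
    map_comap_eq_self_of_surjective hf (alternatingGroup (Fin 3)) ▸ hP.map f
  have hA' := hA.eq_of_isPGroup (IsPGroup.of_card (n := 1) (by
    rw [nat_card_alternatingGroup]; simp; rfl))
  obtain ⟨s, hs⟩ := hf (Equiv.swap 0 1)
  obtain ⟨a, ha, n, hn, rfl⟩ := hP.frattini (g := s) (by rw [normalizer_eq_top]; trivial)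
  obtain ⟨m, k, hm, e⟩ := exists_two_part n
  have hc := hK.cent hP.pgrp e (pow_mem hn m)
  have s1 : Equiv.Perm.sign (f (n ^ m)) = -1 := by
    have := congrArg Equiv.Perm.sign hs
    rw [map_mul, map_mul, Equiv.Perm.mem_alternatingGroup.1 ha, one_mul,
      Equiv.Perm.sign_swap (by decide)] at this
    rw [map_pow, map_pow, this, hm.neg_one_pow]
  obtain ⟨x, hx, ex⟩ : finRotate 3 ∈ P.map f := by
    rw [hA', Equiv.Perm.mem_alternatingGroup]; decide
  have := congrArg f (hc x hx)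
  rw [map_mul, map_mul, ex] at this
  revert this s1
  generalize f (n ^ m) = y
  revert y
  decide

theorem nr_of_f3 [Finite G] (h : F3 G) : NR G := fun x hx c => by
  haveI := Fact.mk Nat.prime_three
  obtain ⟨g, hg⟩ := isConj_iff.1 c
  have h2 : g * g * x = x * (g * g) := by
    calc _ = g * (g * x * g⁻¹) * g⁻¹ * (g * g) := by group
      _ = g * x⁻¹ * g⁻¹ * (g * g) := by rw [hg]
      _ = (g * x * g⁻¹)⁻¹ * (g * g) := by group
      _ = _ := by rw [hg, inv_inv]
  let C := centralizer ({g * g} : Set G)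
  have xC : x ∈ C := mem_centralizer_singleton_iff.2 h2.symm
  have gC : g ∈ C := mem_centralizer_singleton_iff.2 (by group)
  let Z := zpowers (⟨g, gC⟩ * ⟨g, gC⟩ : C)
  have hZ : Z ≤ center C := zpowers_le.2 (mem_center_iff.2 fun y =>
    Subtype.ext (mem_centralizer_singleton_iff.1 y.2))
  haveI : Z.Normal := ⟨fun n hn y => by rwa [mem_center_iff.1 (hZ hn) y, mul_inv_cancel_right]⟩
  refine h ((PLocal.isSectionOf_subgroup C).trans ((PLocal.isSectionOf_quotient Z).trans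
    (PLocal.sec_s3 (x := ((⟨x, xC⟩ : C) : C ⧸ Z)) (z := ((⟨g, gC⟩ : C) : C ⧸ Z))
      (orderOf_eq_prime ?_ fun e => ?_) ?_ ?_)))
  · rw [← QuotientGroup.mk_pow, show (⟨x, xC⟩ : C) ^ 3 = 1 from
      Subtype.ext (hx ▸ pow_orderOf_eq_one x)]; rfl
  · have e1 : g * x = x * g := congrArg Subtype.val
      (mem_center_iff.1 (hZ ((QuotientGroup.eq_one_iff _).1 e)) ⟨g, gC⟩)
    rw [e1, mul_inv_cancel_right] at hg
    have := orderOf_dvd_of_pow_eq_one (x := x) (n := 2) (by rw [sq]; exact mul_eq_one_iff_eq_inv.2 hg)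
    rw [hx] at this
    omega
  · rw [← QuotientGroup.mk_mul, QuotientGroup.eq_one_iff]; exact mem_zpowers _
  · rw [← QuotientGroup.mk_inv, ← QuotientGroup.mk_inv, ← QuotientGroup.mk_mul,
      ← QuotientGroup.mk_mul]
    exact congrArg _ (Subtype.ext hg)

theorem nr_psl {F : Type*} [Field F] [Finite F] {n : ℕ} (hF : Nat.card F = 3 ^ (2 * n + 1)) :
    NR PSL(2, F) := fun x hx c => by
  haveI := Fact.mk Nat.prime_three
  haveI := Fintype.ofFinite F
  haveI : CharP F 3 := charP_of_card_eq_prime_pow (Nat.card_eq_fintype_card.symm.trans hF)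
  obtain ⟨g, hg⟩ := isConj_iff.1 c
  obtain ⟨P, hP⟩ := (IsPGroup.of_card (G := zpowers x) (n := 1) (by
    rw [Nat.card_zpowers, hx, pow_one])).exists_le_sylow
  have x1 := ne_one_of_orderOf_eq hx
  have hr := Classical.Borel2.isRootSylow_PSL (F := F) (p := 3)
  have hn : g • P = P := by_contra fun e => x1 (inv_eq_one.1 ((eq_bot_iff_forall _).1
    (hr.inf_eq_bot e) _ ⟨hg ▸ smul_mem_pointwise_smul x (MulAut.conj g) _ (hP (mem_zpowers x)),
      hP (inv_mem (mem_zpowers x))⟩))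
  obtain ⟨d, -, hd⟩ := hr.exists_of P
  rw [Sylow.smul_eq_iff_mem_normalizer] at hn
  have hn' : g ∈ MulAction.stabilizer PSL(2, F) _ := hd.normalizer_eq ▸ hn
  have h4 : Nat.card F % 4 = 3 := by
    rw [hF, pow_succ, pow_mul, Nat.mul_mod, Nat.pow_mod]; simp
  have hc := Classical.Borel2.card_stabilizer_PSL (F := F) (d • Classical.P1.inf)
  have ho : Odd (orderOf g) := by
    refine Odd.of_dvd_nat (Nat.not_even_iff_odd.1 ?_) (orderOf_dvd_natCard _ hn')
    rintro ⟨r, hr⟩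
    obtain ⟨s, hs⟩ : ∃ s, Nat.card F = 4 * s + 3 := ⟨Nat.card F / 4, by omega⟩
    rw [hr, hs, Nat.gcd_eq_left (by omega), show 4 * s + 3 - 1 = 4 * s + 2 from rfl] at hc
    ring_nf at hc
    omega
  have h2 : Commute (g ^ 2) x := by
    change _ = _
    calc _ = g * (g * x * g⁻¹) * g⁻¹ * g ^ 2 := by rw [sq]; group
      _ = g * x⁻¹ * g⁻¹ * g ^ 2 := by rw [hg]
      _ = (g * x * g⁻¹)⁻¹ * g ^ 2 := by group
      _ = _ := by rw [hg, inv_inv]
  obtain ⟨k, hk⟩ := exists_pow_eq_self_of_coprime (x := g) (Nat.coprime_two_left.2 ho)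
  have h3 := (hk ▸ h2.pow_left k).eq
  rw [h3, mul_inv_cancel_right] at hg
  have := orderOf_dvd_of_pow_eq_one (x := x) (n := 2) (by rw [sq]; exact mul_eq_one_iff_eq_inv.2 hg)
  rw [hx] at this
  omega

end Cfsg.Agent.FGS
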