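import Mathlib
import Cfsg.Agent.FGS.NR3
import Cfsg.Agent.FGS.S3In
import Cfsg.Agent.FGS.PSL2Real
import Cfsg.Agent.GsD.JRS3
import Cfsg.Agent.S4F.Main
import Cfsg.Agent.H2.SchurSL2
import Cfsg.Agent.Push.PC
import Cfsg.Agent.GW.Quat
import Cfsg.Agent.Classical.Dickson

/-! Simple groups in which the symmetric group of degree three is not involved. -/

set_option autoImplicit false

namespace Cfsg.Agent.FGS

open Subgroup Cfsg.Agent.LocalEven Cfsg.Agent.S4F

open scoped MatrixGroups Pointwise commutatorElement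

/-- `G ≃ L₂(3^(2n+1))`, `n ≥ 1`. -/
def L3 (G : Type*) [Group G] : Prop := ∃ (F : Type) (_ : Field F) (_ : Fintype F) (n : ℕ),
  1 ≤ n ∧ Fintype.card F = 3 ^ (2 * n + 1) ∧ Nonempty (G ≃* PSL(2, F))

variable {G : Type*} [Group G]

theorem L3.of_equiv {X : Type*} [Group X] (h : L3 G) (e : X ≃* G) : L3 X := by
  obtain ⟨F, _, _, n, hn, hF, ⟨e'⟩⟩ := h
  exact ⟨F, _, _, n, hn, hF, ⟨e.trans e'⟩⟩

theorem s3s [Finite G] [IsSimpleGroup G] (hn : ¬ IsMulCommutative G) (h : F3 G) :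
    Lie.IsoSuzuki G ∨ L3 G := by
  haveI := Fact.mk Nat.prime_three
  rcases GsC.gold_cases hn (S4F.gold hn fun e => h.f4 (Transfer.involves_iff_isSectionOf.1 e))
    with k | k | k | k | k
  · exact absurd (hasS3_l2e k) (GsD.no_s3 h)
  · exact .inl k
  · exact absurd (hasS3_u3 k) (GsD.no_s3 h)
  · obtain ⟨F, _, _, h8, h5, ⟨e⟩⟩ := k
    obtain ⟨p, _, ⟨n, n0⟩, hp, hq⟩ := FiniteField.card' F
    by_cases h3 : p = 3
    · subst h3
      obtain ⟨m, rfl | rfl⟩ := Nat.even_or_odd' n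
      · rw [hq, PNat.mk_coe, pow_mul, Nat.pow_mod] at h8
        simp at h8
      · refine .inr ⟨F, _, _, m, Nat.pos_of_ne_zero ?_, hq, ⟨e⟩⟩
        rintro rfl
        rw [hq] at h5
        simp at h5
    · have hc : Nat.Coprime 3 (Nat.card F) := by
        rw [Nat.card_eq_fintype_card, hq]
        exact Nat.Coprime.pow_right _ ((Nat.coprime_primes Nat.prime_three hp).2 (Ne.symm h3))
      obtain ⟨x, hx⟩ := exists_prime_orderOf_dvd_card' (G := G) 3 (by
        rw [Nat.card_congr e.toEquiv, Classical.PSL2Basic.card_PSL_of_card rfl]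
        refine Nat.dvd_div_of_mul_dvd (Nat.Coprime.mul_dvd_of_dvd_of_dvd
          (Nat.Coprime.coprime_dvd_left (Nat.gcd_dvd_left _ _) (by norm_num))
          (Dvd.dvd.mul_left ((Nat.gcd_dvd_right _ _).trans ?_) _) (Dvd.dvd.mul_left ?_ _))
        · simpa using Nat.sub_dvd_pow_sub_pow (Nat.card F) 1 2
        · exact (Nat.modEq_iff_dvd' (Nat.one_le_pow _ _ Nat.card_pos)).1
            (Nat.ModEq.pow_totient hc.symm).symm)
      obtain ⟨t, -, ht⟩ := real_of_psl2 e x (hx ▸ hc)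
      exact absurd (isConj_iff.2 ⟨t, ht⟩) (nr_of_f3 h x hx)
  · exact absurd (Transfer.involves_iff_isSectionOf.1 (GsD.jr_s3 k)) h

theorem L3.nr (h : L3 G) : NR G := by
  obtain ⟨F, _, _, n, -, hF, ⟨e⟩⟩ := h
  exact (nr_psl (Nat.card_eq_fintype_card.trans hF)).of_inj e.toMonoidHom e.injective

theorem L3.card_sylow (h : L3 G) : ∃ n, 1 ≤ n ∧ Nat.card (Sylow 3 G) = 3 ^ (2 * n + 1) + 1 := by
  haveI := Fact.mk Nat.prime_three
  obtain ⟨F, _, _, n, hn, hF, ⟨e⟩⟩ := h
  haveI : CharP F 3 := charP_of_card_eq_prime_pow hF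
  haveI := Classical.Borel2.isPretransitive_PSL (F := F)
  refine ⟨n, hn, ?_⟩
  rw [Classical.Dickson.card_sylow_congr e,
    (Classical.Borel2.isRootSylow_PSL (F := F) (p := 3)).card_sylow, ← hF,
    ← Nat.card_eq_fintype_card, ← Classical.Borel2.index_stabilizer_PSL Classical.P1.inf,
    MulAction.index_stabilizer_of_transitive]

theorem L3.sup [Finite G] (h : L3 G) {P Q : Subgroup G} (hP : IsSylowIn 3 P ⊤)
    (hQ : IsSylowIn 3 Q ⊤) (hne : P ≠ Q) : P ⊔ Q = ⊤ := by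
  haveI := Fact.mk Nat.prime_three
  obtain ⟨F, _, _, n, hn, hF, ⟨e⟩⟩ := h
  haveI : CharP F 3 := charP_of_card_eq_prime_pow hF
  have t := map_top_of_surjective e.toMonoidHom e.surjective
  refine map_injective (f := e.toMonoidHom) e.injective ?_
  rw [Subgroup.map_sup, t]
  exact Push.psl_sup (t ▸ hP.map _) (t ▸ hQ.map _) fun k => hne (map_injective e.injective k)

theorem L3.aut_eq_one [Finite G] (h : L3 G) {a : MulAut G} {k : ℕ} (ha : a ^ 2 ^ k = 1)
    {U : Sylow 3 G} (hU : a • U = U) (hA : ∀ Q : Sylow 3 G, a • Q = Q → ∀ x ∈ Q, a x = x) :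
    a = 1 := by
  haveI := Fact.mk Nat.prime_three
  obtain ⟨i, -, hi⟩ := (Nat.dvd_prime_pow Nat.prime_two).1 (orderOf_dvd_of_pow_eq_one ha)
  have hp : IsPGroup 2 (zpowers a) := IsPGroup.of_card ((Nat.card_zpowers a).trans hi)
  obtain ⟨n, -, hn⟩ := h.card_sylow
  obtain ⟨Q, hQ, hne⟩ := hp.exists_fixed_point_of_prime_dvd_card_of_fixed_point (Sylow 3 G)
    (by rw [hn]; exact (Odd.pow (by decide)).add_one.two_dvd) (a := U) (by
      rintro ⟨_, j, rfl⟩
      exact (MulAction.stabilizer (MulAut G) U).zpow_mem hU j)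
  have := h.sup (isSylowIn_top U) (isSylowIn_top Q) fun e => hne (Sylow.ext e)
  have hle : (U : Subgroup G) ⊔ Q ≤ a.toMonoidHom.eqLocus (MonoidHom.id G) :=
    sup_le (hA U hU) (hA Q (hQ ⟨a, mem_zpowers a⟩))
  ext x
  exact hle (this ▸ mem_top x)

theorem L3.center_eq_bot [Finite G] [Group.IsPerfect G] (h : L3 (G ⧸ center G))
    (hZ : Odd (Nat.card (center G))) : center G = ⊥ := by
  obtain ⟨F, _, _, n, hn, hF, ⟨e⟩⟩ := h
  have h27 : 27 ≤ Fintype.card F := hF ▸ Nat.pow_le_pow_right (n := 3) (i := 3) (by norm_num) (by omega)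
  haveI := GW.perfect_SL2 (F := F) (by omega)
  let ξ := e.toMonoidHom.comp (QuotientGroup.mk' (center G))
  have hk : ξ.ker = center G := by
    rw [← QuotientGroup.ker_mk' (center G)]
    exact MonoidHom.ker_comp_of_injective _ _ e.injective
  obtain ⟨η, hη⟩ := H2.Schur.exists_lift_of_trivial (H2.Schur.has_SL2 (F := F) (by omega) (by omega))
    (ξ := ξ) ⟨e.surjective.comp (QuotientGroup.mk'_surjective _), hk.le⟩
    (QuotientGroup.mk' (center SL(2, F)))
  have hs : η.range ⊔ center G = ⊤ := by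
    refine eq_top_iff.2 fun g _ => ?_
    obtain ⟨s, hs⟩ := QuotientGroup.mk'_surjective _ (ξ g)
    have : (η s)⁻¹ * g ∈ center G := by
      rw [← hk, MonoidHom.mem_ker, map_mul, map_inv, ← hs, ← hη]; simp
    simpa using mul_mem_sup (show η s ∈ η.range from ⟨s, rfl⟩) this
  have ht : η.range = ⊤ := by
    refine eq_top_iff.2 ?_
    rw [← Group.IsPerfect.commutator_eq_top (G := G), commutator_def, commutator_le]
    intro a _ b _
    obtain ⟨a, ha, z, hz, rfl⟩ := mem_sup_of_normal_right.1 (hs ▸ mem_top a)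
    obtain ⟨b, hb, w, hw, rfl⟩ := mem_sup_of_normal_right.1 (hs ▸ mem_top b)
    have : ⁅a * z, b * w⁆ = ⁅a, b⁆ := by
      simp only [commutatorElement_def, mul_inv_rev]
      calc _ = a * (z * (b * w) * z⁻¹) * a⁻¹ * w⁻¹ * b⁻¹ := by group
        _ = a * b * (w * a⁻¹ * w⁻¹) * b⁻¹ := by
          rw [← mem_center_iff.1 hz, mul_inv_cancel_right]; group
        _ = _ := by rw [← mem_center_iff.1 hw, mul_inv_cancel_right]
    rw [this]
    exact mul_mem (mul_mem (mul_mem ha hb) (inv_mem ha)) (inv_mem hb)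
  refine (eq_bot_iff_forall _).2 fun z hz => ?_
  obtain ⟨s, rfl⟩ : z ∈ η.range := ht ▸ mem_top z
  have hs : (s : PSL(2, F)) = 1 := by
    have : ξ (η s) = 1 := by rwa [← MonoidHom.mem_ker, hk]
    exact (DFunLike.congr_fun hη s).symm.trans this
  have h2 : η s ^ 2 = 1 := by
    rw [← map_pow]
    rcases Classical.SL2Basic.mk_eq_one_iff.1 hs with rfl | rfl <;> simp
  exact orderOf_eq_one_iff.1 (Nat.eq_one_of_dvd_coprimes (Nat.coprime_two_left.2 hZ)
    (orderOf_dvd_of_pow_eq_one h2) (orderOf_dvd_natCard _ hz))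

end Cfsg.Agent.FGS
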