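import Mathlib
import Cfsg.Agent.FGS.S3S
import Cfsg.Agent.FGS.SzFix
import Cfsg.Agent.RankOne.SzLie
import Cfsg.Agent.Classical.AutPSL2
import Cfsg.Agent.Transfer.Residual

/-! Simple groups with cyclic outer automorphism group: fixed points of operator groups. -/

set_option autoImplicit false

namespace Cfsg.Agent.FGS

open Subgroup Cfsg.Agent.LocalEven

open scoped MatrixGroups Pointwise commutatorElement

/-- The automorphism group is generated modulo inner automorphisms by one with a fixed point. -/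
def CO (G : Type*) [Group G] : Prop := ∃ (ψ : MulAut G) (z : G), z ≠ 1 ∧ ψ z = z ∧
  ∀ β : MulAut G, ∃ (g : G) (k : ℤ), β = MulAut.conj g * ψ ^ k

variable {G : Type*} [Group G]

theorem CO.of_equiv {X : Type*} [Group X] (h : CO G) (e : X ≃* G) : CO X := by
  obtain ⟨ψ, z, z1, hz, h⟩ := h
  refine ⟨MulAut.congr e.symm ψ, e.symm z, by simpa using z1, by simp [hz], fun β => ?_⟩
  obtain ⟨g, k, hk⟩ := h (MulAut.congr e β)
  refine ⟨e.symm g, k, (MulAut.congr e).injective ?_⟩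
  rw [hk, map_mul, map_zpow]
  congr 2 <;> ext <;> simp

theorem co_sz (h : Lie.IsoSuzuki G) : CO G := by
  obtain ⟨F, _, _, m, hm, hF, ⟨e⟩⟩ := h
  refine CO.of_equiv ?_ (e.trans (RankOne.Sz.lieEquiv hF hm))
  have Z := RankOne.Sz.model hF hm
  obtain ⟨σ, hσ⟩ := (Classical.AutPSL2.isCyclic_ringAut (F := F)).exists_generator
  refine ⟨szPhi Z σ, Z.S 0 1, Z.S_zero_one_ne, ?_, fun β => ?_⟩
  · change Z.lift Z σ.toRingHom (Z.S 0 1) = _
    rw [RankOne.Sz.Model.lift_S, map_zero, map_one]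
  · obtain ⟨g, f, rfl⟩ := Z.exists_aut_eq β
    obtain ⟨k, hk⟩ := hσ (RingEquiv.ofBijective f (Finite.injective_iff_bijective.1 f.injective))
    exact ⟨g, k, by rw [← map_zpow, show σ ^ k = _ from hk]; rfl⟩

open Classical.AutPSL Classical.AutPSL2 Matrix in
theorem co_l3 (h : L3 G) : CO G := by
  obtain ⟨F, _, _, n, hn, hF, ⟨e⟩⟩ := h
  refine CO.of_equiv ?_ e
  haveI := Fact.mk Nat.prime_three
  have hF' := Nat.card_eq_fintype_card.trans hF
  obtain ⟨σ, hσ⟩ := (isCyclic_ringAut (F := F)).exists_generator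
  have ho : σ ^ (2 * n + 1) = 1 := by rw [← card_ringAut hF', pow_card_eq_one']
  let d : GL (Fin 2) F := ⟨!![-1, 0; 0, 1], !![-1, 0; 0, 1], by simp [one_fin_two], by simp [one_fin_two]⟩
  have dd : dA d * dA d = 1 := by
    rw [← map_mul, show d * d = 1 from Units.ext d.val_inv, map_one]
  have c : Commute (dA d) (fA (Fin 2) σ) := by
    change _ = _
    rw [fA_mul_dA]
    congr 2
    ext i j
    fin_cases i <;> fin_cases j <;> simp [d]
  have p1 : (dA d * fA (Fin 2) σ) ^ (2 * n + 1) = dA d := by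
    rw [c.mul_pow, ← map_pow (fA (Fin 2)), ho, map_one, mul_one, pow_succ, pow_mul, sq, dd, one_pow,
      one_mul]
  have m1 : dA d ∈ zpowers (dA d * fA (Fin 2) σ) := by
    simpa only [p1] using pow_mem (mem_zpowers (dA d * fA (Fin 2) σ)) (2 * n + 1)
  have m2 : ∀ τ, fA (Fin 2) τ ∈ zpowers (dA d * fA (Fin 2) σ) := fun τ => by
    obtain ⟨k, rfl⟩ := hσ τ
    rw [map_zpow]
    exact zpow_mem (by simpa using mul_mem (inv_mem m1) (mem_zpowers _)) k
  have h2 : (-1 : F) ≠ 1 := fun e => by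
    haveI : CharP F 3 := charP_of_card_eq_prime_pow hF
    exact absurd ((CharP.cast_eq_zero_iff F 3 2).1 (by push_cast; linear_combination -e)) (by decide)
  refine ⟨dA d * fA (Fin 2) σ, (Classical.Borel2.wSL F : PSL(2, F)), fun e => ?_, ?_, fun β => ?_⟩
  · rcases Classical.SL2Basic.mk_eq_one_iff.1 e with e | e <;>
      simpa [Classical.Borel2.wSL] using congrArg (fun s : SL(2, F) => s.1 0 0) e
  · rw [MulAut.mul_apply, fA_mk, dA_mk]
    refine Classical.SL2Basic.mk_eq_mk_iff.2 (.inr (conjAut_eq_iff.2 ?_))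
    ext i j
    fin_cases i <;> fin_cases j <;> simp [d, fieldSL_coe, Classical.Borel2.wSL, mul_apply]
  · obtain ⟨g, τ, rfl⟩ : ∃ g τ, β = dA g * fA (Fin 2) τ := by
      obtain ⟨g, τ, h | h⟩ := exists_decomp (n := 2) le_rfl β
      · exact ⟨g, τ, h⟩
      · obtain ⟨w, hw⟩ := exists_gA_eq_dA (F := F)
        exact ⟨_, τ, by rw [h, hw, mul_assoc, fA_mul_dA, ← mul_assoc, ← map_mul]⟩
    have : dA g ∈ Inn PSL(2, F) ∨ dA (g * d) ∈ Inn PSL(2, F) := by
      classical
      have k : ∀ g : GL (Fin 2) F, IsSquare g.1.det → dA g ∈ Inn PSL(2, F) := fun g ⟨c, hc⟩ =>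
        dA_mem_inn_iff.2 ⟨Units.mk0 c (by rintro rfl; exact g.det_ne_zero (by simpa using hc)),
          Units.ext (by simpa [sq] using hc)⟩
      refine (em _).imp (k g) fun h => k _ ((quadraticChar_one_iff_isSquare (g * d).det_ne_zero).1 ?_)
      have : ¬ IsSquare (-1 : F) := by
        rw [FiniteField.isSquare_neg_one_iff, hF, pow_succ, pow_mul, Nat.mul_mod, Nat.pow_mod]; simp
      rw [Units.val_mul, det_mul, map_mul, quadraticChar_neg_one_iff_not_isSquare.2 h,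
        show d.1.det = -1 by simp [d], quadraticChar_neg_one_iff_not_isSquare.2 this]; rfl
    rcases this with ⟨x, hx⟩ | ⟨x, hx⟩
    · obtain ⟨k, hk⟩ := m2 τ
      exact ⟨x, k, by rw [hx, ← hk]⟩
    · obtain ⟨k, hk⟩ := mul_mem m1 (m2 τ)
      exact ⟨x, k, by
        rw [hx, show _ ^ k = _ from hk, map_mul, mul_assoc, ← mul_assoc (dA d), dd, one_mul]⟩

theorem CO.fix [Finite G] (h : CO G) {A : Subgroup (MulAut G)} (hA : A ⊓ Inn G = ⊥) :
    ∃ x : G, x ≠ 1 ∧ ∀ a ∈ A, a x = x := by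
  obtain ⟨ψ, z, z1, hz, h⟩ := h
  haveI : IsCyclic (Out G) := ⟨⟨ψ, fun x => by
    obtain ⟨β, rfl⟩ := QuotientGroup.mk_surjective x
    obtain ⟨g, k, rfl⟩ := h β
    exact ⟨k, by
      rw [QuotientGroup.mk_mul, (QuotientGroup.eq_one_iff (N := Inn G) _).2 ⟨g, rfl⟩, one_mul]; rfl⟩⟩⟩
  haveI : IsCyclic A := isCyclic_of_injective ((QuotientGroup.mk' (Inn G)).comp A.subtype)
    ((injective_iff_map_eq_one _).2 fun a ha => Subtype.ext ((eq_bot_iff_forall _).1 hA _
      ⟨a.2, (QuotientGroup.eq_one_iff _).1 ha⟩))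
  obtain ⟨α, hα⟩ := IsCyclic.exists_generator (α := A)
  suffices ∃ x : G, x ≠ 1 ∧ α.1 x = x by
    obtain ⟨x, x1, hx⟩ := this
    refine ⟨x, x1, fun a ha => ?_⟩
    obtain ⟨k, hk⟩ := hα ⟨a, ha⟩
    rw [show a = α.1 ^ k from (congrArg Subtype.val hk).symm]
    exact (MulAction.stabilizer (MulAut G) x).zpow_mem hx k
  by_contra! hf
  obtain ⟨g, k, e⟩ := h α
  obtain ⟨x, hx⟩ := MonoidHom.FixedPointFree.commutatorMap_surjective (φ := α.1)
    (fun x hx => by_contra fun h1 => hf x h1 hx) g⁻¹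
  rw [MonoidHom.commutatorMap_apply, div_eq_iff_eq_mul, eq_inv_mul_iff_mul_eq] at hx
  have hz' : (ψ ^ k) z = z := (MulAction.stabilizer (MulAut G) z).zpow_mem hz k
  refine hf (x⁻¹ * z * x) (by simpa [mul_assoc, inv_mul_eq_one] using z1) ?_
  rw [map_mul, map_mul, map_inv, ← hx, e, MulAut.mul_apply, hz', MulAut.conj_apply]
  group

theorem exists_central {A : Type*} [Group A] [Finite A] {B : Subgroup A} [hB : B.Normal] (h0 : B ≠ ⊥)
    (h : ∀ p, p.Prime → p ∣ Nat.card B → HasNormalPComplement p A) :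
    ∃ b ∈ B, b ≠ 1 ∧ b ∈ center A := by
  obtain ⟨M, ⟨hM, h1, hle⟩, hmin⟩ := wellFounded_lt.has_min
    {M : Subgroup A | M.Normal ∧ M ≠ ⊥ ∧ M ≤ B} ⟨B, hB, h0, le_rfl⟩
  obtain ⟨x, hx, hp⟩ := Core.exists_mem_prime_orderOf h1
  haveI := Fact.mk hp
  obtain ⟨L, _, hL, hq⟩ := Transfer.hasNormalPComplement_iff_exists_normal.1
    (h _ hp (orderOf_dvd_natCard _ (hle hx)))
  have hML : M ⊓ L = ⊥ := by_contra fun e => hmin _ ⟨inferInstance, e, inf_le_left.trans hle⟩
    (inf_lt_left.2 fun k => hL (orderOf_dvd_natCard _ (k hx)))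
  have := inf_centralizer_ne_bot (P := ⊤) (N := M.map (QuotientGroup.mk' L)) (hq.to_subgroup _)
    (hq.to_subgroup _) (by
      haveI := hM.map _ (QuotientGroup.mk'_surjective L)
      rw [normalizer_eq_top]) (by
      rw [Ne, Subgroup.map_eq_bot_iff, QuotientGroup.ker_mk', ← inf_eq_left, hML]; exact Ne.symm h1)
  obtain ⟨_, ⟨⟨m, hm, rfl⟩, hc⟩, m1⟩ := (bot_or_exists_ne_one _).resolve_left this
  refine ⟨m, hle hm, by rintro rfl; exact m1 (map_one _), mem_center_iff.2 fun a => ?_⟩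
  rw [← commutatorElement_eq_one_iff_mul_comm]
  refine (eq_bot_iff_forall _).1 hML _ ⟨?_, ?_⟩
  · exact M.mul_mem (hM.conj_mem m hm a) (M.inv_mem hm)
  · refine (QuotientGroup.eq_one_iff (N := L) _).1 ?_
    change QuotientGroup.mk' L _ = 1
    rw [map_commutatorElement, commutatorElement_eq_one_iff_mul_comm]
    exact hc _ (mem_top _)

theorem CO.fix' [Finite G] (h : CO G) (hZ : center G = ⊥) {A : Subgroup (MulAut G)}
    (hA : ∀ p, p.Prime → p ∣ Nat.card G → HasNormalPComplement p A) :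
    ∃ x : G, x ≠ 1 ∧ ∀ a ∈ A, a x = x := by
  by_cases h0 : (Inn G).subgroupOf A = ⊥
  · exact h.fix (by rw [inf_comm]; exact disjoint_iff.1 (subgroupOf_eq_bot.1 h0))
  obtain ⟨⟨_, hb⟩, ⟨g, rfl⟩, b1, hc⟩ := exists_central h0 fun p hp hd => hA p hp
    (hd.trans ((card_comap_dvd_of_injective _ _ A.subtype_injective).trans (card_range_dvd _)))
  refine ⟨g, by rintro rfl; exact b1 (Subtype.ext (map_one _)), fun a ha => ?_⟩
  have := congrArg Subtype.val (mem_center_iff.1 hc ⟨a, ha⟩)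
  rw [eq_comm, ← inv_mul_eq_one]
  refine (eq_bot_iff_forall _).1 hZ _ (mem_center_iff.2 fun y => ?_)
  obtain ⟨y, rfl⟩ := a.surjective y
  have := DFunLike.congr_fun this y
  simp only [coe_mul, MulAut.mul_apply, MulAut.conj_apply, map_mul, map_inv] at this
  calc _ = g⁻¹ * (g * a y * g⁻¹) * a g := by group
    _ = _ := by rw [← this]; group

end Cfsg.Agent.FGS
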