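import Mathlib
import Cfsg.Agent.FGS.Basic2
import Cfsg.Agent.FGS.Comm
import Cfsg.Agent.Core.Fitting
import Cfsg.Agent.Core.SylowOf

/-! A criterion for a normal subgroup to lie in the Fitting subgroup. -/

set_option autoImplicit false

namespace Cfsg.Agent.FGS

open Subgroup Cfsg Cfsg.Agent

variable {G : Type*} [Group G]

theorem eq_bot_of_isPGroup_of_ne [Finite G] {p q : ℕ} (hp : p.Prime) (hq : q.Prime) (hpq : p ≠ q)
    {P : Subgroup G} (h1 : IsPGroup p P) (h2 : IsPGroup q P) : P = ⊥ := by
  haveI := Fact.mk hp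
  haveI := Fact.mk hq
  have := IsPGroup.disjoint_of_ne p q hpq P P h1 h2
  exact disjoint_self.mp this

theorem le_fitting_of_cent [Finite G] (C : Subgroup G) [hCn : C.Normal] (hC : Group.IsSolvable C)
    (h : ∀ p q : ℕ, p.Prime → q.Prime → p ≠ q → ∀ x ∈ C, (∃ k : ℕ, orderOf x = q ^ k) →
      ∀ y ∈ pCore p G ⊓ C, x * y = y * x) : C ≤ fittingSubgroup G := by
  haveI := Core.fitting_normal (G := G)
  by_contra hne
  set F := fittingSubgroup G with hF
  let π := QuotientGroup.mk' F
  have hsurj : Function.Surjective π := QuotientGroup.mk'_surjective F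
  haveI : (C.map π).Normal := hCn.map π hsurj
  have hs : Group.IsSolvable (C.map π) :=
    Group.isSolvable_of_surjective (π.subgroupMap_surjective C)
  have hb : C.map π ≠ ⊥ := by
    intro hb
    rw [Subgroup.map_eq_bot_iff, QuotientGroup.ker_mk'] at hb
    exact hne hb
  obtain ⟨N, q, hNn, hN0, hNC, hq, hNq⟩ := Core.exists_normal_pGroup_le (C.map π) hs hb
  haveI := Fact.mk hq
  set K := N.comap π ⊓ C with hK
  haveI : K.Normal := inferInstance
  obtain ⟨Q, hQ⟩ := Core.exists_isSylowOf q K
  have hP : ∀ p : ℕ, p.Prime → p ≠ q → ∀ P : Subgroup G, IsPGroup p P → P ≤ K → P ≤ pCore p G := by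
    intro p hp hpq P hP hPK
    haveI := Fact.mk hp
    refine Core.le_pCore_of_le_fitting hP ?_
    have h1 : P.map π ≤ N := map_le_iff_le_comap.mpr (hPK.trans inf_le_left)
    have h2 := eq_bot_of_isPGroup_of_ne hp hq hpq (hP.map π) (hNq.to_le h1)
    rw [Subgroup.map_eq_bot_iff, QuotientGroup.ker_mk'] at h2
    exact h2
  have hKQ : K ≤ normalizer (Q : Set G) := by
    refine Core.le_of_forall_isSylowOf_le K _ fun p hp _ => ?_
    haveI := Fact.mk hp
    by_cases hpq : p = q
    · subst hpq
      exact ⟨Q, hQ, le_normalizer⟩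
    · obtain ⟨P, hPs⟩ := Core.exists_isSylowOf p K
      refine ⟨P, hPs, le_trans ?_ (centralizer_le_normalizer _)⟩
      intro y hy
      rw [mem_centralizer_iff]
      intro x hx
      exact h p q hp hq hpq x (hQ.le hx).2 (exists_orderOf_eq_of_mem hQ.isPGroup hx) y
        ⟨hP p hp hpq P hPs.isPGroup hPs.le hy, (hPs.le hy).2⟩
  have hQn : Q.Normal := by
    have := hQ.frattini_top
    rw [sup_eq_right.mpr hKQ] at this
    exact normalizer_eq_top_iff.mp this
  have hKF : K ≤ F := by
    refine Core.le_of_forall_isSylowOf_le K _ fun p hp _ => ?_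
    haveI := Fact.mk hp
    by_cases hpq : p = q
    · subst hpq
      exact ⟨Q, hQ, Core.le_fitting hQn hQ.isPGroup.isNilpotent⟩
    · obtain ⟨P, hPs⟩ := Core.exists_isSylowOf p K
      exact ⟨P, hPs, (hP p hp hpq P hPs.isPGroup hPs.le).trans (Core.pCore_le_fitting p)⟩
  apply hN0
  rw [eq_bot_iff]
  intro n hn
  obtain ⟨c, hc, rfl⟩ := hNC hn
  have : c ∈ F := hKF ⟨hn, hc⟩
  exact (QuotientGroup.eq_one_iff c).mpr this

/-- A nilpotent normal subgroup centralizes every chief factor. -/
theorem commutator_le_of_chief {U V F : Subgroup G} [hU : U.Normal] [hV : V.Normal] [F.Normal]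
    (hF : Group.IsNilpotent F) (hVU : V < U)
    (hc : ∀ W : Subgroup G, W.Normal → V ≤ W → W ≤ U → W = V ∨ W = U) : ⁅U, F⁆ ≤ V := by
  rcases hc (V ⊔ ⁅U, F⁆) inferInstance le_sup_left
    (sup_le hVU.le (commutator_le_left U F)) with h | h
  · exact le_sup_right.trans h.le
  exfalso
  obtain ⟨n, hn⟩ := (isNilpotent_iff_lowerCentralSeries F).mp hF
  have key : ∀ m : ℕ, U ≤ V ⊔ F.lowerCentralSeries m := by
    intro m
    induction m with
    | zero => exact h.ge.trans (sup_le_sup_left (commutator_le_right U F) V)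
    | succ m ih =>
      refine h.ge.trans (sup_le le_sup_left ?_)
      refine (commutator_mono ih le_rfl).trans ?_
      rw [Subgroup.lowerCentralSeries_succ]
      haveI : (F.lowerCentralSeries m).Normal := by
        clear ih
        induction m with
        | zero => assumption
        | succ m ih => rw [Subgroup.lowerCentralSeries_succ]; infer_instance
      haveI : (V ⊔ ⁅F.lowerCentralSeries m, F⁆).Normal := inferInstance
      exact commutator_sup_le ((commutator_le_left V F).trans le_sup_left) le_sup_right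
  have := key n
  rw [hn, sup_bot_eq] at this
  exact absurd this (not_le_of_gt hVU)

end Cfsg.Agent.FGS
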