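import Mathlib
import Cfsg.Prelude.Def_HallClasses
import Cfsg.Agent.LocalEven.SylowIn
import Cfsg.Agent.Core.Coprime
import Cfsg.Agent.FGS.SylowNum
import Cfsg.Agent.PGrp.Basic
import Cfsg.Agent.S0877

/-! π-homogeneous groups: supplements and control of fusion by a Hall subgroup. -/

set_option autoImplicit false

namespace Cfsg.Agent.FGS

open Subgroup Cfsg.Agent.LocalEven

section
variable {G : Type*} [Group G] [Finite G]

/-- `π`-homogeneity, in terms of subgroups of prime power order. -/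
def Homog (π : Set ℕ) (G : Type*) [Group G] : Prop :=
  ∀ Q : Subgroup G, IsPiSubgroup π Q → ∀ r : ℕ, r.Prime → r ∉ π → ∀ R : Subgroup G,
    IsPGroup r R → R ≤ normalizer (Q : Set G) → R ≤ centralizer (Q : Set G)

theorem le_of_not_dvd_relIndex {r : ℕ} (hr : r.Prime) {R C N : Subgroup G} (hR : IsPGroup r R)
    (hRN : R ≤ N) (hn : N ≤ normalizer (C : Set G)) (hd : ¬ r ∣ C.relIndex N) : R ≤ C := by
  haveI := Fact.mk hr
  obtain ⟨T, hT⟩ := exists_isSylowIn r (C ⊓ N)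
  have hT' : IsSylowIn r T N := hT.of_not_dvd_relIndex inf_le_right (by rwa [inf_relIndex_right])
  obtain ⟨h, hh, hle⟩ := hT'.exists_le_cj hR hRN
  refine hle.trans ?_
  exact cj_le_of_mem_normalizer (hn hh) (hT.le.trans inf_le_left)

theorem homog_of {π : Set ℕ} (h : ∀ H : Subgroup G, H ≠ ⊥ → (∀ p : ℕ, p.Prime → p ∣ Nat.card ↥H → p ∈ π) →
    ∀ p : ℕ, p.Prime → p ∣ (centralizer (H : Set G)).relIndex (normalizer (H : Set G)) → p ∈ π) :
    Homog π G := by
  intro Q hQ r hr hrπ R hR hRN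
  by_cases h0 : Q = ⊥
  · subst h0
    intro x _
    rw [mem_centralizer_iff]
    intro y hy
    have : y = 1 := by simpa using hy
    simp [this]
  · exact le_of_not_dvd_relIndex hr hR hRN (normalizer_le_normalizer_centralizer Q)
      (fun hd => hrπ (h Q h0 hQ r hr hd))

theorem IsPi.mono {π : Set ℕ} {H K : Subgroup G} (h : IsPiSubgroup π K) (hle : H ≤ K) :
    IsPiSubgroup π H := fun p hp hd => h p hp (hd.trans (card_dvd_of_le hle))

theorem IsPi.of_pgroup {π : Set ℕ} {p : ℕ} (hp : p.Prime) (hπ : p ∈ π) {Q : Subgroup G}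
    (hQ : IsPGroup p Q) : IsPiSubgroup π Q := by
  haveI := Fact.mk hp
  intro r hr hd
  obtain ⟨k, hk⟩ := hQ.exists_card_eq
  rw [hk] at hd
  rwa [(Nat.prime_dvd_prime_iff_eq hr hp).1 (hr.dvd_of_dvd_pow hd)]

theorem IsPi.sup {π : Set ℕ} {H K : Subgroup G} (hH : IsPiSubgroup π H) (hK : IsPiSubgroup π K)
    (hn : K ≤ normalizer (H : Set G)) : IsPiSubgroup π (H ⊔ K) := by
  intro p hp hd
  have h1 := PGrp.card_sup_mul_card_inf hn
  have : p ∣ Nat.card H * Nat.card K := h1 ▸ hd.mul_right _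
  rcases (Nat.Prime.dvd_mul hp).1 this with h | h
  exacts [hH p hp h, hK p hp h]

theorem IsPi.cj {π : Set ℕ} {H : Subgroup G} (hH : IsPiSubgroup π H) (g : G) :
    IsPiSubgroup π (cj g H) := fun p hp hd => hH p hp (by rwa [card_cj] at hd)

/-- A `π`-supplement of `p'`-index. -/
theorem exists_pi_supplement {π : Set ℕ} {p : ℕ} (hp : p.Prime) (hπ : p ∈ π) {N C : Subgroup G}
    (hCN : C ≤ N) (hn : N ≤ normalizer (C : Set G))
    (hC : ∀ r : ℕ, r.Prime → r ∉ π → ∀ R : Subgroup G, IsPGroup r R → R ≤ N → R ≤ C) :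
    ∃ L : Subgroup G, L ≤ N ∧ IsPiSubgroup π L ∧ C ⊔ L = N ∧ ¬ p ∣ L.relIndex N := by
  haveI := Fact.mk hp
  obtain ⟨L, ⟨hLN, hCL, hLp⟩, hmin⟩ := (wellFounded_lt (α := Subgroup G)).has_min
    {L | L ≤ N ∧ C ⊔ L = N ∧ ¬ p ∣ L.relIndex N}
    ⟨N, le_rfl, sup_eq_right.2 hCN, by rw [relIndex_self]; exact hp.one_lt.ne' ∘ Nat.dvd_one.1⟩
  refine ⟨L, hLN, ?_, hCL, hLp⟩
  set D := L ⊓ C with hD
  have hLD : L ≤ normalizer (D : Set G) := le_normalizer_inf le_normalizer (hLN.trans hn)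
  obtain ⟨T, hT⟩ := exists_isSylowIn p D
  have key : ∀ L₁ : Subgroup G, L₁ ≤ L → L ≤ D ⊔ L₁ → T ≤ L₁ → L₁ = L := by
    intro L₁ h1 h2 h3
    by_contra hne
    refine hmin L₁ ⟨h1.trans hLN, ?_, ?_⟩ (lt_of_le_of_ne h1 hne)
    · refine le_antisymm (sup_le hCN (h1.trans hLN)) ?_
      rw [← hCL]
      exact sup_le le_sup_left (h2.trans (sup_le_sup_right inf_le_right _))
    · rw [← relIndex_mul_relIndex L₁ L N h1 hLN]
      intro hd
      rcases (Nat.Prime.dvd_mul hp).1 hd with hd | hd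
      · have e : L = L₁ ⊔ D := le_antisymm (sup_comm D L₁ ▸ h2) (sup_le h1 inf_le_left)
        have e2 : L₁.relIndex (L₁ ⊔ D) = L₁.relIndex D := relIndex_sup_of_le (h1.trans hLD) le_rfl
        rw [← e] at e2
        rw [e2] at hd
        exact hT.not_dvd_of_le h3 hd
      · exact hLp hd
  have hTn : L ≤ normalizer (T : Set G) := by
    have := key (L ⊓ normalizer (T : Set G)) inf_le_left (hT.frattini_sup inf_le_left hLD).ge
      (le_inf (hT.le.trans inf_le_left) le_normalizer)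
    exact this ▸ inf_le_right
  intro r hr hd
  by_contra hrπ
  haveI := Fact.mk hr
  obtain ⟨R, hR⟩ := exists_isSylowIn r L
  have hRD : R ≤ D := le_inf hR.le (hC r hr hrπ R hR.pgrp (hR.le.trans hLN))
  have hR' : IsSylowIn r R D := hR.mono hRD inf_le_left
  have hRM : R ≤ L ⊓ normalizer (R : Set G) := le_inf hR.le le_normalizer
  have hR2 : IsSylowIn r R (L ⊓ normalizer (R : Set G)) := hR.mono hRM inf_le_left
  obtain ⟨K, hK, -, hKs, hKc⟩ := Core.exists_complement_in R (L ⊓ normalizer (R : Set G)) hRM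
    inf_le_right (by
      obtain ⟨k, hk⟩ := hR.pgrp.exists_card_eq
      rw [hk]
      exact Nat.Coprime.pow_left _ ((Nat.Prime.coprime_iff_not_dvd hr).2 hR2.not_dvd))
  have hKL : K ≤ L := hK.trans inf_le_left
  have e : T ⊔ K = L := by
    refine key _ (sup_le (hT.le.trans inf_le_left) hKL) ?_ le_sup_left
    rw [← hR'.frattini_sup inf_le_left hLD, ← hKs]
    exact sup_le le_sup_left (sup_le (hRD.trans le_sup_left) (le_sup_right.trans le_sup_right))
  have h1 := PGrp.card_sup_mul_card_inf (hKL.trans hTn)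
  rw [e] at h1
  have : r ∣ Nat.card T * Nat.card K := h1 ▸ hd.mul_right _
  rcases (Nat.Prime.dvd_mul hr).1 this with h | h
  · exact hrπ (IsPi.of_pgroup hp hπ hT.pgrp r hr h)
  · exact hR2.not_dvd (hKc ▸ h)

/-- Every `π`-subgroup of `X` is conjugate in `X` into `H`. -/
def DPi (π : Set ℕ) (X H : Subgroup G) : Prop :=
  H ≤ X ∧ ∀ L : Subgroup G, L ≤ X → IsPiSubgroup π L → ∃ g ∈ X, cj g L ≤ H

theorem DPi.trans {π : Set ℕ} (hh : Homog π G) {X H : Subgroup G} (hD : DPi π X H) {p : ℕ}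
    (hp : p.Prime) (hπ : p ∈ π) (Q : Subgroup G) : IsPGroup p Q → Q ≤ X →
    ∀ g ∈ X, ∀ g' ∈ X, cj g Q ≤ H → cj g' Q ≤ H →
      ∃ h ∈ H, ∃ c ∈ X ⊓ centralizer (Q : Set G), g' = h * g * c := by
  haveI := Fact.mk hp
  induction Q using (wellFounded_gt (α := Subgroup G)).induction with
  | _ Q ih =>
  intro hQ hQX
  set N := X ⊓ normalizer (Q : Set G) with hN
  set C := X ⊓ centralizer (Q : Set G) with hC
  have hCN : C ≤ N := inf_le_inf_left _ (centralizer_le_normalizer _)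
  have hNC : N ≤ normalizer (C : Set G) := le_normalizer_inf (inf_le_left.trans le_normalizer)
    (inf_le_right.trans (normalizer_le_normalizer_centralizer Q))
  obtain ⟨L, hLN, hL, hCL, hLp⟩ := exists_pi_supplement hp hπ hCN hNC (fun r hr hrπ R hR hRN =>
    le_inf (hRN.trans inf_le_left) (hh Q (IsPi.of_pgroup hp hπ hQ) r hr hrπ R hR
      (hRN.trans inf_le_right)))
  obtain ⟨g₀, hg₀, hLH⟩ := hD.2 L (hLN.trans inf_le_left) hL
  have hQN : Q ≤ N := le_inf hQX le_normalizer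
  obtain ⟨S, hS⟩ := exists_isSylowIn p L
  have hS' : IsSylowIn p S N := hS.of_not_dvd_relIndex hLN hLp
  have hQL : Q ≤ L := (hS'.le_of_le_normalizer hQN hQ (hS'.le.trans inf_le_right)).trans hS.le
  -- absorbing an element of the normalizer
  have abs : ∀ n ∈ N, ∃ h ∈ H, ∃ c ∈ C, g₀ * n = h * g₀ * c := by
    intro n hn
    rw [← hCL, sup_comm] at hn
    obtain ⟨l, hl, c, hc, rfl⟩ := (mem_sup_iff_of_le_normalizer (hLN.trans hNC)).1 hn
    exact ⟨g₀ * l * g₀⁻¹, hLH (conj_mem_cj hl), c, hc, by group⟩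
  have main : ∀ g ∈ X, cj g Q ≤ H → ∃ h ∈ H, ∃ c ∈ C, g = h * g₀ * c := by
    intro g hg hgQ
    obtain ⟨P, hP, hQP⟩ := exists_isSylowIn_le hQ (cj_le_iff.1 hgQ)
    have hPX : P ≤ X := hP.le.trans (cj_le_of_mem (X.inv_mem hg) hD.1)
    rcases hQP.lt_or_eq with hlt | heq
    · have hlt' := lt_inf_normalizer hP.pgrp hlt
      set T := P ⊓ normalizer (Q : Set G) with hT
      have hTp : IsPGroup p T := hP.pgrp.to_le inf_le_left
      have hTN : T ≤ N := inf_le_inf_right _ hPX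
      obtain ⟨n, hn, hnT⟩ := hS'.exists_cj_le hTp hTN
      obtain ⟨h, hh', c, hc, e⟩ := ih T hlt' hTp (hTN.trans inf_le_left) (g₀ * n)
        (X.mul_mem hg₀ hn.1) g hg
        (by rw [cj_mul]; exact (cj_mono _ (hnT.trans hS.le)).trans hLH)
        (cj_le_iff.2 (inf_le_left.trans hP.le))
      obtain ⟨h', hh'', c', hc', e'⟩ := abs n hn
      refine ⟨h * h', H.mul_mem hh' hh'', c' * c, C.mul_mem hc'
        ⟨hc.1, centralizer_le (SetLike.coe_subset_coe.2 hlt'.le) hc.2⟩, ?_⟩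
      rw [e, e']; group
    · subst heq
      have h1 : IsSylowIn p (cj g Q) H := by simpa [cj_cj_inv] using hP.cj g
      have h2 : IsSylowIn p (cj g₀ Q) H :=
        h1.of_card_le ((cj_mono _ hQL).trans hLH) (isPGroup_cj _ hQ) (by rw [card_cj, card_cj])
      obtain ⟨h, hh', e⟩ := h2.conj h1
      have hn : g₀⁻¹ * h⁻¹ * g ∈ N := by
        refine ⟨X.mul_mem (X.mul_mem (X.inv_mem hg₀) (X.inv_mem (hD.1 hh'))) hg, ?_⟩
        refine cj_eq_self_iff.1 ?_
        rw [cj_mul, ← e, cj_mul, cj_inv_cj, cj_inv_cj]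
      obtain ⟨h', hh'', c', hc', e'⟩ := abs _ hn
      refine ⟨h * h', H.mul_mem hh' hh'', c', hc', ?_⟩
      calc g = h * (g₀ * (g₀⁻¹ * h⁻¹ * g)) := by group
        _ = _ := by rw [e']; group
  intro g hg g' hg' h1 h2
  obtain ⟨h, hh1, c, hc, rfl⟩ := main g hg h1
  obtain ⟨h', hh2, c', hc', rfl⟩ := main g' hg' h2
  exact ⟨h' * h⁻¹, H.mul_mem hh2 (H.inv_mem hh1), c⁻¹ * c', C.mul_mem (C.inv_mem hc) hc', by group⟩

theorem DPi.cent {π : Set ℕ} (hh : Homog π G) {X H : Subgroup G} (hD : DPi π X H) {p : ℕ}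
    (hp : p.Prime) (hπ : p ∈ π) {Q : Subgroup G} (hQ : IsPGroup p Q) (hQH : Q ≤ H) :
    DPi π (X ⊓ centralizer (Q : Set G)) (H ⊓ centralizer (Q : Set G)) := by
  refine ⟨inf_le_inf_right _ hD.1, fun L hL hLπ => ?_⟩
  have hQX := hQH.trans hD.1
  obtain ⟨g, hg, hle⟩ := hD.2 (Q ⊔ L) (sup_le hQX (hL.trans inf_le_left))
    (IsPi.sup (IsPi.of_pgroup hp hπ hQ) hLπ
      (hL.trans (inf_le_right.trans (centralizer_le_normalizer _))))
  obtain ⟨h, hh', c, hc, e⟩ := hD.trans hh hp hπ Q hQ hQX 1 X.one_mem g hg (by rwa [cj_one])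
    ((cj_mono _ le_sup_left).trans hle)
  refine ⟨c, hc, le_inf ?_ ((cj_le_of_mem hc hL).trans inf_le_right)⟩
  have : c = h⁻¹ * g := by rw [e]; group
  rw [this, cj_mul]
  exact cj_le_of_mem (H.inv_mem hh') ((cj_mono _ le_sup_right).trans hle)

omit [Finite G] in
theorem eq_of_pow_eq_two {a b : G} {m n : ℕ} (h : m.Coprime n) (h1 : a ^ m = b ^ m)
    (h2 : a ^ n = b ^ n) : a = b := by
  have e := Nat.gcd_eq_gcd_ab m n
  rw [h.gcd_eq_one] at e
  have : ∀ c : G, c = (c ^ m) ^ (Nat.gcdA m n) * (c ^ n) ^ (Nat.gcdB m n) := fun c => by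
    rw [← zpow_natCast, ← zpow_natCast, ← zpow_mul, ← zpow_mul, ← zpow_add, ← e]; simp
  rw [this a, this b, h1, h2]

/-- A `π`-subgroup into which all `π`-subgroups are conjugate controls its fusion. -/
theorem DPi.fusion {π : Set ℕ} (hh : Homog π G) (n : ℕ) : ∀ {X H : Subgroup G}, DPi π X H →
    IsPiSubgroup π H → ∀ x ∈ H, orderOf x = n → ∀ g ∈ X, g * x * g⁻¹ ∈ H →
      ∃ h ∈ H, h * x * h⁻¹ = g * x * g⁻¹ := by
  induction n using Nat.strong_induction_on with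
  | _ n ih =>
  intro X H hD hH x hx hn g hg hgx
  by_cases h1 : n = 1
  · have : x = 1 := orderOf_eq_one_iff.1 (hn.trans h1)
    exact ⟨1, H.one_mem, by simp [this]⟩
  have hn0 : n ≠ 0 := hn ▸ (orderOf_pos x).ne'
  obtain ⟨p, hp, hpn⟩ := Nat.exists_prime_and_dvd h1
  have hπ : p ∈ π := hH p hp (hpn.trans (hn ▸ H.orderOf_dvd_natCard hx))
  obtain ⟨k, m, hm, hkm⟩ := Nat.exists_eq_pow_mul_and_not_dvd hn0 p hp.ne_one
  have hk : k ≠ 0 := by rintro rfl; exact hm (by simpa [hkm] using hpn)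
  have hcop : Nat.Coprime (p ^ k) m := Nat.Coprime.pow_left _ ((Nat.Prime.coprime_iff_not_dvd hp).2 hm)
  set y := x ^ m with hy
  set z := x ^ (p ^ k) with hz
  have hyp : y ^ p ^ k = 1 := by rw [hy, ← pow_mul, mul_comm, ← hkm, ← hn, pow_orderOf_eq_one]
  have hQ : IsPGroup p (zpowers y) := LocalEven.isPGroup_zpowers hyp
  have hQH : zpowers y ≤ H := (zpowers_le).2 (H.pow_mem hx _)
  obtain ⟨h, hh', c, hc, e⟩ := hD.trans hh hp hπ _ hQ (hQH.trans hD.1) 1 X.one_mem g hg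
    (by rwa [cj_one]) (by
      rw [cj_zpowers, zpowers_le, hy, ← conj_pow]; exact H.pow_mem hgx _)
  have hcy : c * y = y * c := ((mem_centralizer_iff.1 hc.2) y (mem_zpowers y)).symm
  have hcx : c * x * c⁻¹ ∈ H := by
    have : c * x * c⁻¹ = h⁻¹ * (g * x * g⁻¹) * h := by rw [e]; group
    rw [this]; exact H.mul_mem (H.mul_mem (H.inv_mem hh') hgx) hh'
  have hzC : z ∈ centralizer (zpowers y : Set G) := by
    rw [mem_centralizer_iff]
    rintro _ ⟨i, rfl⟩
    exact ((((Commute.refl x).pow_pow m (p ^ k))).zpow_left i).eq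
  have hzo : orderOf z = m := by
    rw [hz, orderOf_pow_of_dvd (pow_ne_zero _ hp.ne_zero) (by rw [hn, hkm]; exact dvd_mul_right _ _),
      hn, hkm, Nat.mul_div_cancel_left _ (pow_pos hp.pos _)]
  have hmn : m < n := by
    have hm0 : 0 < m := Nat.pos_of_ne_zero (by rintro rfl; exact hm (dvd_zero _))
    have : 1 < p ^ k := Nat.one_lt_pow hk hp.one_lt
    rw [hkm]; nlinarith
  obtain ⟨h₁, hh₁, e₁⟩ := ih m hmn (hD.cent hh hp hπ hQ hQH) (IsPi.mono hH inf_le_left) z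
    ⟨H.pow_mem hx _, hzC⟩ hzo c hc ⟨by rw [hz, ← conj_pow]; exact H.pow_mem hcx _,
      (centralizer _).mul_mem ((centralizer _).mul_mem hc.2 hzC) ((centralizer _).inv_mem hc.2)⟩
  have hh₁y : h₁ * y = y * h₁ := ((mem_centralizer_iff.1 hh₁.2) y (mem_zpowers y)).symm
  refine ⟨h * h₁, H.mul_mem hh' hh₁.1, ?_⟩
  have e2 : h₁ * x * h₁⁻¹ = c * x * c⁻¹ := by
    have a1 : (h₁ * x * h₁⁻¹) ^ m = (c * x * c⁻¹) ^ m := by
      rw [conj_pow, conj_pow, ← hy, hh₁y, hcy]; group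
    have a2 : (h₁ * x * h₁⁻¹) ^ (p ^ k) = (c * x * c⁻¹) ^ (p ^ k) := by
      rw [conj_pow, conj_pow, ← hz, e₁]
    exact eq_of_pow_eq_two hcop a2 a1
  rw [e]
  calc h * h₁ * x * (h * h₁)⁻¹ = h * (h₁ * x * h₁⁻¹) * h⁻¹ := by group
    _ = _ := by rw [e2]; group

/-- The `π'`-elements form a subgroup. -/
def PiClosed (π : Set ℕ) (G : Type*) [Group G] : Prop :=
  ∃ K : Subgroup G, ∀ x : G, x ∈ K ↔ ∀ p : ℕ, p.Prime → p ∣ orderOf x → p ∉ π

theorem piClosed_of_normal {π : Set ℕ} {K : Subgroup G} [K.Normal]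
    (h1 : ∀ p : ℕ, p.Prime → p ∣ Nat.card K → p ∉ π) (h2 : ∀ p : ℕ, p.Prime → p ∣ K.index → p ∈ π) :
    PiClosed π G := by
  refine ⟨K, fun x => ⟨fun hx p hp hd => h1 p hp (hd.trans (K.orderOf_dvd_natCard hx)), fun h => ?_⟩⟩
  rw [← QuotientGroup.eq_one_iff, ← orderOf_eq_one_iff]
  by_contra hne
  obtain ⟨p, hp, hd⟩ := Nat.exists_prime_and_dvd hne
  exact h p hp (hd.trans (orderOf_map_dvd (QuotientGroup.mk' K) x))
    (h2 p hp (hd.trans (orderOf_dvd_natCard _)))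

/-- Baer's problem: a `π`-homogeneous `D_π`-group is `π'`-closed. -/
theorem piClosed_of_dpi {π : Set ℕ} (hh : Homog π G) {H : Subgroup G} (hD : DPi π ⊤ H)
    (hH : IsPiSubgroup π H) : PiClosed π G := by
  have hidx : ∀ p : ℕ, p.Prime → p ∣ H.index → p ∉ π := by
    intro p hp hd hπ
    haveI := Fact.mk hp
    obtain ⟨S, hS⟩ := exists_isSylowIn p (⊤ : Subgroup G)
    obtain ⟨g, -, hg⟩ := hD.2 S le_top (IsPi.of_pgroup hp hπ hS.pgrp)
    have := (hS.cj_of_mem (mem_top g)).not_dvd_of_le hg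
    rw [relIndex_top_right] at this
    exact this hd
  have hcop : Nat.Coprime (Nat.card H) H.index :=
    Nat.coprime_of_dvd fun p hp h1 h2 => hidx p hp h2 (hH p hp h1)
  obtain ⟨K, hK, h1, h2⟩ := S0877.result H hcop
    (fun x hx y hy hxy => by
      obtain ⟨g, rfl⟩ := isConj_iff.1 hxy
      exact DPi.fusion hh _ hD hH x hx rfl g (mem_top g) hy)
    (fun E p hp _ hd => by
      obtain ⟨g, -, hg⟩ := hD.2 E le_top (fun r hr hr' => hH r hr (hr'.trans hd))
      exact ⟨g, hg⟩)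
  have hc : IsComplement' K H := isComplement'_of_disjoint_and_mul_eq_univ (disjoint_iff.2 h2)
    (by rw [← normal_mul, h1, coe_top])
  refine piClosed_of_normal (K := K) (fun p hp hd => hidx p hp ?_) (fun p hp hd => hH p hp ?_)
  · rwa [hc.index_eq_card]
  · rwa [← hc.symm.index_eq_card]

end

end Cfsg.Agent.FGS
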