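import Mathlib
import Cfsg.Agent.FGS.Homog
import Cfsg.Agent.Core.SylowOf

/-! π-homogeneous groups: sections and the reduction to simple groups. -/

set_option autoImplicit false

namespace Cfsg.Agent.FGS

open Subgroup Cfsg.Agent.LocalEven

universe u

section
variable {G : Type*} [Group G] [Finite G] {π : Set ℕ}

theorem homog_of_p (h : ∀ p : ℕ, p.Prime → p ∈ π → ∀ Q : Subgroup G, IsPGroup p Q → ∀ r : ℕ,
    r.Prime → r ∉ π → ∀ R : Subgroup G, IsPGroup r R → R ≤ normalizer (Q : Set G) →
      R ≤ centralizer (Q : Set G)) : Homog π G := by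
  intro Q hQ r hr hrπ R hR hn
  haveI := Fact.mk hr
  rw [le_centralizer_iff]
  refine Core.le_of_forall_sylow_le _ _ fun p hp hd => ?_
  haveI := Fact.mk hp
  obtain ⟨P, hP, hRP⟩ := Core.exists_invariant_isSylowOf R Q hn (by
    obtain ⟨k, hk⟩ := hR.exists_card_eq
    rw [hk]
    exact Nat.Coprime.pow_left _ ((Nat.Prime.coprime_iff_not_dvd hr).2 fun h => hrπ (hQ r hr h)))
    (Or.inl (Core.solvable_of_isPGroup hR)) p
  refine ⟨hP.toSylow, ?_⟩
  rw [hP.map_toSylow, ← le_centralizer_iff]
  exact h p hp (hQ p hp hd) P hP.isPGroup r hr hrπ R hR hRP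

omit [Finite G] in
theorem map_le_cent {H : Type*} [Group H] (f : G →* H) {R P : Subgroup G}
    (h : R ≤ centralizer (P : Set G)) : R.map f ≤ centralizer (P.map f : Set H) := by
  rintro _ ⟨x, hx, rfl⟩
  rw [mem_centralizer_iff]
  rintro _ ⟨y, hy, rfl⟩
  rw [← map_mul, ← map_mul, mem_centralizer_iff.1 (h hx) y hy]

theorem Homog.map {H : Type*} [Group H] (f : G →* H) (hf : Function.Surjective f)
    (hh : Homog π G) : Homog π H := by
  haveI : Finite H := Finite.of_surjective f hf
  refine homog_of_p fun p hp hπ Q hQ r hr hrπ R hR hn => ?_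
  haveI := Fact.mk hp
  haveI := Fact.mk hr
  have hY : Q ⊔ R ≤ normalizer (Q : Set H) := sup_le le_normalizer hn
  obtain ⟨P, hP⟩ := exists_isSylowIn p (Q.comap f)
  have hPQ : P.map f = Q := by
    have := hP.map f
    rw [map_comap_eq_self_of_surjective hf] at this
    exact this.eq_of_isPGroup hQ
  have hfr := hP.frattini_sup (H := (Q ⊔ R).comap f) (comap_mono le_sup_left)
    ((comap_mono hY).trans (le_normalizer_comap f))
  set Z := (Q ⊔ R).comap f ⊓ normalizer (P : Set G) with hZ
  have hZm : Z.map f = Q ⊔ R := by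
    have h1 : Q ≤ Z.map f := hPQ ▸ map_mono (le_inf (hP.le.trans (comap_mono le_sup_left)) le_normalizer)
    have := congrArg (Subgroup.map f) hfr
    rwa [Subgroup.map_sup, map_comap_eq_self_of_surjective hf, map_comap_eq_self_of_surjective hf,
      sup_eq_right.2 h1] at this
  obtain ⟨R₁, hR₁⟩ := exists_isSylowIn r Z
  have h2 := map_le_cent f (hh P (IsPi.of_pgroup hp hπ hP.pgrp) r hr hrπ R₁ hR₁.pgrp
    (hR₁.le.trans inf_le_right))
  have h3 := hR₁.map f
  rw [hZm] at h3
  rw [hPQ] at h2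
  obtain ⟨y, hy, hle⟩ := h3.exists_le_cj hR le_sup_right
  exact hle.trans (cj_le_of_mem_normalizer (normalizer_le_normalizer_centralizer Q (hY hy)) h2)

omit [Finite G] in
theorem Homog.comap {H : Type*} [Group H] (f : H →* G) (hf : Function.Injective f)
    (hh : Homog π G) : Homog π H := by
  intro Q hQ r hr hrπ R hR hn x hx
  have := hh (Q.map f) (fun p hp hd => hQ p hp (by rwa [card_map_of_injective hf] at hd)) r hr hrπ
    (R.map f) (hR.map f) ((map_mono hn).trans (le_normalizer_map f)) (mem_map_of_mem f hx)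
  rw [mem_centralizer_iff] at this ⊢
  intro y hy
  exact hf (by rw [map_mul, map_mul, this _ (mem_map_of_mem f hy)])

theorem PiClosed.exists_normal (h : PiClosed π G) : ∃ K : Subgroup G, K.Normal ∧
    (∀ p : ℕ, p.Prime → p ∣ Nat.card K → p ∉ π) ∧ (∀ p : ℕ, p.Prime → p ∣ K.index → p ∈ π) ∧
      ∀ x : G, x ∈ K ↔ ∀ p : ℕ, p.Prime → p ∣ orderOf x → p ∉ π := by
  obtain ⟨K, hK⟩ := h
  refine ⟨K, ⟨fun x hx g => (hK _).2 fun p hp hd => (hK x).1 hx p hp ?_⟩, fun p hp hd => ?_,
    fun p hp hd => ?_, hK⟩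
  · rwa [← MulAut.conj_apply, MulEquiv.orderOf_eq] at hd
  · haveI := Fact.mk hp
    obtain ⟨x, hx, ho⟩ := exists_mem_orderOf_eq hd
    exact (hK x).1 hx p hp (ho ▸ dvd_rfl)
  · by_contra hπ
    haveI := Fact.mk hp
    obtain ⟨S, hS⟩ := exists_isSylowIn p (⊤ : Subgroup G)
    have : S ≤ K := fun x hx => (hK x).2 fun r hr hr' => by
      obtain ⟨k, hk⟩ := orderOf_of_mem_isPGroup hS.pgrp hx
      rw [hk] at hr'
      rwa [(Nat.prime_dvd_prime_iff_eq hr hp).1 (hr.dvd_of_dvd_pow hr')]
    have := hS.not_dvd_of_le this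
    rw [relIndex_top_right] at this
    exact this hd

theorem piClosed_of_sub {N : Subgroup G} [N.Normal] (hN : PiClosed π N)
    (h2 : ∀ p : ℕ, p.Prime → p ∣ N.index → p ∈ π) : PiClosed π G := by
  obtain ⟨K, hK⟩ := hN
  refine ⟨K.map N.subtype, fun x => ⟨?_, fun h => ?_⟩⟩
  · rintro ⟨y, hy, rfl⟩
    simpa using (hK y).1 hy
  · have hx : x ∈ N := by
      rw [← QuotientGroup.eq_one_iff, ← orderOf_eq_one_iff]
      by_contra hne
      obtain ⟨p, hp, hd⟩ := Nat.exists_prime_and_dvd hne
      exact h p hp (hd.trans (orderOf_map_dvd (QuotientGroup.mk' N) x))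
        (h2 p hp (hd.trans (orderOf_dvd_natCard _)))
    exact ⟨⟨x, hx⟩, (hK _).2 (by simpa using h), rfl⟩

theorem card_comap_mk' (K : Subgroup G) [K.Normal] (L : Subgroup (G ⧸ K)) :
    Nat.card (L.comap (QuotientGroup.mk' K)) = Nat.card K * Nat.card L := by
  have h1 := (L.comap (QuotientGroup.mk' K)).card_mul_index
  rw [index_comap_of_surjective _ (QuotientGroup.mk'_surjective K)] at h1
  have h2 := L.card_mul_index
  have h3 := K.card_mul_index
  rw [index_eq_card K, ← h2, ← h1, ← mul_assoc] at h3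
  exact (Nat.eq_of_mul_eq_mul_right (Nat.pos_of_ne_zero L.index_ne_zero_of_finite) h3).symm

theorem piClosed_of_quot {K : Subgroup G} [K.Normal]
    (h1 : ∀ p : ℕ, p.Prime → p ∣ Nat.card K → p ∉ π) (h : PiClosed π (G ⧸ K)) : PiClosed π G := by
  obtain ⟨L, hL, h2, h3, -⟩ := h.exists_normal
  refine piClosed_of_normal (K := L.comap (QuotientGroup.mk' K)) (fun p hp hd => ?_)
    (fun p hp hd => h3 p hp ?_)
  · rw [card_comap_mk'] at hd
    rcases (Nat.Prime.dvd_mul hp).1 hd with h | h
    exacts [h1 p hp h, h2 p hp h]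
  · rwa [index_comap_of_surjective _ (QuotientGroup.mk'_surjective K)] at hd

theorem piClosed_of_central {N : Subgroup G} [N.Normal] (hN : IsPiSubgroup π N)
    (hc : centralizer (N : Set G) = ⊤) (h : PiClosed π (G ⧸ N)) : PiClosed π G := by
  obtain ⟨L, hL, h2, h3, -⟩ := h.exists_normal
  set M := L.comap (QuotientGroup.mk' N) with hM
  have hNM : N ≤ M := fun x hx => by
    rw [hM, mem_comap, QuotientGroup.mk'_apply, (QuotientGroup.eq_one_iff x).2 hx]; exact L.one_mem
  have hr : N.relIndex M = Nat.card L := by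
    have := card_mul_relIndex hNM
    rw [hM, card_comap_mk'] at this
    exact Nat.eq_of_mul_eq_mul_left Nat.card_pos this
  obtain ⟨W, hW, -, hs, hWc⟩ := Core.exists_complement_in N M hNM (by simp [normalizer_eq_top])
    (by rw [hr]; exact Nat.coprime_of_dvd fun p hp a b => h2 p hp b (hN p hp a))
  have hn : M ≤ normalizer (W : Set G) := by
    rw [← hs]
    refine sup_le ?_ le_normalizer
    refine le_trans ?_ (centralizer_le_normalizer _)
    rw [le_centralizer_iff, hc]; exact le_top
  haveI : (W.subgroupOf M).Normal := (normal_subgroupOf_iff_le_normalizer hW).2 hn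
  refine piClosed_of_sub (N := M) (piClosed_of_normal (K := W.subgroupOf M) (fun p hp hd => ?_)
    (fun p hp hd => ?_)) (fun p hp hd => h3 p hp ?_)
  · rw [card_subgroupOf hW, hWc, hr] at hd
    exact h2 p hp hd
  · have e := card_mul_relIndex hW
    rw [hWc, ← card_mul_relIndex hNM, mul_comm (Nat.card N)] at e
    have := Nat.eq_of_mul_eq_mul_left (by rw [hr]; exact Nat.card_pos) e
    exact hN p hp (this ▸ hd)
  · rwa [hM, index_comap_of_surjective _ (QuotientGroup.mk'_surjective N)] at hd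

theorem piClosed_of_comm (h : IsMulCommutative G) : PiClosed π G := by
  refine ⟨⟨⟨⟨{x | ∀ p : ℕ, p.Prime → p ∣ orderOf x → p ∉ π}, fun {a b} ha hb p hp hd => ?_⟩,
    fun p hp hd => absurd (by simpa using hd) hp.ne_one⟩, fun {a} ha => by simpa using ha⟩,
    fun x => Iff.rfl⟩
  have := hd.trans (Commute.orderOf_mul_dvd_mul_orderOf (h.is_comm.comm a b))
  rcases (Nat.Prime.dvd_mul hp).1 this with h | h
  exacts [ha p hp h, hb p hp h]

theorem Homog.index_cent (hh : Homog π G) {N : Subgroup G} [N.Normal] (hN : IsPiSubgroup π N) :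
    ∀ p : ℕ, p.Prime → p ∣ (centralizer (N : Set G)).index → p ∈ π := by
  intro p hp hd
  by_contra hπ
  haveI := Fact.mk hp
  obtain ⟨S, hS⟩ := exists_isSylowIn p (⊤ : Subgroup G)
  have := hS.not_dvd_of_le (hh N hN p hp hπ S hS.pgrp (by simp [normalizer_eq_top]))
  rw [relIndex_top_right] at this
  exact this hd

end

/-- Reduction of "homogeneous implies closed" to simple groups. -/
theorem piClosed_induction {π : Set ℕ} (P : ∀ (X : Type u) [Group X], Prop)
    (hsub : ∀ (X : Type u) [Group X] [Finite X] (H : Subgroup X), P X → P H)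
    (hquot : ∀ (X : Type u) [Group X] [Finite X] (N : Subgroup X) [N.Normal], P X → P (X ⧸ N))
    (hs : ∀ (X : Type u) [Group X] [Finite X] [IsSimpleGroup X], ¬ IsMulCommutative X → P X →
      Homog π X → (∀ H : Subgroup X, H ≠ ⊤ → PiClosed π H) → PiClosed π X)
    (G : Type u) [Group G] [Finite G] : P G → Homog π G → PiClosed π G := by
  induction hn : Nat.card G using Nat.strong_induction_on generalizing G with
  | _ n ih =>
  intro hP hh
  have h1 : ∀ H : Subgroup G, H ≠ ⊤ → PiClosed π H := fun H hH =>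
    ih _ (by simpa [hn] using Core.card_lt_of_lt (lt_top_iff_ne_top.2 hH)) H rfl (hsub G H hP)
      (hh.comap H.subtype H.subtype_injective)
  have h2 : ∀ (N : Subgroup G) [N.Normal], N ≠ ⊥ → PiClosed π (G ⧸ N) := fun N _ hN =>
    ih _ (by
      rw [← hn, ← N.card_mul_index, ← index_eq_card]
      have := (N.one_lt_card_iff_ne_bot).2 hN
      have := Nat.pos_of_ne_zero N.index_ne_zero_of_finite
      nlinarith) (G ⧸ N) rfl (hquot G N hP) (hh.map _ (QuotientGroup.mk'_surjective N))
  by_cases hc : IsMulCommutative G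
  · exact piClosed_of_comm hc
  by_cases hsim : IsSimpleGroup G
  · exact hs G hc hP hh h1
  haveI : Nontrivial G := by
    by_contra h
    rw [not_nontrivial_iff_subsingleton] at h
    exact hc ⟨⟨fun a b => Subsingleton.elim _ _⟩⟩
  obtain ⟨N, hN, hN0, hN1⟩ : ∃ N : Subgroup G, N.Normal ∧ N ≠ ⊥ ∧ N ≠ ⊤ := by
    by_contra h
    push Not at h
    exact hsim ⟨fun H hH => or_iff_not_imp_left.2 (h H hH)⟩
  obtain ⟨K, -, k1, k2, hK⟩ := (h1 N hN1).exists_normal
  haveI : K.Characteristic := characteristic_iff_map_le.2 fun φ => by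
    rintro _ ⟨x, hx, rfl⟩
    exact (hK _).2 (by simpa using (hK x).1 hx)
  by_cases hK0 : K = ⊥
  · have hNπ : IsPiSubgroup π N := fun p hp hd => k2 p hp (by rwa [hK0, index_bot])
    by_cases hC : centralizer (N : Set G) = ⊤
    · exact piClosed_of_central hNπ hC (h2 N hN0)
    · exact piClosed_of_sub (h1 _ hC) (hh.index_cent hNπ)
  · refine piClosed_of_quot (K := K.map N.subtype) (fun p hp hd => k1 p hp (by
      rwa [card_map_subtype] at hd)) (h2 _ (by
        rwa [Ne, map_eq_bot_iff_of_injective _ N.subtype_injective]))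

end Cfsg.Agent.FGS
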