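import Mathlib
import Cfsg.Agent.FGS.Basic2
import Cfsg.Agent.Transfer.Residual
import Cfsg.Agent.Core.Coprime2
import Cfsg.Agent.Core.MinNormal

/-! The hypercenter. -/

set_option autoImplicit false

namespace Cfsg.Agent.FGS

open Subgroup Cfsg Cfsg.Agent

universe u

theorem comap_hypercenter {G : Type*} [Group G] :
    (⨆ n : ℕ, Subgroup.upperCentralSeries (G ⧸ center G) n).comap (QuotientGroup.mk' (center G)) ≤
      ⨆ n : ℕ, Subgroup.upperCentralSeries G n := by
  intro x hx
  rw [mem_comap, mem_iSup_of_directed (Subgroup.upperCentralSeries_mono _).directed_le] at hx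
  obtain ⟨n, hn⟩ := hx
  exact mem_iSup_of_mem (n + 1) (by rw [← Subgroup.comap_upperCentralSeries_quotient_center]; exact hn)

theorem le_hypercenter_of_cent {p : ℕ} [hp : Fact p.Prime] (G : Type u) [Group G] [Finite G]
    (N : Subgroup G) (hN : N.Normal) (hp' : IsPGroup p N)
    (h : ∀ x : G, (orderOf x).Coprime p → x ∈ centralizer (N : Set G)) :
    N ≤ ⨆ n : ℕ, Subgroup.upperCentralSeries G n := by
  revert N
  refine Core.induction_on_card (P := fun G _ _ => ∀ N : Subgroup G, N.Normal → IsPGroup p N →
    (∀ x : G, (orderOf x).Coprime p → x ∈ centralizer (N : Set G)) →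
    N ≤ ⨆ n : ℕ, Subgroup.upperCentralSeries G n) (fun G _ _ ih N hN hp' h => ?_) G
  by_cases h0 : N = ⊥
  · rw [h0]; exact bot_le
  obtain ⟨P⟩ : Nonempty (Sylow p G) := inferInstance
  have h1 := Core.inf_centralizer_ne_bot_of_isPGroup hp' P.isPGroup'
    (by rw [normalizer_eq_top]; exact le_top) h0
  have h2 : center G ≠ ⊥ := by
    intro hz
    refine h1 (eq_bot_iff.mpr (hz ▸ fun z hz => ?_))
    refine mem_center_of_sup (Transfer.pResidual_sup_sylow P) (Transfer.pResidual_le_iff.mpr fun x hx => ?_)
      fun x hx => ?_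
    · exact mem_centralizer_singleton_iff.mpr (mem_centralizer_iff.mp (h x hx) z hz.1).symm
    · exact mem_centralizer_singleton_iff.mpr (mem_centralizer_iff.mp hz.2 x hx)
  have hs := QuotientGroup.mk'_surjective (center G)
  refine le_trans ?_ comap_hypercenter
  refine map_le_iff_le_comap.mp (ih _ ?_ _ (hN.map _ hs) (hp'.map _) fun x hx => ?_)
  · rw [card_eq_card_quotient_mul_card_subgroup (center G)]
    exact lt_mul_of_one_lt_right Nat.card_pos ((one_lt_card_iff_ne_bot _).mpr h2)
  · obtain ⟨x, rfl⟩ := hs x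
    obtain ⟨b, -, hb, hb'⟩ := exists_pPrime_lift _ x hx
    rw [← hb, mem_centralizer_iff]
    rintro _ ⟨y, hy, rfl⟩
    rw [← map_mul, ← map_mul, mem_centralizer_iff.mp (h b hb') y hy]

/-- Adjoining hypercentral elements to a nilpotent subgroup keeps it nilpotent. -/
theorem isNilpotent_sup_of_le_upperCentralSeries (n : ℕ) :
    ∀ (G : Type u) [Group G] (A B : Subgroup G), Group.IsNilpotent A →
      B ≤ Subgroup.upperCentralSeries G n → Group.IsNilpotent (A ⊔ B : Subgroup G) := by
  induction n with
  | zero =>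
    intro G _ A B hA hB
    rwa [le_bot_iff.mp hB, sup_bot_eq]
  | succ n ih =>
    intro G _ A B hA hB
    let π := QuotientGroup.mk' (center G)
    have h1 := ih _ (A.map π) (B.map π) (Group.nilpotent_of_surjective _ (π.subgroupMap_surjective A))
      (by rw [map_le_iff_le_comap, Subgroup.comap_upperCentralSeries_quotient_center]; exact hB)
    rw [← Subgroup.map_sup] at h1
    refine Subgroup.isNilpotent_of_ker_le_center (π.subgroupMap (A ⊔ B)) fun x hx => ?_
    have : (x : G) ∈ center G := (QuotientGroup.eq_one_iff _).mp (congrArg Subtype.val hx)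
    exact mem_center_iff.mpr fun y => Subtype.ext (mem_center_iff.mp this y)

end Cfsg.Agent.FGS
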