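import Mathlib
import Cfsg.Agent.FGS.SylowNum
import Cfsg.Agent.Core.Fitting
import Cfsg.Agent.S0556
import Cfsg.Agent.S4040

/-!
# FGS/MaxCent: groups in which centralisers of non-central elements are maximal
-/

set_option autoImplicit false

open Subgroup

namespace Cfsg.Agent.FGS.MaxCent

variable {G : Type*} [Group G] [Finite G]
  (h : ∀ g : G, g ∉ center G → IsCoatom (centralizer ({g} : Set G)))

include h

theorem eq_of_le {a b : G} (ha : a ∉ center G) (hb : b ∉ center G)
    (hle : centralizer ({a} : Set G) ≤ centralizer {b}) : centralizer ({a} : Set G) = centralizer {b} :=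
  ((h a ha).le_iff_eq (h b hb).1).mp hle |>.symm

theorem eq_of_coprime {a b : G} (ha : a ∉ center G) (hb : b ∉ center G) (hab : Commute a b)
    (hc : (orderOf a).Coprime (orderOf b)) : centralizer ({a} : Set G) = centralizer {b} := by
  have h1 : a * b ∉ center G := fun h1 => ha (zpowers_le.mpr h1 (mem_zpowers_mul_left hab hc))
  rw [← eq_of_le h h1 ha (centralizer_le_of_mem_zpowers (mem_zpowers_mul_left hab hc)),
    eq_of_le h h1 hb (centralizer_le_of_mem_zpowers (mem_zpowers_mul_right hab hc))]

theorem comm_of_two {p k : ℕ} [Fact p.Prime] {a b : G} (ha : a ∉ center G) (hb : b ∉ center G)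
    (hab : Commute a b) (hak : orderOf a = p ^ k) (hbp : (orderOf b).Coprime p) :
    IsMulCommutative (centralizer ({a} : Set G)) := by
  have e := eq_of_coprime h ha hb hab (hak ▸ hbp.symm.pow_left k)
  refine le_centralizer_iff_isMulCommutative.mp fun y hy => ?_
  obtain ⟨c, d, hc, hd, rfl, hcd, ⟨j, hj⟩, hdp⟩ := exists_pPart p y
  have hc' := zpowers_le.mpr hy hc
  have hd' := zpowers_le.mpr hy hd
  refine mul_mem ?_ ?_
  · by_cases hz : c ∈ center G
    · exact center_le_centralizer _ hz
    · rw [e] at hc' ⊢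
      rw [← eq_of_coprime h hz hb (mem_centralizer_singleton_iff.mp hc') (hj ▸ hbp.symm.pow_left j)]
      exact mem_centralizer_iff.mpr fun u hu => mem_centralizer_singleton_iff.mp hu
  · by_cases hz : d ∈ center G
    · exact center_le_centralizer _ hz
    · rw [← eq_of_coprime h hz ha (mem_centralizer_singleton_iff.mp hd') (hak ▸ hdp.pow_right k)]
      exact mem_centralizer_iff.mpr fun u hu => mem_centralizer_singleton_iff.mp hu

theorem comm_or_isPGroup {p k : ℕ} [Fact p.Prime] {a : G} (ha : a ∉ center G)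
    (hak : orderOf a = p ^ k) : IsMulCommutative (centralizer ({a} : Set G)) ∨
      IsPGroup p ((centralizer ({a} : Set G)).map (QuotientGroup.mk' (center G))) := by
  refine or_iff_not_imp_left.mpr fun hn => IsPGroup.iff_orderOf.mpr ?_
  rintro ⟨w, hw⟩
  rw [orderOf_mk]
  obtain ⟨y, hy, rfl⟩ := hw
  obtain ⟨c, d, hc, hd, rfl, hcd, ⟨j, hj⟩, hdp⟩ := exists_pPart p y
  have hz : d ∈ center G := by
    by_contra hz
    exact hn (comm_of_two h ha hz (mem_centralizer_singleton_iff.mp (zpowers_le.mpr hy hd)).symm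
      hak hdp)
  have h1 : QuotientGroup.mk' (center G) d = 1 := (QuotientGroup.eq_one_iff d).mpr hz
  rw [map_mul, h1, mul_one]
  exact exists_pow_of_dvd Fact.out (hj ▸ orderOf_map_dvd _ c)

theorem solvable : Group.IsSolvable G := by
  have hs := QuotientGroup.mk'_surjective (center G)
  by_cases h2 : IsPGroup 2 (G ⧸ center G)
  · exact (Group.isSolvable_iff_subgroup_quotient (center G)).mpr
      ⟨Core.solvable_of_isMulCommutative, Core.solvable_of_isPGroup h2⟩
  obtain ⟨p, hp, hd, hp2⟩ : ∃ p : ℕ, p.Prime ∧ p ∣ Nat.card (G ⧸ center G) ∧ p ≠ 2 := by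
    by_contra hn
    push Not at hn
    refine h2 ((Core.isPGroup_iff_isPiSubgroup (H := ⊤)).mpr ?_ |>.of_equiv topEquiv)
    intro p hp hd
    exact hn p hp (by simpa using hd)
  have := Fact.mk hp
  obtain ⟨y, hy⟩ := exists_prime_orderOf_dvd_card' p hd
  obtain ⟨x, rfl⟩ := hs y
  obtain ⟨a, -, ha, k, hk⟩ := exists_pElement_lift (QuotientGroup.mk' (center G)) (k := 1) x
    (by rw [hy, pow_one])
  have haz : a ∉ center G := fun hz => by
    rw [← ha, QuotientGroup.mk'_apply, (QuotientGroup.eq_one_iff a).mpr hz, orderOf_one] at hy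
    exact hp.one_lt.ne hy
  rcases comm_or_isPGroup h haz hk with h1 | h1
  · exact ⟨⟨3, S0556.result _ (h a haz)⟩⟩
  · refine (Group.isSolvable_iff_subgroup_quotient (center G)).mpr
      ⟨Core.solvable_of_isMulCommutative, S4040.result _ (Core.isCoatom_map_of_ker_le hs (h a haz)
        (by rw [QuotientGroup.ker_mk']; exact center_le_centralizer _)) h1.isNilpotent ?_⟩
    obtain ⟨j, hj⟩ := IsPGroup.iff_card.mp h1
    rw [hj]
    exact (hp.odd_of_ne_two hp2).pow

end Cfsg.Agent.FGS.MaxCent
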