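import Mathlib
import Cfsg.Agent.FGS.Basic2
import Cfsg.Agent.PGrp.Rank2
import Cfsg.Agent.PGrp.Metacyclic
import Cfsg.Agent.Transfer.Frobenius

/-! Normal `p`-complements for two-generated or metacyclic Sylow subgroups. -/

set_option autoImplicit false

namespace Cfsg.Agent.FGS

open Subgroup Cfsg Cfsg.Agent

variable {G : Type*} [Group G] [Finite G] {p : ℕ} [hp : Fact p.Prime]

omit hp in
theorem dvd_card_mulAut_of_not_cent {Q : Subgroup G} {g : G} (hg : g ∈ normalizer (Q : Set G))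
    {q k : ℕ} (hq : q.Prime) (ho : orderOf g = q ^ k) (hc : g ∉ centralizer (Q : Set G)) :
    q ∣ Nat.card (MulAut Q) := by
  have hA : zpowers g ≤ normalizer (Q : Set G) := zpowers_le.mpr hg
  let a : zpowers g := ⟨g, mem_zpowers g⟩
  have h1 : orderOf (PGrp.actHom hA a) ∣ q ^ k := ho ▸ PGrp.orderOf_actHom_dvd hA a
  obtain ⟨j, -, hj⟩ := (Nat.dvd_prime_pow hq).mp h1
  have h2 : j ≠ 0 := by
    rintro rfl
    exact hc ((PGrp.actHom_eq_one_iff hA).mp (orderOf_eq_one_iff.mp (by simpa using hj)))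
  exact (dvd_pow_self q h2).trans (hj ▸ orderOf_dvd_natCard _)

theorem dvd_sq_sub_one_of_not_cent {Q : Subgroup G} (hQ : IsPGroup p Q)
    (h : (frattini Q).index ≤ p ^ 2) {g : G} (hg : g ∈ normalizer (Q : Set G))
    {q k : ℕ} (hq : q.Prime) (hqp : q ≠ p) (ho : orderOf g = q ^ k)
    (hc : g ∉ centralizer (Q : Set G)) : q ∣ p ^ 2 - 1 := by
  obtain ⟨φ, hφ⟩ := PGrp.exists_matrix_two_of_index_frattini_le hQ h
  exact PGrp.dvd_sq_sub_one_of_matrix_two φ hφ hq hqp (dvd_card_mulAut_of_not_cent hg hq ho hc)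

theorem index_frattini_le_of_isMetacyclic (hG : IsPGroup p G) (h : IsMetacyclic G) :
    (frattini G).index ≤ p ^ 2 := by
  classical
  obtain ⟨a, b, -, hab⟩ := PGrp.isMetacyclic_iff.mp h
  refine (PGrp.index_frattini_le_pow_card hG {a, b} ?_).trans
    (Nat.pow_le_pow_right hp.out.pos Finset.card_le_two)
  rw [eq_top_iff, ← hab]
  exact sup_le (zpowers_le.mpr (subset_closure (by simp))) (zpowers_le.mpr (subset_closure (by simp)))

theorem hasNormalPComplement_of_isMetacyclic (P : Sylow p G) (hP : IsMetacyclic (P : Subgroup G))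
    (h : ∀ q : ℕ, q.Prime → q ≠ p → q ∣ Nat.card G → ¬ q ∣ p ^ 2 - 1) :
    HasNormalPComplement p G := by
  refine Transfer.hasNormalPComplement_of_forall_le_sylow P fun Q hQ _ q hq hqp hqG g hg ⟨k, hk⟩ => ?_
  by_contra hc
  have hQp := P.isPGroup'.to_le hQ
  exact h q hq hqp hqG (dvd_sq_sub_one_of_not_cent hQp
    (index_frattini_le_of_isMetacyclic hQp (PGrp.isMetacyclic_of_le hP hQ)) hg hq hqp hk hc)

theorem card_pResidual_mul_card_sylow (h : HasNormalPComplement p G) (P : Sylow p G) :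
    Nat.card (pResidual p G) * Nat.card (P : Subgroup G) = Nat.card G :=
  (Transfer.isComplement'_pResidual h P).card_mul_card

end Cfsg.Agent.FGS
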