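import Mathlib
import Cfsg.Agent.FGS.Basic2
import Cfsg.Agent.Transfer.Wielandt
import Cfsg.Agent.Core.Coprime2
import Cfsg.Agent.Core.MinNormal

/-! Minimal groups without a normal `p`-complement. -/

set_option autoImplicit false

namespace Cfsg.Agent.FGS

open Subgroup Cfsg Cfsg.Agent

universe u

/-- The structure of a minimal group without normal `p`-complement. -/
structure MinNPC {G : Type*} [Group G] (p q : ℕ) (Q : Subgroup G) (g : G) : Prop where
  not_npc : ¬ HasNormalPComplement p G
  npc : ∀ H : Subgroup G, H ≠ ⊤ → HasNormalPComplement p H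
  normal : Q.Normal
  prime : q.Prime
  ne : q ≠ p
  pgroup : IsPGroup p Q
  ord : ∃ k : ℕ, orderOf g = q ^ k
  not_cent : g ∉ centralizer (Q : Set G)
  sup : Q ⊔ zpowers g = ⊤

theorem exists_minNPC {G : Type*} [Group G] [Finite G] {p : ℕ} [Fact p.Prime]
    (h1 : ¬ HasNormalPComplement p G) (h2 : ∀ H : Subgroup G, H ≠ ⊤ → HasNormalPComplement p H) :
    ∃ (q : ℕ) (Q : Subgroup G) (g : G), MinNPC p q Q g := by
  obtain ⟨Q, hQ, q, g, hq, hqp, -, hQp, hg, hgQ, hsup⟩ :=
    Transfer.exists_of_minimal_not_hasNormalPComplement h1 h2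
  haveI := Fact.mk hq
  exact ⟨q, Q, g, h1, h2, hQ, hq, hqp, hQp, exists_orderOf_eq_of_mem hg (mem_zpowers g), hgQ, hsup⟩

theorem npc_induction {p : ℕ} [Fact p.Prime] {P : ∀ (G : Type u) [Group G], Prop}
    (hsub : ∀ (G : Type u) [Group G] [Finite G] (H : Subgroup G), P G → P H)
    (hmin : ∀ (G : Type u) [Group G] [Finite G] (q : ℕ) (Q : Subgroup G) (g : G),
      MinNPC p q Q g → P G → False)
    (G : Type u) [Group G] [Finite G] (h : P G) : HasNormalPComplement p G := by
  revert h
  refine Core.induction_on_card (P := fun G _ _ => P G → HasNormalPComplement p G)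
    (fun G _ _ ih h => ?_) G
  by_contra h1
  obtain ⟨q, Q, g, hm⟩ := exists_minNPC h1 fun H hH =>
    ih H (lt_of_le_of_ne (card_le_card_group H) (mt (card_eq_iff_eq_top H).mp hH)) (hsub G H h)
  exact hmin G q Q g hm h

namespace MinNPC

variable {G : Type*} [Group G] [Finite G] {p q : ℕ} [hp : Fact p.Prime] {Q : Subgroup G} {g : G}

theorem coprime (h : MinNPC p q Q g) : (orderOf g).Coprime p := by
  obtain ⟨k, hk⟩ := h.ord
  rw [hk]
  exact Nat.Coprime.pow_left _ ((Nat.coprime_primes h.prime hp.out).mpr h.ne)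

theorem coprime_card (h : MinNPC p q Q g) {R : Subgroup G} (hR : R ≤ Q) :
    (Nat.card (zpowers g)).Coprime (Nat.card R) := by
  obtain ⟨n, hn⟩ := (IsPGroup.iff_card).mp (h.pgroup.to_le hR)
  rw [Nat.card_zpowers, hn]
  exact h.coprime.pow_right _

theorem ne_bot (h : MinNPC p q Q g) : Q ≠ ⊥ := by
  rintro rfl
  exact h.not_cent (Core.le_centralizer_bot ⊤ (mem_top g))

theorem eq_top_of_mem (h : MinNPC p q Q g) (N : Subgroup G) [N.Normal] (hg : g ∈ N) : N = ⊤ := by
  by_contra hN
  refine h.not_npc (Transfer.hasNormalPComplement_of_normal_of_isPGroup_quotient N ?_ (h.npc N hN))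
  refine Transfer.isPGroup_quotient_of_sup_eq_top h.pgroup ?_
  rw [eq_top_iff, ← h.sup]
  exact sup_le le_sup_right ((zpowers_le.mpr hg).trans le_sup_left)

/-- Proper `g`-invariant subgroups of `Q` are centralized by `g`. -/
theorem mem_cent (h : MinNPC p q Q g) {R : Subgroup G} (hR : R < Q)
    (hg : g ∈ normalizer (R : Set G)) : g ∈ centralizer (R : Set G) := by
  have hne : R ⊔ zpowers g ≠ ⊤ := by
    intro ht
    have h1 := Core.sup_inf_of_le_left (zpowers_le.mpr hg) hR.le
    have h2 : zpowers g ⊓ Q = ⊥ := inf_eq_bot_of_coprime (h.coprime_card le_rfl)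
    rw [ht, top_inf_eq, h2, sup_bot_eq] at h1
    exact hR.ne h1.symm
  have hgH : g ∈ R ⊔ zpowers g := mem_sup_right (mem_zpowers g)
  have := Transfer.mem_centralizer_of_hasNormalPComplement (h.npc _ hne)
    (Q := R.subgroupOf (R ⊔ zpowers g)) ((h.pgroup.to_le hR.le).comap_subtype) (g := ⟨g, hgH⟩)
    (mem_normalizer_fintype fun y hy => (mem_normalizer_iff.mp hg y).mp hy)
    (by rw [← orderOf_coe]; exact h.coprime)
  rw [mem_centralizer_iff] at this ⊢
  intro y hy
  exact congrArg Subtype.val (this ⟨y, mem_sup_left hy⟩ hy)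

theorem le_center (h : MinNPC p q Q g) {R : Subgroup G} [R.Normal] (hR : R < Q) : R ≤ center G := by
  have h1 := h.eq_top_of_mem (centralizer (R : Set G))
    (h.mem_cent hR ((normalizer_eq_top R).ge (mem_top g)))
  exact centralizer_eq_top_iff_subset.mp h1

theorem not_le_center (h : MinNPC p q Q g) : ¬ Q ≤ center G := fun hc =>
  h.not_cent (mem_centralizer_iff.mpr fun y hy => (mem_center_iff.mp (hc hy) g).symm)

theorem eq_of_not_le_center (h : MinNPC p q Q g) {R : Subgroup G} [R.Normal] (hR : R ≤ Q)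
    (hc : ¬ R ≤ center G) : R = Q := by
  by_contra hne
  exact hc (h.le_center (lt_of_le_of_ne hR hne))

theorem commutator_zpowers (h : MinNPC p q Q g) : ⁅Q, zpowers g⁆ = Q := by
  haveI := h.normal
  have hn : zpowers g ≤ normalizer (Q : Set G) := by rw [normalizer_eq_top]; exact le_top
  by_contra hne
  have hlt : ⁅Q, zpowers g⁆ < Q := lt_of_le_of_ne (commutator_le_left _ _) hne
  have h1 := h.mem_cent hlt (normalizer_commutator_ge_right _ _ (mem_zpowers g))
  exact h.not_cent (Core.le_centralizer_of_commutator_le_of_centralizes (zpowers g) Q _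
    (h.coprime_card hlt.le) (zpowers_le.mpr h1) le_rfl (mem_zpowers g))

theorem commutator_lt (h : MinNPC p q Q g) : ⁅Q, Q⁆ < Q :=
  Core.commutator_lt_of_isPGroup h.pgroup h.pgroup le_normalizer h.ne_bot

theorem commutator_le_center (h : MinNPC p q Q g) : ⁅Q, Q⁆ ≤ center G := by
  haveI := h.normal
  exact h.le_center h.commutator_lt

theorem frattini_le_center (h : MinNPC p q Q g) : (frattini Q).map Q.subtype ≤ center G := by
  haveI := h.normal
  refine h.le_center (lt_of_le_of_ne (map_subtype_le _) fun he => ?_)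
  haveI : Nontrivial Q := (nontrivial_iff_ne_bot Q).mpr h.ne_bot
  have : frattini Q = ⊤ := by
    apply map_injective Q.subtype_injective
    rw [he, ← MonoidHom.range_eq_map, range_subtype]
  have h2 : (⊥ : Subgroup Q) = ⊤ := frattini_nongenerating (by rw [this]; simp)
  exact bot_ne_top h2

end MinNPC

end Cfsg.Agent.FGS
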