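import Mathlib
import Cfsg.Agent.FGS.Class2
import Cfsg.Agent.FGS.Kegel
import Cfsg.Agent.Transfer.Focal
import Cfsg.Agent.BG.AmbCore

/-!
# FGS/NilMax: nilpotent maximal invariant subgroups
-/

set_option autoImplicit false

open Subgroup
open scoped commutatorElement Pointwise

namespace Cfsg.Agent.FGS

variable {G : Type*} [Group G]

theorem solvable_of_ker_map {G' : Type*} [Group G'] (f : G →* G') {K : Subgroup G}
    (h1 : Group.IsSolvable f.ker) (h2 : Group.IsSolvable (K.map f)) : Group.IsSolvable K := by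
  have := Core.solvable_subgroupOf (K := K) h1
  refine Group.isSolvable_of_ker_le_range (f.ker.subgroupOf K).subtype (f.subgroupMap K) ?_
  intro x hx
  exact ⟨⟨x, congrArg Subtype.val hx⟩, rfl⟩

theorem hasNormalPComplement_of_wc [Finite G] {p : ℕ} [Fact p.Prime] {P K Z : Subgroup G}
    (hP : Core.IsSylowOf p P K) (hZP : Z ≤ P) (hZ : Z ≤ centralizer (P : Set G))
    (hwc : ∀ g ∈ K, (∀ z ∈ Z, g * z * g⁻¹ ∈ P) → g ∈ normalizer (Z : Set G))
    (hN : HasNormalPComplement p (K ⊓ normalizer (Z : Set G) : Subgroup G)) :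
    HasNormalPComplement p K := by
  have h1 : Z.subgroupOf K ≤ centralizer ((hP.toSylow : Subgroup K) : Set K) :=
    fun z hz y hy => Subtype.ext (hZ hz y hy)
  refine Transfer.hasNormalPComplement_of_control hP.toSylow
    (V := normalizer ((Z.subgroupOf K : Subgroup K) : Set K))
    ((le_centralizer_iff.mp h1).trans (centralizer_le_normalizer _))
    (fun x hx g hg => Transfer.control_of_isWeaklyClosed' h1 ⟨comap_mono hZP, fun k hk => ?_⟩ hx hg) ?_
  · have h2 := hwc k k.2 fun z hz => hk ⟨⟨z, hP.le (hZP hz)⟩, hz, rfl⟩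
    have h3 : k ∈ normalizer ((Z.subgroupOf K : Subgroup K) : Set K) := by
      rwa [normalizer_subgroupOf (hZP.trans hP.le)]
    exact BG.Amb.mem_normalizer_iff_conj.mp h3
  · rwa [normalizer_subgroupOf (hZP.trans hP.le), ← inf_subgroupOf_left,
      Transfer.hasNormalPComplement_subgroupOf_iff inf_le_left]

theorem solvable_of_core_free [Finite G] {K A M P : Subgroup G} [K.Normal] (hKA : K ⊔ A = ⊤)
    (hs : Group.IsSolvable A) (hcop : (Nat.card A).Coprime (Nat.card K)) (hMK : M < K)
    (hAM : A ≤ normalizer (M : Set G))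
    (hmax : ∀ H, M ≤ H → H ≤ K → A ≤ normalizer (H : Set G) → H = M ∨ H = K)
    (hnil : Group.IsNilpotent M) (hP : Core.IsSylowOf 2 P M)
    (hc2 : ∀ x ∈ P, ∀ y ∈ P, ⁅x, y⁆ ∈ centralizer (P : Set G))
    (hc : ∀ N : Subgroup G, N.Normal → N ≤ M → N = ⊥) : Group.IsSolvable K := by
  have hN : ∀ X : Subgroup G, X ≠ ⊥ → X ≤ M → M ≤ normalizer (X : Set G) →
      A ≤ normalizer (X : Set G) → K ⊓ normalizer (X : Set G) = M := by
    intro X hX hXM h hA
    refine (hmax _ (le_inf hMK.le h) inf_le_left (Core.le_normalizer_inf le_normalizer_of_normal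
      (hA.trans le_normalizer))).resolve_right fun e => hX (hc X ?_ hXM)
    exact Core.normal_of_le_normalizer (hKA ▸ sup_le (e ▸ inf_le_right) hA)
  have hsyl : ∀ (p : ℕ) [Fact p.Prime] (Q : Subgroup G), p ∣ Nat.card M → Core.IsSylowOf p Q M →
      K ⊓ normalizer (Q : Set G) = M ∧ Core.IsSylowOf p Q K := by
    intro p _ Q hd hQ
    have h1 := normalizer_le_normalizer_of_isSylowOf_nilpotent hnil hQ
    have h2 := hN Q (hQ.ne_bot hd) hQ.le (le_normalizer.trans h1) (hAM.trans h1)
    exact ⟨h2, Core.IsSylowOf.of_normalizer (by rwa [h2])⟩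
  have key : ∀ p : ℕ, p.Prime → p ∣ Nat.card M →
      ¬ p ∣ M.relIndex K ∧ ¬ p ∣ Nat.card (pResidual p K) := by
    intro p hp hd
    have := Fact.mk hp
    obtain ⟨Q, hQ⟩ := Core.exists_isSylowOf p M
    have h1 := normalizer_le_normalizer_of_isSylowOf_nilpotent hnil hQ
    obtain ⟨h2, h3⟩ := hsyl p Q hd hQ
    refine ⟨fun h => h3.not_dvd (h.trans (relIndex_dvd_of_le_left K hQ.le)),
      Transfer.hasNormalPComplement_iff_not_dvd.mp ?_⟩
    by_cases hp2 : p = 2
    swap
    · refine hasNormalPComplement_of_normalizers' hp2 h3 fun X hX hXS hn => ?_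
      rw [hN X hX (hXS.trans hQ.le) (le_normalizer.trans (h1.trans hn)) (hAM.trans (h1.trans hn))]
      exact Transfer.hasNormalPComplement_of_isNilpotent
    subst hp2
    obtain rfl := hQ.eq_of_normal hP (le_normalizer.trans h1)
    have h4 : normalizer (Q : Set G) ≤ normalizer ((Q ⊓ centralizer (Q : Set G) : Subgroup G) : Set G) :=
      Core.le_normalizer_inf le_rfl (Core.normalizer_le_normalizer_centralizer _)
    have h5 := hN _ (inf_centralizer_ne_bot_of_nilpotent hQ.isPGroup.isNilpotent (hQ.ne_bot hd))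
      (inf_le_left.trans hQ.le) (le_normalizer.trans (h1.trans h4)) (hAM.trans (h1.trans h4))
    refine hasNormalPComplement_of_wc h3 inf_le_left inf_le_right (fun g hg h => ?_)
      (by rw [h5]; exact Transfer.hasNormalPComplement_of_isNilpotent)
    refine (h5.ge ?_).2
    by_cases hMQ : M ≤ Q
    · obtain rfl := le_antisymm hMQ hQ.le
      refine mem_of_conj_center_le hQ.isPGroup (hQ.ne_bot hd) hMK.le hc2 hAM (fun a ha => ?_)
        (fun X a b c d => (hN X a b c d).le) hg h
      exact Nat.coprime_two_right.mp (Nat.Coprime.coprime_dvd_left (orderOf_dvd_card_of_mem ha)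
        (hcop.coprime_dvd_right (hd.trans (card_dvd_of_le hMK.le))))
    · obtain ⟨r, hr, hrd, hr2⟩ : ∃ r : ℕ, r.Prime ∧ r ∣ Nat.card M ∧ r ≠ 2 := by
        by_contra hh
        push Not at hh
        exact hMQ (hQ.eq_of_le (isPGroup_iff_forall_prime.mpr hh) le_rfl hQ.le).ge
      have := Fact.mk hr
      obtain ⟨R, hR⟩ := Core.exists_isSylowOf r M
      obtain ⟨h6, h7⟩ := hsyl r R hrd hR
      have h8 : R ≤ centralizer (Q : Set G) :=
        BG.Amb.nil_le_cent_of_coprime hnil hR.le hQ.le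
          (IsPGroup.coprime_card_of_ne r 2 hr2 _ _ hR.isPGroup hQ.isPGroup)
      have h9 : MulAut.conj g⁻¹ • R ≤ M := by
        refine Core.conj_smul_le_iff.mpr fun x hx => h5.le ⟨K.mul_mem (K.mul_mem (K.inv_mem hg)
          (h7.le hx)) (K.inv_mem (K.inv_mem hg)), centralizer_le_normalizer _ fun z hz => ?_⟩
        calc z * (g⁻¹ * x * g⁻¹⁻¹) = g⁻¹ * (g * z * g⁻¹ * x) * g := by group
          _ = _ := by rw [h8 hx _ (h z hz)]; group
      have h10 := hR.le_of_le_normalizer' (hR.conj g⁻¹).isPGroup h9 (h9.trans (h6.ge.trans inf_le_right))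
      exact inv_mem_iff.mp (h6.le ⟨K.inv_mem hg, mem_normalizer_fintype (Core.conj_smul_le_iff.mp h10)⟩)
  let L : Subgroup G := ⨅ p : {p : ℕ // p.Prime ∧ p ∣ Nat.card M}, (pResidual p K).map K.subtype
  have hLn : (K ⊓ L).Normal := by
    have : L.Normal := normal_iInf_normal fun p => inferInstance
    infer_instance
  have hcop1 : (Nat.card M).Coprime (Nat.card (K ⊓ L : Subgroup G)) :=
    Nat.coprime_of_dvd fun p hp h1 h2 => (key p hp h1).2 (by
      rw [← Core.card_map_subtype]
      exact h2.trans (card_dvd_of_le (inf_le_right.trans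
        (iInf_le _ (⟨p, hp, h1⟩ : {p : ℕ // p.Prime ∧ p ∣ Nat.card M})))))
  obtain ⟨q, hq, hqi⟩ := Nat.exists_prime_and_dvd (mt relIndex_eq_one.mp (not_le_of_gt hMK))
  have := Fact.mk hq
  have hqM : ¬ q ∣ Nat.card M := fun h => (key q hq h).1 hqi
  obtain ⟨y, hyK, hy⟩ := exists_prime_orderOf_mem hq (hqi.trans (relIndex_dvd_card M K))
  have hyL : y ∈ L := mem_iInf.mpr fun p => ⟨⟨y, hyK⟩, Transfer.mem_pResidual_of_coprime (by
    rw [orderOf_mk, hy]
    exact (Nat.coprime_primes hq p.2.1).mpr fun h => hqM (h ▸ p.2.2)), rfl⟩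
  obtain ⟨Q, hQ, hMQ⟩ := Core.exists_invariant_isSylowOf (M ⊔ A) (K ⊓ L) le_normalizer_of_normal
    (((hcop1.mul_left (hcop.coprime_dvd_right (card_dvd_of_le inf_le_left)))).coprime_dvd_left
      (Core.card_sup_dvd hAM)) (Or.inl (BG.Amb.solvable_sup inferInstance hs hAM)) q
  have hQne : Q ≠ ⊥ := hQ.ne_bot (hy ▸ orderOf_dvd_card_of_mem (mem_inf.mpr ⟨hyK, hyL⟩))
  have h1 : Q ⊔ M = K := (hmax _ le_sup_right (sup_le (hQ.le.trans inf_le_left) hMK.le)
    (Core.le_normalizer_sup (le_sup_right.trans hMQ) hAM)).resolve_left fun h => hqM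
    ((Core.prime_dvd_card_of_isPGroup hQ.isPGroup hQne).trans (card_dvd_of_le (h ▸ le_sup_left)))
  exact h1 ▸ BG.Amb.solvable_sup (Core.solvable_of_isPGroup hQ.isPGroup) inferInstance
    (le_sup_left.trans hMQ)

/-- A group with a nilpotent maximal `A`-invariant subgroup whose Sylow `2`-subgroup has class
at most two is solvable (`A` solvable acting coprimely). -/
theorem solvable_of_nilpotent_max [Finite G] {K A M P : Subgroup G} [K.Normal] (hKA : K ⊔ A = ⊤)
    (hs : Group.IsSolvable A) (hcop : (Nat.card A).Coprime (Nat.card K)) (hMK : M < K)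
    (hAM : A ≤ normalizer (M : Set G))
    (hmax : ∀ H, M ≤ H → H ≤ K → A ≤ normalizer (H : Set G) → H = M ∨ H = K)
    (hnil : Group.IsNilpotent M) (hP : Core.IsSylowOf 2 P M)
    (hc2 : ∀ x ∈ P, ∀ y ∈ P, ⁅x, y⁆ ∈ centralizer (P : Set G)) : Group.IsSolvable K := by
  have hsu := QuotientGroup.mk'_surjective M.normalCore
  set f := QuotientGroup.mk' M.normalCore
  have hk : f.ker ≤ M := by
    rw [QuotientGroup.ker_mk']; exact normalCore_le M
  have := Normal.map ‹K.Normal› f hsu
  have h1 : Group.IsSolvable (K.map f) := by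
    refine solvable_of_core_free (A := A.map f) (M := M.map f) (P := P.map f)
      (by rw [← Subgroup.map_sup, hKA, map_top_of_surjective f hsu]) (Core.solvable_map hs f)
      ((hcop.coprime_dvd_left (card_map_dvd _ _)).coprime_dvd_right (card_map_dvd _ _))
      (lt_of_le_of_ne (map_mono hMK.le) fun h => not_le_of_gt hMK (by
        have := h.ge
        rwa [Subgroup.map_le_map_iff, sup_eq_left.mpr hk] at this))
      (Core.map_le_normalizer_map hAM f) (fun H h1 h2 h3 => ?_) (Core.nilpotent_map hnil _) (hP.map f)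
      ?_ fun N hN hle => ?_
    · rw [← map_comap_eq_self_of_surjective hsu H]
      refine (hmax (H.comap f) (map_le_iff_le_comap.mp h1) ((comap_mono h2).trans
        (comap_map_eq_self (hk.trans hMK.le)).le) fun a ha => ?_).imp (congrArg _) (congrArg _)
      refine mem_normalizer_fintype fun x hx => ?_
      have := PGrp.conj_mem_of_mem_normalizer (h3 ⟨a, ha, rfl⟩) hx
      simpa using this
    · rintro _ ⟨x, hx, rfl⟩ _ ⟨y, hy, rfl⟩ _ ⟨z, hz, rfl⟩
      rw [← map_commutatorElement, ← map_mul, hc2 x hx y hy z hz, map_mul]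
    · rw [← map_comap_eq_self_of_surjective hsu N, Subgroup.map_eq_bot_iff, QuotientGroup.ker_mk',
        normal_le_normalCore]
      exact (comap_mono hle).trans (comap_map_eq_self hk).le
  exact solvable_of_ker_map f (Core.solvable_of_le hk inferInstance) h1

theorem commutator_mem_centralizer_of_class {P : Subgroup G} [Group.IsNilpotent P]
    (h : Group.nilpotencyClass P ≤ 2) : ∀ x ∈ P, ∀ y ∈ P, ⁅x, y⁆ ∈ centralizer (P : Set G) := by
  intro x hx y hy z hz
  have h1 : (⟨x, hx⟩ : P) ∈ Subgroup.upperCentralSeries P 2 := by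
    rw [Subgroup.upperCentralSeries_eq_top_iff_nilpotencyClass_le.mpr h]; exact mem_top _
  have h2 := Subgroup.mem_upperCentralSeries_succ_iff.mp h1 ⟨y, hy⟩
  rw [Subgroup.upperCentralSeries_one] at h2
  exact congrArg Subtype.val (mem_center_iff.mp h2 ⟨z, hz⟩)

end Cfsg.Agent.FGS
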