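import Mathlib
import Cfsg.Prelude.Def_LocalStructure
import Cfsg.Agent.FGS.Basic2
import Cfsg.Agent.Perm.ZassField
import Cfsg.Agent.Core.MinNormal
import Cfsg.Agent.PGrp.Aut

/-! Irreducible automorphisms of prime order, and `p`-closed groups. -/

set_option autoImplicit false

namespace Cfsg.Agent.FGS

open Subgroup Cfsg Cfsg.Agent Polynomial

theorem card_field_of_irred {F : Type*} [Field F] [Fintype F] {p q : ℕ} [hp : Fact p.Prime]
    (hq : q.Prime) (hqF : (q : F) = 0) {l : F} (hl : orderOf l = p)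
    (hirr : ∀ X : AddSubgroup F, (∀ v ∈ X, l * v ∈ X) → X = ⊥ ∨ X = ⊤) :
    Fintype.card F = q ^ orderOf (q : ZMod p) := by
  classical
  haveI : Fact q.Prime := ⟨hq⟩
  haveI : CharP F q := (CharP.charP_iff_prime_eq_zero hq).mpr hqF
  obtain ⟨n, -, hn⟩ := FiniteField.card F q
  have hl0 : l ≠ 0 := by
    rintro rfl
    have := pow_orderOf_eq_one (0 : F)
    rw [hl, zero_pow hp.out.ne_zero] at this
    exact zero_ne_one this
  have h1 : p ∣ q ^ (n : ℕ) - 1 := by
    rw [← hn, ← hl]
    exact orderOf_dvd_of_pow_eq_one (FiniteField.pow_card_sub_one_eq_one l hl0)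
  have h2 : (q : ZMod p) ^ (n : ℕ) = 1 := by
    have := (ZMod.natCast_eq_zero_iff _ p).mpr h1
    rw [Nat.cast_sub (Nat.one_le_pow _ _ hq.pos)] at this
    push_cast at this
    exact sub_eq_zero.mp this
  have h3 : orderOf (q : ZMod p) ∣ n := orderOf_dvd_of_pow_eq_one h2
  set e := orderOf (q : ZMod p) with he
  have he0 : e ≠ 0 := fun h => n.ne_zero (Nat.eq_zero_of_zero_dvd (h ▸ h3))
  have h4 : l ^ q ^ e = l := by
    have : q ^ e ≡ 1 [MOD orderOf l] := by
      rw [hl, ← ZMod.natCast_eq_natCast_iff]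
      push_cast
      exact pow_orderOf_eq_one _
    conv_rhs => rw [← pow_one l]
    rw [← pow_mod_orderOf, this, pow_mod_orderOf]
  let X' : AddSubgroup F :=
    { carrier := {y | y ^ q ^ e = y}
      zero_mem' := zero_pow (pow_ne_zero _ hq.ne_zero)
      add_mem' := fun {a b} ha hb => by
        rw [Set.mem_ofPred_eq] at *
        rw [add_pow_char_pow, ha, hb]
      neg_mem' := fun {a} ha => by
        rw [Set.mem_ofPred_eq] at *
        rw [neg_pow, neg_one_pow_char_pow, ha, neg_one_mul] }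
  have h5 : X' = ⊤ := by
    refine (hirr X' fun v hv => ?_).resolve_left fun h => ?_
    · change (l * v) ^ q ^ e = l * v
      rw [mul_pow, h4, show v ^ q ^ e = v from hv]
    · exact one_ne_zero (h.le (show (1 : F) ∈ X' from one_pow _))
  have h6 : Fintype.card F ≤ q ^ e := by
    have hlt : 1 < q ^ e := Nat.one_lt_pow he0 hq.one_lt
    have := card_le_degree_of_subset_roots (p := (X ^ q ^ e - X : F[X])) (Z := Finset.univ) (by
      intro y _
      rw [mem_roots (FiniteField.X_pow_card_sub_X_ne_zero F hlt)]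
      have : y ^ q ^ e = y := h5.ge (AddSubgroup.mem_top y)
      simp [this])
    rwa [FiniteField.X_pow_card_sub_X_natDegree_eq F hlt] at this
  rw [hn] at h6 ⊢
  rw [le_antisymm ((Nat.pow_le_pow_iff_right hq.one_lt).mp h6) (Nat.le_of_dvd n.pos h3)]

variable {G : Type*} [Group G] [Finite G] {p : ℕ} [hp : Fact p.Prime]

open scoped IsMulCommutative in
theorem card_of_irred {q : ℕ} (hq : q.Prime) {A : Subgroup G} (hA : IsElementaryAbelian q A) {x : G}
    (hx : x ∈ normalizer (A : Set G)) (hxp : x ^ p ∈ centralizer (A : Set G))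
    (hc : x ∉ centralizer (A : Set G))
    (hirr : ∀ B : Subgroup G, B ≤ A → (∀ b ∈ B, x * b * x⁻¹ ∈ B) → B = ⊥ ∨ B = A) :
    Nat.card A = q ^ orderOf (q : ZMod p) := by
  haveI := hA.1
  have hN : zpowers x ≤ normalizer (A : Set G) := zpowers_le.mpr hx
  let σ : MulAut A := PGrp.actHom hN ⟨x, mem_zpowers x⟩
  have hσ : ∀ a : A, (σ a : G) = x * a * x⁻¹ := fun a => rfl
  have hσ1 : σ ≠ 1 := fun h => hc ((PGrp.actHom_eq_one_iff hN).mp h)
  have hσp : σ ^ p = 1 := by
    rw [← map_pow]; exact (PGrp.actHom_eq_one_iff hN).mpr hxp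
  let s : AddMonoid.End (Additive A) := MonoidHom.toAdditive σ.toMonoidHom
  haveI : Finite (AddMonoid.End (Additive A)) :=
    Finite.of_injective _ (DFunLike.coe_injective (F := Additive A →+ Additive A))
  obtain ⟨v₀, h0⟩ : ∃ v : A, σ v ≠ v := by
    by_contra! h
    exact hσ1 (MulEquiv.ext h)
  have h0' : Additive.ofMul v₀ ≠ 0 := fun h => h0 (by
    rw [show v₀ = 1 from h, map_one])
  have hirr' : ∀ X : AddSubgroup (Additive A), (∀ v ∈ X, s v ∈ X) → X = ⊥ ∨ X = ⊤ := by
    intro X hX
    rcases hirr ((AddSubgroup.toSubgroup' X).map A.subtype) (map_subtype_le _) (by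
      rintro _ ⟨b, hb, rfl⟩
      exact ⟨σ b, hX _ hb, rfl⟩) with h | h
    · left
      rw [eq_bot_iff]
      intro v hv
      have : (v.toMul : G) = 1 := h.le ⟨v.toMul, hv, rfl⟩
      exact (show v.toMul = 1 from Subtype.ext this)
    · right
      rw [eq_top_iff]
      intro v _
      obtain ⟨w, hw, hwv⟩ := h.ge v.toMul.2
      have : w = v.toMul := Subtype.ext hwv
      subst this
      exact hw
  obtain ⟨F, _, _, e, he, he1⟩ := Perm.exists_field_of_irreducible (R := AddMonoid.End (Additive A))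
    (V := Additive A) {s} (by simp) (fun X hX => hirr' X fun v hv => hX s rfl v hv) h0'
  obtain ⟨l, hl⟩ := he s rfl
  have hl' : ∀ y, s (e y) = e (l * y) := hl
  have hpow : ∀ (n : ℕ) (y : F), Additive.ofMul ((σ ^ n) (e y).toMul) = e (l ^ n * y) := by
    intro n
    induction n with
    | zero => simp
    | succ n ih =>
      intro y
      rw [pow_succ', pow_succ', mul_assoc, ← hl', ← ih]
      rfl
  have hlp : orderOf l = p := by
    refine orderOf_eq_prime ?_ ?_
    · have := hpow p 1
      rw [hσp, mul_one] at this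
      exact (e.injective this).symm
    · rintro rfl
      have := hl' 1
      rw [one_mul, he1] at this
      exact h0 this
  have hqF : (q : F) = 0 := by
    apply e.injective
    rw [← nsmul_one, map_nsmul, map_zero, he1]
    exact Subtype.ext (hA.2 _ v₀.2)
  rw [← card_field_of_irred hq hqF hlp, ← Nat.card_eq_fintype_card, Nat.card_congr e.toEquiv]
  · rfl
  · intro X hX
    rcases hirr' (X.map e.toAddMonoidHom) (by
      rintro _ ⟨v, hv, rfl⟩
      exact ⟨l * v, hX v hv, (hl' v).symm⟩) with h | h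
    · left
      exact (AddSubgroup.map_eq_bot_iff_of_injective _ e.injective).mp h
    · right
      rw [eq_top_iff]
      intro v _
      obtain ⟨w, hw, hwv⟩ := h.ge (AddSubgroup.mem_top (e v))
      rwa [← e.injective hwv]

theorem isPClosed_of_isPGroup (h : IsPGroup p G) : IsPClosed p G := fun P => by
  rw [P.is_maximal' (h.to_subgroup ⊤) le_top |>.symm]; infer_instance

theorem isPClosed_of_not_dvd (h : ¬ p ∣ Nat.card G) : IsPClosed p G := fun P => by
  have : (P : Subgroup G) = ⊥ := by
    by_contra hne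
    exact h ((Core.prime_dvd_card_of_isPGroup P.isPGroup' hne).trans (card_subgroup_dvd_card _))
  rw [this]; infer_instance

theorem isPClosed_of_normal (P : Sylow p G) (h : (P : Subgroup G).Normal) : IsPClosed p G :=
  fun Q => by
    haveI := Sylow.unique_of_normal P h
    rwa [Subsingleton.elim Q P]

theorem isPClosed_of_quotient (N : Subgroup G) [N.Normal] (hN : IsPGroup p N)
    (h : IsPClosed p (G ⧸ N)) : IsPClosed p G := fun P => by
  have hs := QuotientGroup.mk'_surjective N
  have h1 := (h (P.mapSurjective hs)).comap (QuotientGroup.mk' N)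
  rw [Sylow.coe_mapSurjective, comap_map_eq, QuotientGroup.ker_mk',
    sup_eq_left.mpr (hN.le_sylow_of_normal P)] at h1
  exact h1

/-- In a `p`-closed group a `p`-element centralizes each `p'`-subgroup that it normalizes. -/
theorem mem_centralizer_of_isPClosed {Q : Subgroup G} {x : G} {k : ℕ} (hx : orderOf x = p ^ k)
    (hQ : ¬ p ∣ Nat.card Q) (hn : x ∈ normalizer (Q : Set G))
    (h : IsPClosed p ↥(Q ⊔ zpowers x)) : x ∈ centralizer (Q : Set G) := by
  have hxH : x ∈ Q ⊔ zpowers x := mem_sup_right (mem_zpowers x)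
  obtain ⟨P, hP⟩ := exists_sylow_mem (x := (⟨x, hxH⟩ : ↥(Q ⊔ zpowers x))) (p := p) (k := k)
    (by rw [← orderOf_coe]; exact hx)
  rw [mem_centralizer_iff]
  intro y hy
  have h1 := mul_mem ((h P).conj_mem _ hP ⟨y, mem_sup_left hy⟩) (inv_mem hP)
  obtain ⟨j, hj⟩ := exists_orderOf_eq_of_mem P.isPGroup' h1
  rw [← orderOf_coe] at hj
  have h2 : y * x * y⁻¹ * x⁻¹ ∈ Q := by
    have := mul_mem hy ((mem_normalizer_iff.mp hn _).mp (inv_mem hy))
    simpa only [mul_assoc] using this
  have h3 := orderOf_dvd_natCard (⟨_, h2⟩ : Q)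
  rw [← orderOf_coe] at h3
  change orderOf (y * x * y⁻¹ * x⁻¹) = _ at hj
  change orderOf (y * x * y⁻¹ * x⁻¹) ∣ _ at h3
  rw [hj] at h3
  have : j = 0 := by
    by_contra hj0
    exact hQ ((dvd_pow_self p hj0).trans h3)
  rw [this, pow_zero, orderOf_eq_one_iff] at hj
  rwa [mul_inv_eq_one, mul_inv_eq_iff_eq_mul] at hj

end Cfsg.Agent.FGS
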