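import Mathlib
import Cfsg.Prelude.Def_HallClasses
import Cfsg.Agent.FGS.Basic2
import Cfsg.Agent.FGS.Sylow
import Cfsg.Agent.Core.SylowOf
import Cfsg.Agent.Core.Hall
import Cfsg.Agent.H2.Subnormal

set_option autoImplicit false

namespace Cfsg.Agent.FGS

open Subgroup
open scoped Pointwise

variable {G : Type*} [Group G]

/-- pronormality relative to a subgroup -/
def PN (L H : Subgroup G) : Prop :=
  ∀ g ∈ L, ∃ x ∈ H ⊔ MulAut.conj g • H, MulAut.conj g • H = MulAut.conj x • H

/-- all subgroups of `p'`-index in `L` are pronormal in `L` -/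
def YP (p : ℕ) (L : Subgroup G) : Prop := ∀ K ≤ L, ¬ p ∣ K.relIndex L → PN L K

theorem PN.map {X : Type*} [Group X] (f : X →* G) {H : Subgroup X} (h : PN ⊤ H) : PN f.range (H.map f) := by
  rintro _ ⟨g, rfl⟩
  obtain ⟨x, hx, e⟩ := h g (mem_top g)
  refine ⟨f x, ?_, by rw [← Core.map_conj_smul, ← Core.map_conj_smul, e]⟩
  rw [← Core.map_conj_smul, ← Subgroup.map_sup]
  exact mem_map_of_mem f hx

theorem PN.of_map {X : Type*} [Group X] (f : X →* G) {H : Subgroup X} (hk : f.ker ≤ H)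
    (h : PN f.range (H.map f)) : PN ⊤ H := by
  intro g _
  obtain ⟨x, hx, e⟩ := h (f g) ⟨g, rfl⟩
  rw [← Core.map_conj_smul, ← Subgroup.map_sup] at hx
  obtain ⟨x, hx, rfl⟩ := hx
  rw [← Core.map_conj_smul, ← Core.map_conj_smul] at e
  have : ∀ y : X, f.ker ≤ MulAut.conj y • H := fun y k hk' =>
    H2.mem_conj_smul.mpr (hk (Normal.conj_mem' inferInstance k hk' y))
  exact ⟨x, hx, map_injective_of_ker_le f (this g) (this x) e⟩

theorem yp_top_iff [Finite G] {p : ℕ} [Fact p.Prime] : YP p (⊤ : Subgroup G) ↔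
    ∀ K : Subgroup G, (∃ P : Sylow p G, (P : Subgroup G) ≤ K) → Cfsg.IsPronormal K := by
  refine ⟨fun h K ⟨P, hP⟩ g => h K le_top ?_ g (mem_top g), fun h K _ hK g _ => h K ?_ g⟩
  · rw [relIndex_top_right]; exact not_dvd_index_of_sylow_le P hP
  · rw [relIndex_top_right] at hK; exact exists_sylow_le_of_not_dvd_index hK

theorem yp_range_iff {X : Type*} [Group X] [Finite X] {p : ℕ} [Fact p.Prime] (f : X →* G)
    (hf : IsPGroup p f.ker) : YP p f.range ↔ YP p (⊤ : Subgroup X) := by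
  refine ⟨fun h K _ hK => ?_, fun h K hK hp => ?_⟩
  · rw [relIndex_top_right] at hK
    obtain ⟨P, hP⟩ := exists_sylow_le_of_not_dvd_index hK
    have hk : f.ker ≤ K := (hf.le_sylow_of_normal P).trans hP
    refine PN.of_map f hk (h _ (map_le_range f K) ?_)
    rwa [← index_comap, comap_map_eq_self hk]
  · have := (h (K.comap f) le_top (by rwa [relIndex_top_right, index_comap])).map f
    rwa [map_comap_eq_self hK] at this

theorem PN.conj {H : Subgroup G} (h : PN ⊤ H) (a : G) : PN ⊤ (MulAut.conj a • H) := by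
  have := h.map (MulAut.conj a).toMonoidHom
  rwa [MonoidHom.range_eq_top.mpr (MulAut.conj a).surjective] at this

theorem pn_normal [Finite G] {p : ℕ} [Fact p.Prime] {A T H : Subgroup G} [A.Normal] (hA : YP p A)
    (hT : Core.IsSylowOf p T A) (hN : YP p (normalizer (T : Set G))) (hH : ¬ p ∣ H.index) (hTH : T ≤ H) :
    PN A H := by
  intro a ha
  have hTB : Core.IsSylowOf p T (H ⊓ A) := hT.of_le (le_inf hTH hT.le) inf_le_right
  have hHB : H ≤ normalizer ((H ⊓ A : Subgroup G) : Set G) :=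
    Core.le_normalizer_inf le_normalizer (le_top.trans (normalizer_eq_top A).ge)
  have hF := hTB.frattini inf_le_left hHB
  obtain ⟨x, hx, e⟩ := hA _ inf_le_right (fun h => hT.not_dvd (h.trans (relIndex_dvd_of_le_left A hTB.le))) a ha
  obtain ⟨b, hb, e'⟩ := (e ▸ hTB.conj x).exists_conj_eq (hTB.conj a)
  generalize H ⊓ A = B at *
  set L := H ⊔ MulAut.conj a • H
  have hBH : B ≤ H := le_sup_left.trans hF.le
  have hx' : b * x ∈ L := mul_mem (mem_sup_right (H2.conj_smul_mono a hBH hb))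
    (sup_le_sup hBH (H2.conj_smul_mono a hBH) hx)
  have hu1 : (b * x)⁻¹ * a ∈ normalizer (T : Set G) := by
    rw [H2.mem_normalizer_iff_conj_smul, map_mul, mul_smul, ← e', H2.conj_smul_conj_smul b, map_inv, inv_smul_smul]
  have hu2 : MulAut.conj ((b * x)⁻¹ * a) • B = B := by
    rw [map_mul, mul_smul, ← H2.mem_normalizer_iff_conj_smul.mp (le_normalizer hb), e,
      H2.conj_smul_conj_smul b, map_inv, inv_smul_smul]
  obtain ⟨S, hS1, hS2⟩ := exists_sylow_le_of_not_dvd_index' hH hT.isPGroup hTH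
  have hS3 : (S : Subgroup G) ≤ normalizer (T : Set G) := by
    rw [hT.eq_of_le (S.isPGroup'.to_le (inf_le_left : _ ⊓ A ≤ _)) inf_le_right (le_inf hS1 hT.le)]
    exact Core.le_normalizer_inf le_normalizer (le_top.trans (normalizer_eq_top A).ge)
  obtain ⟨z, hz, e''⟩ := hN (H ⊓ normalizer (T : Set G)) inf_le_right (fun h =>
    (Core.isSylowOf_sylow_of_le S hS3).not_dvd (h.trans (relIndex_dvd_of_le_left _ (le_inf hS2 hS3)))) _ hu1
  have hz1 : z ∈ normalizer (B : Set G) := by
    refine sup_le (inf_le_left.trans hHB) ?_ hz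
    rw [← hu2, H2.normalizer_conj_smul]
    exact H2.conj_smul_mono _ (inf_le_left.trans hHB)
  have hz2 : z ∈ L := by
    refine (sup_le (inf_le_left.trans le_sup_left) ?_ : _ ≤ L) hz
    rw [← H2.conj_smul_conj_smul]
    exact H2.conj_smul_le_of_mem ((H2.conj_smul_mono a inf_le_left).trans le_sup_right) (inv_mem hx')
  refine ⟨b * x * z, mul_mem hx' hz2, ?_⟩
  rw [← H2.conj_smul_conj_smul, ← inv_smul_eq_iff, ← map_inv, H2.conj_smul_conj_smul, ← hF, smul_sup, smul_sup,
    hu2, e'', H2.mem_normalizer_iff_conj_smul.mp hz1]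

theorem yp_iff [Finite G] {p : ℕ} [Fact p.Prime] {A T : Subgroup G} [A.Normal] (hA : YP p A)
    (hQ : YP p (⊤ : Subgroup (G ⧸ A))) (hT : Core.IsSylowOf p T A) :
    YP p (⊤ : Subgroup G) ↔ YP p (normalizer (T : Set G)) ∧
      ∀ K : Subgroup G, (∃ P : Sylow p G, (P : Subgroup G) ≤ K) →
        (normalizer (K : Set G)).map (QuotientGroup.mk' A) =
          normalizer ((K.map (QuotientGroup.mk' A) : Subgroup (G ⧸ A)) : Set (G ⧸ A)) := by
  have hAn : ∀ L : Subgroup G, L ≤ normalizer (A : Set G) := fun L => le_top.trans (normalizer_eq_top A).ge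
  refine ⟨fun h => ⟨fun K hK hp g _ => h K le_top ?_ g (mem_top g), fun K ⟨P, hP⟩ => le_antisymm
    (Core.map_le_normalizer_map le_rfl _) fun g hg => ?_⟩, fun ⟨h1, h2⟩ H _ hH => ?_⟩
  · rw [relIndex_top_right, ← relIndex_mul_index hK, (Fact.out : p.Prime).dvd_mul, not_or]
    obtain ⟨S, hS⟩ := hT.isPGroup.exists_le_sylow
    refine ⟨hp, not_dvd_index_of_sylow_le S ?_⟩
    rw [hT.eq_of_le (S.isPGroup'.to_le (inf_le_left : _ ⊓ A ≤ _)) inf_le_right (le_inf hS hT.le)]
    exact Core.le_normalizer_inf le_normalizer (hAn _)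
  · obtain ⟨g, rfl⟩ := QuotientGroup.mk'_surjective A g
    obtain ⟨x, hx, e⟩ := h K le_top (by rw [relIndex_top_right]; exact not_dvd_index_of_sylow_le P hP) g
      (mem_top g)
    have h3 := mem_map_of_mem (QuotientGroup.mk' A) hx
    rw [Subgroup.map_sup, Core.map_conj_smul, H2.mem_normalizer_iff_conj_smul.mp hg, sup_idem] at h3
    have h4 : x⁻¹ * g ∈ normalizer (K : Set G) := by
      rw [H2.mem_normalizer_iff_conj_smul, map_mul, mul_smul, e, map_inv, inv_smul_smul]
    rw [← mul_inv_cancel_left x g, map_mul]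
    exact mul_mem (map_mono le_normalizer h3) (mem_map_of_mem _ h4)
  · rw [relIndex_top_right] at hH
    wlog hTH : T ≤ H generalizing H
    · obtain ⟨S, hS⟩ := exists_sylow_le_of_not_dvd_index hH
      obtain ⟨a, -, ha⟩ := (Core.isSylowOf_sylow_inf_normal S A).exists_conj_eq hT
      have := (this (MulAut.conj a • H) le_top (by
        rwa [← relIndex_top_right, ← H2.conj_smul_top a, Core.relIndex_conj_smul, relIndex_top_right])
        (ha ▸ H2.conj_smul_mono a (inf_le_left.trans hS))).conj a⁻¹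
      rwa [map_inv, inv_smul_smul] at this
    intro g _
    obtain ⟨x, hx, e⟩ := hQ (H.map (QuotientGroup.mk' A)) le_top (fun h => hH (by
      rw [relIndex_top_right] at h
      exact h.trans (index_map_dvd H (QuotientGroup.mk'_surjective A)))) (QuotientGroup.mk' A g) (mem_top _)
    rw [← Core.map_conj_smul, ← Subgroup.map_sup] at hx
    obtain ⟨x, hx, rfl⟩ := hx
    have h3 : QuotientGroup.mk' A (x⁻¹ * g) ∈ (normalizer (H : Set G)).map (QuotientGroup.mk' A) := by
      rw [h2 H (exists_sylow_le_of_not_dvd_index hH), H2.mem_normalizer_iff_conj_smul, map_mul, map_mul, mul_smul,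
        e, map_inv, map_inv, inv_smul_smul]
    obtain ⟨n, hn, e'⟩ := h3
    have h4 : x⁻¹ * g * n⁻¹ ∈ A := by
      rw [← QuotientGroup.eq_one_iff, QuotientGroup.mk_mul, QuotientGroup.mk_inv, mul_inv_eq_one]
      exact e'.symm
    obtain ⟨y, hy, e''⟩ := pn_normal hA hT h1 hH hTH _ h4
    have h5 : MulAut.conj (x⁻¹ * g * n⁻¹) • H = MulAut.conj x⁻¹ • MulAut.conj g • H := by
      rw [← H2.conj_smul_conj_smul, H2.mem_normalizer_iff_conj_smul.mp (inv_mem hn), H2.conj_smul_conj_smul]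
    rw [h5] at hy e''
    refine ⟨x * y, mul_mem hx ((sup_le le_sup_left (H2.conj_smul_le_of_mem le_sup_right (inv_mem hx)) :
      _ ≤ H ⊔ MulAut.conj g • H) hy), ?_⟩
    rw [← H2.conj_smul_conj_smul, ← e'', map_inv, smul_inv_smul]

theorem yp_subtype_iff [Finite G] {p : ℕ} [Fact p.Prime] (A : Subgroup G) : YP p A ↔
    ∀ K : Subgroup A, (∃ P : Sylow p A, (P : Subgroup A) ≤ K) → Cfsg.IsPronormal K := by
  rw [← yp_top_iff, ← yp_range_iff A.subtype (by rw [ker_subtype]; exact IsPGroup.of_bot), range_subtype]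

theorem yp_quot_iff [Finite G] {p : ℕ} [Fact p.Prime] (A : Subgroup G) (N : Subgroup A) [N.Normal]
    (hN : IsPGroup p N) : YP p A ↔ ∀ K : Subgroup (A ⧸ N), (∃ P : Sylow p (A ⧸ N), (P : Subgroup (A ⧸ N)) ≤ K) →
      Cfsg.IsPronormal K := by
  rw [yp_subtype_iff, ← yp_top_iff, ← yp_top_iff, ← yp_range_iff (QuotientGroup.mk' N)
    (by rwa [QuotientGroup.ker_mk']), QuotientGroup.range_mk']

end Cfsg.Agent.FGS
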