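import Mathlib
import Cfsg.Agent.GsC.Known
import Cfsg.Agent.S4F.Main

set_option autoImplicit false

namespace Cfsg.Agent.FGS

theorem gold_s4 {G : Type*} [Group G] [Finite G] [IsSimpleGroup G] (hn : ¬ IsMulCommutative G)
    (h : ¬ Cfsg.Involves (Equiv.Perm (Fin 4)) G) : Gs.Gold G := S4F.gold hn h

end Cfsg.Agent.FGS
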