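import Mathlib
import Cfsg.Agent.FGS.MinNPC
import Cfsg.Agent.FGS.EqOrd
import Cfsg.Agent.FGS.Comm
import Cfsg.Agent.PGrp.IndexP
import Cfsg.Agent.PGrp.Basic
import Cfsg.Agent.Core.PConstrained
import Cfsg.Agent.Core.CoprimeGen
import Cfsg.Agent.Transfer.Frobenius
import Cfsg.Agent.H2.Subnormal
import Cfsg.Agent.FGS.Camina

set_option autoImplicit false

namespace Cfsg.Agent.FGS

open Subgroup
open scoped commutatorElement Pointwise

/-- properties of the normal Sylow subgroup of a minimal non-nilpotent group -/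
structure SP (p : ℕ) (T : Type*) [Group T] : Prop where
  comm : ∀ x y : T, ⁅x, y⁆ ∈ center T
  pow : ∀ x : T, x ^ p ∈ center T
  card : ∀ v : T, v ∉ center T → ∀ B : Subgroup T, B.index = p → v ∈ centralizer (B : Set T) →
    Nat.card (center T) = p
  npp : ¬ IsMulCommutative T → ∀ B : Subgroup T, B.index = p → IsMulCommutative B → (∀ x ∈ B, x ^ p = 1) →
    Nat.card (center T) = p → ¬ IsPrimePow (p + 1)

theorem SP.congr {p : ℕ} {T T' : Type*} [Group T] [Group T'] (h : SP p T) (e : T' ≃* T) : SP p T' := by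
  have hc : ∀ x : T', x ∈ center T' ↔ e x ∈ center T := fun x => by
    rw [mem_center_iff, mem_center_iff, e.surjective.forall]
    exact forall_congr' fun g => by rw [← map_mul, ← map_mul, e.apply_eq_iff_eq]
  have hc' : Nat.card (center T') = Nat.card (center T) := Nat.card_congr (e.toEquiv.subtypeEquiv hc)
  refine ⟨fun x y => (hc _).mpr (map_commutatorElement e x y ▸ h.comm _ _),
    fun x => (hc _).mpr (map_pow e x p ▸ h.pow _), fun v hv B hB hvB => hc' ▸ h.card (e v) (mt (hc v).mpr hv)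
      (B.map e.toMonoidHom) ((index_map_equiv B e).trans hB) ?_,
    fun h1 B hB h2 h3 h4 => h.npp (fun h5 => h1 ⟨⟨fun a b => e.injective ?_⟩⟩) (B.map e.toMonoidHom)
      ((index_map_equiv B e).trans hB) inferInstance ?_ (hc' ▸ h4)⟩
  · rintro _ ⟨b, hb, rfl⟩
    exact (map_mul e _ _).symm.trans ((congrArg e (hvB b hb)).trans (map_mul e _ _))
  · rw [map_mul, map_mul, h5.is_comm.comm]
  · rintro _ ⟨b, hb, rfl⟩
    exact (map_pow e b p).symm.trans ((congrArg e (h3 b hb)).trans (map_one e))

variable {G : Type*} [Group G] [Finite G] {p : ℕ} [hp : Fact p.Prime]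

theorem MinNPC.sp {q : ℕ} {Q : Subgroup G} {g : G} (h : MinNPC p q Q g) : SP p Q := by
  haveI := h.normal
  haveI := Fact.mk h.prime
  have hZ : ∀ x : Q, (x : G) ∈ center G → x ∈ center Q := fun x hx =>
    mem_center_iff.mpr fun y => Subtype.ext (mem_center_iff.mp hx y)
  have hcm : ∀ x ∈ Q, ∀ y ∈ Q, ⁅x, y⁆ ∈ center G := fun x hx y hy =>
    h.commutator_le_center (commutator_mem_commutator hx hy)
  have hpw : ∀ x ∈ Q, x ^ p ∈ center G := fun x hx =>
    h.frattini_le_center (PGrp.pow_mem_map_frattini h.pgroup hx)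
  have hmap : ∀ B : Subgroup Q, B ≠ ⊤ → B.map Q.subtype < Q := fun B hB =>
    (map_subtype_le B).lt_of_ne fun e => hB (map_subtype_inj.mp (by rw [e, ← MonoidHom.range_eq_map, range_subtype]))
  have hnc : ∀ B : Subgroup Q, B.index = p → ¬ IsMulCommutative Q → ¬ B ≤ center Q := fun B hB hna hle =>
    hna (Core.isMulCommutative_of_relIndex_prime (Z := B.map Q.subtype) (map_subtype_le B)
      (by rintro _ ⟨b, hb, rfl⟩ y hy; exact congrArg Subtype.val (mem_center_iff.mp (hle hb) ⟨y, hy⟩))
      (by rw [relIndex, subgroupOf, comap_map_eq_self_of_injective Q.subtype_injective, hB]; exact hp.out))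
  refine ⟨fun x y => hZ _ (hcm x x.2 y y.2), fun x => hZ _ (hpw x x.2), fun v hv B hB hvB => ?_,
    fun hna B hB hB1 hB2 hZp hpp => ?_⟩
  · have hna : ¬ IsMulCommutative Q := fun h1 => hv (mem_center_iff.mpr fun y => h1.is_comm.comm _ _)
    let f : Q →* center G := MonoidHom.mk' (fun y => ⟨_, hcm v v.2 y y.2⟩) fun y z => Subtype.ext (by
      have := mem_center_iff.mp (hcm v v.2 z z.2) y
      change _ = ⁅(v : G), (y : G)⁆ * ⁅(v : G), (z : G)⁆
      calc _ = ⁅(v : G), (y : G)⁆ * (y * ⁅(v : G), (z : G)⁆) * (y : G)⁻¹ := by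
            simp only [commutatorElement_def, coe_mul]; group
        _ = _ := by rw [this]; group)
    have h1 : Nat.card f.range ∣ p := by
      rw [← index_ker, ← hB]
      exact index_dvd_of_le fun b hb => Subtype.ext (commutatorElement_eq_one_iff_mul_comm.mpr
        (congrArg Subtype.val (hvB b hb)).symm)
    set Z₀ := f.range.map (center G).subtype
    haveI : Z₀.Normal := ⟨fun x hx g => by
      rwa [mem_center_iff.mp (map_subtype_le _ hx) g, mul_inv_cancel_right]⟩
    have h2 : ⁅Q, Q⁆ ≤ Z₀ := by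
      rw [commutator_le_iff_le_comap, ← inf_eq_left]
      refine h.eq_of_not_le_center inf_le_left fun hle => hv (hZ v (hle (mem_inf.mpr ⟨v.2, ?_⟩)))
      rintro _ ⟨y, hy, rfl⟩
      rw [eq_comm, ← commutatorElement_eq_one_iff_mul_comm, ← map_commutatorElement]
      exact (QuotientGroup.eq_one_iff _).mpr ⟨_, ⟨⟨y, hy⟩, rfl⟩, rfl⟩
    have h3 : (center Q).map Q.subtype ≤ ⁅Q, Q⁆ := fun z hz => by
      have h5 := h.le_center (hmap _ fun e => hv (e.ge (mem_top v))) hz
      refine (QuotientGroup.eq_one_iff z).mp ((Core.centralizer_inf_commutator_eq_bot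
        ((zpowers g).map (QuotientGroup.mk' ⁅Q, Q⁆)) (Q.map (QuotientGroup.mk' ⁅Q, Q⁆))
        (commutator_self_eq_bot_iff.mp (commutator_le_iff_map.mp le_rfl))
        (Core.map_le_normalizer_map (le_top.trans (normalizer_eq_top Q).ge) _)
        (((h.coprime_card le_rfl).coprime_dvd_left (Core.card_map_dvd _ _)).coprime_dvd_right
          (Core.card_map_dvd _ _))).le (mem_inf.mpr ⟨mem_inf.mpr ⟨mem_map_of_mem _ (map_subtype_le _ hz), ?_⟩, ?_⟩))
      · rintro _ ⟨y, -, rfl⟩
        exact congrArg (QuotientGroup.mk' ⁅Q, Q⁆) (mem_center_iff.mp h5 y)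
      · rw [← map_commutator, h.commutator_zpowers]
        exact mem_map_of_mem _ (map_subtype_le _ hz)
    have h4 := (card_dvd_of_le (h3.trans h2)).trans (show _ ∣ p by rwa [Core.card_map_subtype])
    rw [Core.card_map_subtype] at h4
    refine ((Nat.dvd_prime hp.out).mp h4).resolve_left fun e => ?_
    haveI := h.pgroup.isNilpotent
    haveI := (nontrivial_iff_ne_bot Q).mpr h.ne_bot
    exact Group.IsNilpotent.center_ne_bot Q (card_eq_one.mp e)
  · have hBt : B ≠ ⊤ := fun e => hp.out.one_lt.ne' (by rw [← hB, e, index_top])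
    by_cases hp2 : p = 2
    · subst hp2
      obtain ⟨x, hx, hx2⟩ : ∃ x ∈ Q, x ^ 2 ≠ 1 := by
        by_contra! h1
        refine hna (isMulCommutative_iff_forall.mpr fun a ha b hb => ?_)
        have e : ∀ c ∈ Q, c⁻¹ = c := fun c hc => inv_eq_of_mul_eq_one_right (sq c ▸ h1 c hc)
        rw [← e _ (mul_mem ha hb), mul_inv_rev, e a ha, e b hb]
      have h1 : ∀ k : G, (⟨k * x * k⁻¹, h.normal.conj_mem x hx k⟩ : Q) ∉ B := fun k hk => hx2 (by
        have : (k * x * k⁻¹) ^ 2 = 1 := congrArg Subtype.val (hB2 _ hk)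
        rwa [conj_pow, conj_eq_one_iff] at this)
      have h2 : x * (g * x * g⁻¹) ∈ center G := by
        refine h.le_center ((normalCore_le _).trans_lt (hmap B hBt)) fun k => ?_
        refine ⟨_, (mul_mem_iff_of_index_two hB).mpr (iff_of_false (h1 k) (h1 (k * g))), ?_⟩
        simp only [coe_subtype, MulMemClass.mk_mul_mk]; group
      have h3 : center G ⊓ Q ⊔ zpowers x ≤ Q := sup_le inf_le_right (zpowers_le.mpr hx)
      have h4 : g ∈ normalizer ((center G ⊓ Q ⊔ zpowers x : Subgroup G) : Set G) := by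
        refine H2.mem_normalizer_of_conj_smul_le ?_
        rw [smul_sup]
        refine sup_le (le_sup_of_le_left (H2.conj_smul_le_of_mem_normalizer le_rfl
          ((normalizer_eq_top _).ge (mem_top g)))) ?_
        rw [H2.conj_smul_eq_map, MonoidHom.map_zpowers, zpowers_le]
        exact (mul_mem_cancel_left (mem_sup_right (mem_zpowers x))).mp
          (mem_sup_left (mem_inf.mpr ⟨h2, mul_mem hx (h.normal.conj_mem x hx g)⟩))
      haveI : (center G ⊓ Q ⊔ zpowers x).Normal := Core.normal_of_le_normalizer (h.sup.ge.trans (sup_le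
        (le_normalizer_iff_commutator_le_right.mpr ((commutator_mono le_rfl h3).trans (le_sup_of_le_left
          (le_inf h.commutator_le_center h.commutator_lt.le)))) (zpowers_le.mpr h4)))
      have h5 : (⟨x, hx⟩ : Q) ∈ center Q := by
        by_cases h6 : center G ⊓ Q ⊔ zpowers x ≤ center G
        · exact hZ _ (h6 (mem_sup_right (mem_zpowers x)))
        · have h7 : Q ≤ centralizer {x} := (h.eq_of_not_le_center h3 h6).ge.trans (sup_le
            (inf_le_left.trans (center_le_centralizer _)) (zpowers_le.mpr (self_mem_centralizer x)))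
          exact mem_center_iff.mpr fun y => Subtype.ext (mem_centralizer_singleton_iff.mp (h7 y.2))
      exact hx2 (congrArg (fun y : center Q => ((y : Q) : G)) (hZp ▸ pow_card_eq_one' (x := (⟨_, h5⟩ : center Q))))
    have hq : q ∣ p + 1 := by
      by_contra hq
      let S : SubMulAction (MulAut Q) (Subgroup Q) :=
        { carrier := {M | center Q ≤ M ∧ M.index = p}
          smul_mem' := fun φ M hM => ⟨(characteristic_iff_le_map.mp (inferInstance : (center Q).Characteristic) φ).trans (map_mono hM.1),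
            (index_map_equiv M φ).trans hM.2⟩ }
      letI : MulAction (zpowers g) S := MulAction.compHom S ((MulAut.conjNormal (H := Q)).comp (zpowers g).subtype)
      have h1 : Nat.card (commutator Q) = p := by
        refine ((Nat.dvd_prime hp.out).mp (hZp ▸ card_dvd_of_le (commutator_le.mpr fun x _ y _ =>
          hZ _ (hcm x x.2 y y.2)))).resolve_left fun e => hna ?_
        exact (commutator_eq_bot_iff Q).mp (card_eq_one.mp e)
      obtain ⟨k, hk⟩ := h.ord
      obtain ⟨⟨M, hM⟩, h2⟩ := (isPGroup_zpowers hk).nonempty_fixed_point_of_prime_not_dvd_card S (by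
        rwa [show Nat.card S = p + 1 from PGrp.card_index_eq_prime_ge (by
          rw [PGrp.index_center_of_abelian_index_prime h.pgroup hna hB1 hB, h1, sq])
          (commutator_le.mpr fun x _ y _ => hZ _ (hcm x x.2 y y.2)) fun x => hZ _ (hpw x x.2)])
      have h3 : MulAut.conjNormal g • M = M := congrArg Subtype.val (h2 ⟨g, mem_zpowers g⟩)
      haveI : M.Normal := Normal.of_commutator_le _ ((commutator_le.mpr fun x _ y _ =>
        hZ _ (hcm x x.2 y y.2)).trans hM.1)
      haveI : (M.map Q.subtype).Normal := Core.normal_of_le_normalizer (h.sup.ge.trans (sup_le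
        (Core.le_normalizer_map_subtype_of_normal Q M) (zpowers_le.mpr (mem_normalizer_fintype ?_))))
      · exact hnc M hM.2 hna fun x hx => hZ x (h.le_center (hmap M fun e => hp.out.one_lt.ne'
          (by rw [← hM.2, e, index_top])) (mem_map_of_mem _ hx))
      · rintro _ ⟨x, hx, rfl⟩
        exact ⟨_, h3.le (smul_mem_pointwise_smul x _ M hx), rfl⟩
    obtain rfl : q = 2 := by
      obtain ⟨r, -, hr⟩ := isPrimePow_iff_unique_prime_dvd.mp hpp
      exact (hr q ⟨h.prime, hq⟩).trans (hr 2 ⟨Nat.prime_two,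
        (hp.out.odd_of_ne_two hp2).add_one.two_dvd⟩).symm
    obtain ⟨k, hk⟩ := h.ord
    obtain ⟨t, ht, ht1, ht2, -⟩ := exists_central_mod (N := centralizer (Q : Set G)) (isPGroup_zpowers hk)
      fun hle => h.not_cent (hle (mem_zpowers g))
    refine ht1 fun x hx => ?_
    have hw : x⁻¹ * (t * x * t⁻¹) ∈ Q := mul_mem (inv_mem hx) (h.normal.conj_mem x hx t)
    have h1 : t * (x⁻¹ * (t * x * t⁻¹)) * t⁻¹ = (x⁻¹ * (t * x * t⁻¹))⁻¹ := by
      calc _ = t * x⁻¹ * t⁻¹ * (t ^ 2 * x) * (t ^ 2)⁻¹ := by simp only [sq]; group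
        _ = _ := by rw [← ht2 x hx]; group
    suffices x⁻¹ * (t * x * t⁻¹) = 1 by rwa [inv_mul_eq_one, eq_mul_inv_iff_mul_eq] at this
    generalize x⁻¹ * (t * x * t⁻¹) = w at hw h1
    have hn : zpowers t ≤ normalizer (zpowers w : Set G) := zpowers_le.mpr (mem_normalizer_fintype (by
      rintro _ ⟨i, rfl⟩
      exact ⟨-i, by simp only [← conj_zpow, h1, inv_zpow']⟩))
    have hne : zpowers w ⊔ zpowers t ≠ ⊤ := fun e => by
      have h2 := Core.sup_inf_of_le_left hn (zpowers_le.mpr hw)
      rw [e, top_inf_eq, eq_bot_iff.mpr ((inf_le_inf_right Q (zpowers_le.mpr ht)).trans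
        (inf_eq_bot_of_coprime (h.coprime_card le_rfl)).le), sup_bot_eq] at h2
      exact hna (h2 ▸ inferInstance)
    have h2 := congrArg Subtype.val (Transfer.mem_centralizer_of_hasNormalPComplement (h.npc _ hne)
      (Q := (zpowers w).subgroupOf _) (h.pgroup.to_le (zpowers_le.mpr hw)).comap_subtype
      (g := ⟨t, mem_sup_right (mem_zpowers t)⟩)
      (mem_normalizer_fintype fun y hy => (mem_normalizer_iff.mp (hn (mem_zpowers t)) y).mp hy)
      (by rw [orderOf_mk]; exact h.coprime.coprime_dvd_left (orderOf_dvd_of_mem_zpowers ht))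
      ⟨w, mem_sup_left (mem_zpowers w)⟩ (mem_zpowers w))
    change w * t = t * w at h2
    rw [← h2, mul_inv_cancel_right, eq_inv_iff_mul_eq_one, ← sq] at h1
    obtain ⟨j, hj⟩ := exists_orderOf_eq_of_mem h.pgroup hw
    exact orderOf_eq_one_iff.mp (Nat.eq_one_of_dvd_coprimes (((Nat.coprime_primes Nat.prime_two hp.out).mpr
      (Ne.symm hp2)).pow_right j) (orderOf_dvd_of_pow_eq_one h1) hj.dvd)

theorem index_normalizer_le {Z R : Subgroup G} [R.Normal] (hZ : Nat.card Z = p) (hle : Z ≤ R) :
    (normalizer (Z : Set G)).index * (p - 1) ≤ Nat.card R - 1 := by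
  classical
  have h1 : ∀ H : Subgroup G, Nat.card {x : H // x ≠ 1} = Nat.card H - 1 := fun H => by
    haveI := Fintype.ofFinite H
    simp [Nat.card_eq_fintype_card]
  rw [← h1, ← hZ, ← h1, index, ← Nat.card_prod]
  refine Nat.card_le_card_of_injective (fun x => ⟨⟨x.1.out * x.2.1 * x.1.out⁻¹,
    Normal.conj_mem inferInstance _ (hle x.2.1.2) _⟩, fun e => x.2.2 (Subtype.ext
      (conj_eq_one_iff.mp (congrArg Subtype.val e)))⟩) ?_
  rintro ⟨a, w, hw⟩ ⟨b, v, hv⟩ e
  have e' : a.out * w * a.out⁻¹ = b.out * v * b.out⁻¹ := congrArg (fun y => (y.1 : G)) e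
  obtain rfl : a = b := by
    rw [← a.out_eq', ← b.out_eq', eq_comm, QuotientGroup.eq]
    refine H2.mem_normalizer_of_conj_smul_le ?_
    refine (H2.conj_smul_mono _ (zpowers_eq_of_card_prime hp.out hZ w.2 fun h => hw (Subtype.ext h)).ge).trans ?_
    rw [H2.conj_smul_eq_map, MonoidHom.map_zpowers, zpowers_le]
    convert v.2 using 1
    calc _ = b.out⁻¹ * (a.out * w * a.out⁻¹) * b.out := by simp [mul_assoc]
      _ = _ := by rw [e']; group
  obtain rfl : w = v := Subtype.ext (by simpa using e')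
  rfl

theorem index_modEq_one_of_normalizer_le (P : Sylow p G) {H : Subgroup G}
    (hN : normalizer ((P : Subgroup G) : Set G) ≤ H) : H.index ≡ 1 [MOD p] := by
  have e0 : ∀ {K : Type _} [Group K] [Finite K] (R : Sylow p K),
      (normalizer ((R : Subgroup K) : Set K)).index ≡ 1 [MOD p] := fun {K} _ _ R => by
    have e1 := card_sylow_modEq_one p K
    rwa [R.card_eq_index_normalizer, ← R.coe_coe] at e1
  have e1 := e0 P
  have e2 := e0 (P.subtype (le_normalizer.trans hN))
  rw [← relIndex_mul_index hN] at e1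
  rw [Sylow.coe_subtype, ← subgroupOf_normalizer_eq (le_normalizer.trans hN)] at e2
  exact (by simpa [relIndex] using (e2.mul_right _).symm : _ ≡ _ [MOD p]).trans e1

theorem SP.false_of_core (P : Sylow p G) (h : SP p P) {B : Subgroup G} [B.Normal] (hB : B ≤ P)
    (hi : B.relIndex P = p) (hC : centralizer (B : Set G) ≤ B) (hD : ∀ D : Subgroup G, D.Normal → ↑P ≤ D → D = ⊤)
    (hP : (P : Subgroup G) ≠ ⊤) {r k : ℕ} (hr : r.Prime) (hk : (P : Subgroup G).index ∣ r ^ k) : False := by
  set Z := (center P).map (P : Subgroup G).subtype with hZ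
  have hZP : Z ≤ P := map_subtype_le _
  have hZC : (P : Subgroup G) ≤ centralizer (Z : Set G) := by
    rintro y hy _ ⟨z, hz, rfl⟩
    exact congrArg Subtype.val (mem_center_iff.mp hz ⟨y, hy⟩).symm
  have hZB : Z ≤ centralizer (B : Set G) := le_centralizer_iff.mp (hB.trans hZC)
  have hcm : ⁅(P : Subgroup G), B⁆ ≤ Z := commutator_le.mpr fun x hx y hy =>
    ⟨_, h.comm ⟨x, hx⟩ ⟨y, hB hy⟩, rfl⟩
  have hZn : ¬ Z.Normal := fun hn => by
    have h1 := hD _ inferInstance hZC
    have h2 := commutator_le_iff_le_comap.mpr (hD _ inferInstance (commutator_le_iff_le_comap.mp hcm)).ge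
    refine hP (Core.eq_top_of_forall_sylow_le _ fun s hs _ => ?_)
    haveI := Fact.mk hs
    by_cases hsp : s = p
    · subst hsp; exact ⟨P, le_rfl⟩
    · obtain ⟨Y⟩ : Nonempty (Sylow s G) := inferInstance
      refine ⟨Y, (Core.le_centralizer_of_commutator_le_of_centralizes Y B Z
        (IsPGroup.coprime_card_of_ne s p hsp _ _ Y.isPGroup' (P.isPGroup'.to_le hZP)) (le_top.trans h1.ge)
        (by rw [commutator_comm]; exact (commutator_mono le_top le_rfl).trans h2)).trans (hC.trans hB)⟩
  obtain ⟨v, hv, hvZ⟩ := SetLike.exists_of_lt (hZB.lt_of_ne fun e => hZn (e ▸ inferInstance))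
  have h1 : Nat.card (center P) = p := h.card ⟨v, hB (hC hv)⟩ (fun h => hvZ (mem_map_of_mem _ h))
    (B.subgroupOf P) hi fun b hb => Subtype.ext (hv b hb)
  have h2 : Nat.card Z = p := (Core.card_map_subtype _).trans h1
  have h3 : ∀ w : G, (∀ g, g * w * g⁻¹ ∈ Z) → w = 1 := fun w hw => by
    by_contra h3
    refine hZn ⟨fun x hx g => ?_⟩
    obtain ⟨i, rfl⟩ := (zpowers_eq_of_card_prime hp.out h2 (by simpa using hw 1) h3).ge hx
    show g * w ^ i * g⁻¹ ∈ Z
    rw [← conj_zpow]
    exact zpow_mem (hw g) i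
  have h4 : IsMulCommutative B := isMulCommutative_iff_forall.mpr fun x hx y hy =>
    commutatorElement_eq_one_iff_mul_comm.mp (h3 _ fun g => by
      rw [conjugate_commutatorElement]
      exact hcm (commutator_mem_commutator (hB (Normal.conj_mem inferInstance _ hx g))
        (Normal.conj_mem inferInstance _ hy g)))
  have hna : ¬ IsMulCommutative P := fun h => hvZ ⟨⟨v, hB (hC hv)⟩, mem_center_iff.mpr fun y =>
    h.is_comm.comm _ _, rfl⟩
  refine h.npp hna (B.subgroupOf P) hi inferInstance (fun x hx => Subtype.ext (h3 _ fun g => ?_)) h1 ?_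
  · rw [SubmonoidClass.coe_pow, ← conj_pow]
    exact ⟨_, h.pow ⟨_, hB (‹B.Normal›.conj_mem (x : G) hx g)⟩, rfl⟩
  have h5 : Nat.card B = p ^ 2 := by
    have h5 : Nat.card (commutator P) = p := by
      refine ((Nat.dvd_prime hp.out).mp ((card_dvd_of_le (commutator_le.mpr fun x _ y _ =>
        h.comm x y)).trans h1.dvd)).resolve_left fun e => hna ?_
      exact (commutator_eq_bot_iff P).mp (card_eq_one.mp e)
    have h6 := (center P).card_mul_index
    rw [PGrp.index_center_of_abelian_index_prime P.isPGroup' hna (A := B.subgroupOf P) inferInstance hi, h5, h1,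
      ← Core.card_mul_relIndex hB, hi, ← mul_assoc] at h6
    exact (Nat.eq_of_mul_eq_mul_right hp.out.pos h6).symm.trans (sq p).symm
  have h6 := index_normalizer_le h2 (hZB.trans hC)
  have hN : normalizer ((P : Subgroup G) : Set G) ≤ normalizer (Z : Set G) :=
    Core.normalizer_le_normalizer_map_subtype _ _
  have h7 := index_modEq_one_of_normalizer_le P hN
  have h8 : (normalizer (Z : Set G)).index ≠ 1 := fun e => hZn (normalizer_eq_top_iff.mp (index_eq_one.mp e))
  obtain ⟨j, -, hj⟩ := (Nat.dvd_prime_pow hr).mp ((index_dvd_of_le (le_normalizer.trans hN)).trans hk)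
  have h9 : (normalizer (Z : Set G)).index = p + 1 := by
    have h0 : 0 < (normalizer (Z : Set G)).index := Nat.pos_of_ne_zero index_ne_zero_of_finite
    have := Nat.le_of_dvd (by omega) ((Nat.modEq_iff_dvd' h0).mp h7.symm)
    rw [h5, show p ^ 2 - 1 = (p + 1) * (p - 1) from Nat.sq_sub_sq p 1] at h6
    have := Nat.le_of_mul_le_mul_right h6 (Nat.sub_pos_of_lt hp.out.one_lt)
    omega
  exact ⟨r, j, hr.prime, Nat.pos_of_ne_zero fun e => h8 (by rw [hj, e, pow_zero]), hj.symm.trans h9⟩

end Cfsg.Agent.FGS
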