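import Mathlib
import Cfsg.Agent.LocalEven.Resid
import Cfsg.Agent.LocalEven.Cores
import Cfsg.Agent.Transfer.Frobenius
import Cfsg.Agent.Block.Quat
import Cfsg.Agent.Ben.AbC

/-! Groups whose non-abelian subgroups are self-normalizing. -/

set_option autoImplicit false

namespace Cfsg.Agent.FGS

open Subgroup Cfsg.Agent.LocalEven

variable {G : Type*} [Group G] [Finite G]

theorem map_eq_one_of_npc {X : Type*} [Group X] [Finite X] {p : ℕ} [hp : Fact p.Prime] (f : G →* X) (hf : Function.Surjective f)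
    (h : HasNormalPComplement p X) (hG : pResidual p G = ⊤) {y : G} {k : ℕ} (hy : y ^ p ^ k = 1) : f y = 1 := by
  have h1 := map_pResOf (p := p) f ⊤
  rw [pResOf_top, hG, map_top_of_surjective f hf, pResOf_top] at h1
  exact orderOf_eq_one_iff.mp (((Transfer.hasNormalPComplement_iff_forall_mem.mp h (f y) (h1.le (mem_top _))).pow_right k).eq_one_of_dvd
    (orderOf_dvd_of_pow_eq_one (by rw [← map_pow, hy, map_one])))

/-- non-abelian subgroups are self-normalizing -/
def SelfN (G : Type*) [Group G] : Prop := ∀ H : Subgroup G, ¬ IsMulCommutative H → normalizer (H : Set G) = H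

omit [Finite G] in
theorem SelfN.comm (h : SelfN G) {K : Subgroup G} {x : G} (hx : x ∈ normalizer (K : Set G)) (hx' : x ∉ K) :
    K ≤ centralizer (K : Set G) :=
  le_centralizer_iff_isMulCommutative.mpr (by_contra fun e => hx' ((h K e).le hx))

omit [Finite G] in
theorem SelfN.res (h : SelfN G) (p : ℕ) (H : Subgroup G) : pResidual p H = ⊤ ∨ pResOf p H ≤ centralizer (pResOf p H : Set G) := by
  refine or_iff_not_imp_left.mpr fun e => ?_
  obtain ⟨x, -, hx⟩ := SetLike.exists_of_lt (lt_top_iff_ne_top.mpr e)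
  exact h.comm (le_normalizer_pResOf H x.2) fun e => hx (by rw [← pResOf_subgroupOf]; exact e)

omit [Finite G] in
theorem SelfN.congr {G' : Type*} [Group G'] (h : SelfN G) (e : G ≃* G') : SelfN G' := fun H hH => by
  have := h (H.comap e.toMonoidHom) fun hc => hH ⟨⟨fun a b => Subtype.ext (e.symm.injective (by
    have := congrArg Subtype.val (hc.is_comm.comm ⟨e.symm a, by simp⟩ ⟨e.symm b, by simp⟩)
    simp only [coe_mul, map_mul] at this ⊢
    exact this))⟩⟩
  rw [← comap_normalizer_eq_of_surjective _ e.surjective] at this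
  exact comap_injective e.surjective this

theorem SelfN.exists_comm (h : SelfN G) (hG : ¬ HasNormalPComplement 2 G) :
    ∃ S : Subgroup G, IsSylowIn 2 S ⊤ ∧ S ≤ centralizer (S : Set G) := by
  have : Fact (Nat.Prime 2) := ⟨Nat.prime_two⟩
  obtain ⟨U, ⟨hU, x, hx, hxo, hx'⟩, hmax⟩ := (Set.toFinite {U : Subgroup G | IsPGroup 2 U ∧ ∃ x ∈ normalizer (U : Set G),
      (orderOf x).Coprime 2 ∧ x ∉ centralizer (U : Set G)}).exists_maximal (by
    by_contra! e
    exact hG (Transfer.hasNormalPComplement_of_forall_isPGroup fun Q hQ g hg hg' =>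
      by_contra fun e' => e.le (show Q ∈ _ from ⟨hQ, g, hg, hg', e'⟩)))
  have h1 : U ≤ centralizer (U : Set G) := h.comm hx fun e => hx' (by
    rw [(pResOf_eq_bot_of_isPGroup hU).le (mem_pResOf e hxo)]; exact one_mem _)
  have h2 := h.comm (normalizer_le_normalizer_centralizer U hx) hx'
  obtain ⟨T, hT, hUT⟩ := exists_isSylowIn_le hU h1
  have h3 := hT.self_eq_pCoreOf ((h2.trans (centralizer_le hT.le)).trans (centralizer_le_normalizer _))
  obtain rfl := hUT.antisymm (hmax ⟨hT.pgrp, x, h3 ▸ normalizer_le_normalizer_pCoreOf _ (normalizer_le_normalizer_centralizer U hx),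
    hxo, fun e => hx' (centralizer_le hUT e)⟩ hUT)
  obtain ⟨T, hT', hUT⟩ := exists_isSylowIn_le hU le_normalizer
  rcases hUT.eq_or_lt with rfl | hlt
  · exact ⟨U, IsSylowIn.of_normalizer (by rwa [top_inf_eq]), h1⟩
  obtain ⟨t, ht, ht'⟩ := SetLike.exists_of_lt hlt
  obtain ⟨k, hk⟩ := isPGroup_iff_mem.mp hT'.pgrp t ht
  have h4 : t ∉ centralizer (U : Set G) := fun e => ht' (hT.mem_of_mem_normalizer e hk (hT'.le ht))
  have h5 : U ⊔ zpowers t = T := by
    by_contra e
    obtain ⟨y, -, hy, hy'⟩ := exists_mem_normalizer_of_lt hT'.pgrp ((sup_le hUT (zpowers_le.mpr ht)).lt_of_ne e)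
    exact h4 (centralizer_le (le_sup_left (b := zpowers t)) (h.comm hy hy' (mem_sup_right (mem_zpowers t))))
  rcases h.res 2 (normalizer (U : Set G)) with e | e
  · let f := U.normalizerMonoidHom.rangeRestrict
    have hf : Function.Surjective f := MonoidHom.rangeRestrict_surjective _
    have k1 : ∀ g, f g = 1 ↔ (g : G) ∈ centralizer (U : Set G) := fun g => by
      rw [← MonoidHom.mem_ker, MonoidHom.ker_rangeRestrict, normalizerMonoidHom_ker, mem_subgroupOf]
    have a1 := (hT'.subgroupOf le_rfl).map f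
    rw [subgroupOf_self, map_top_of_surjective f hf, ← h5, subgroupOf_sup le_normalizer (zpowers_le.mpr (hT'.le ht)),
      Subgroup.map_sup, (Subgroup.map_eq_bot_iff (U.subgroupOf _)).mpr fun u hu => (k1 u).mpr (h1 hu), bot_sup_eq,
      show (zpowers t).subgroupOf _ = zpowers ⟨t, hT'.le ht⟩ by
        rw [← map_subtype_subgroupOf (zpowers _), MonoidHom.map_zpowers]; rfl, MonoidHom.map_zpowers] at a1
    exact absurd ((k1 ⟨t, hT'.le ht⟩).mp (map_eq_one_of_npc f hf (Block.hasNormalPComplement_two_of_isCyclic a1.toSylowTop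
      (isCyclic_zpowers _)) e (k := k) (Subtype.ext hk))) h4
  · refine absurd (fun u hu => ?_) hx'
    have a1 : Commute (u * x * u⁻¹) x⁻¹ := Commute.inv_right (e (mem_pResOf hx hxo) _ (mem_pResOf (mul_mem (mul_mem
      (le_normalizer hu) hx) (inv_mem (le_normalizer hu))) (by rwa [← MulAut.conj_apply, MulEquiv.orderOf_eq])))
    have a2 : u * x * u⁻¹ * x⁻¹ ∈ U := by simpa [mul_assoc] using mul_mem hu (conj_mem_of_mem_normalizer hx (inv_mem hu))
    have a3 := (pResOf_eq_bot_of_isPGroup hU).le (mem_pResOf a2 (Nat.Coprime.of_dvd_left a1.orderOf_mul_dvd_mul_orderOf (by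
      rw [orderOf_inv, ← MulAut.conj_apply, MulEquiv.orderOf_eq]; exact Nat.Coprime.mul_left hxo hxo)))
    rwa [mem_bot, mul_inv_eq_one, mul_inv_eq_iff_eq_mul] at a3

theorem SelfN.abC (h : SelfN G) (hG : ¬ HasNormalPComplement 2 G) : Ben.AbC G := by
  have : Fact (Nat.Prime 2) := ⟨Nat.prime_two⟩
  intro t h1 h2
  suffices centralizer {t} ≤ centralizer ((centralizer {t} : Subgroup G) : Set G) from fun x y hx hy =>
    this (mem_centralizer_singleton_iff.mpr hy) x (mem_centralizer_singleton_iff.mpr hx)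
  have h3 : t ^ 2 ^ 1 = 1 := by rwa [pow_one, pow_two]
  obtain ⟨S, hS, hS'⟩ := h.exists_comm hG
  obtain ⟨g, -, hg⟩ := hS.exists_le_cj (LocalEven.isPGroup_zpowers h3) le_top
  replace hS := cj_top g ▸ hS.cj g
  replace hS' := (cj_mono g hS').trans (cj_centralizer g S).le
  generalize cj g S = S at hg hS hS'
  have h4 : S ≤ centralizer {t} := fun s hs => mem_centralizer_singleton_iff.mpr (hS' (hg (mem_zpowers t)) s hs)
  have hT := hS.mono h4 le_top
  rcases h.res 2 (centralizer {t}) with e | e
  · have a1 := map_eq_one_of_npc Abelianization.of QuotientGroup.mk_surjective Transfer.hasNormalPComplement_of_isNilpotent e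
      (y := ⟨t, h4 (hg (mem_zpowers t))⟩) (k := 1) (Subtype.ext h3)
    have a2 := Transfer.inf_commutator_inf_center_le hT.toSylow.card_coprime_index ⟨⟨hg (mem_zpowers t),
      (QuotientGroup.eq_one_iff _).mp a1⟩, mem_center_iff.mpr fun y => Subtype.ext (mem_centralizer_singleton_iff.mp y.2)⟩
    rw [commutator_eq_bot_iff_le_centralizer.mpr fun a ha b hb => Subtype.ext (hS' ha b hb)] at a2
    exact absurd (congrArg Subtype.val a2) h1
  set R := pResOf 2 (centralizer {t})
  have a1 : ∀ r ∈ R, (orderOf r).Coprime 2 := fun r hr => by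
    rw [show R = _ from pResOf_eq _] at hr e
    induction hr using closure_induction with
    | mem x hx => exact hx.2
    | one => simp
    | mul x y hx hy ix iy => exact (Nat.Coprime.mul_left ix iy).of_dvd_left (Commute.orderOf_mul_dvd_mul_orderOf (e hy x hx))
    | inv x hx ix => rwa [orderOf_inv]
  have a2 : S ≤ normalizer (R : Set G) := h4.trans (le_normalizer_pResOf _)
  have a3 : S ≤ centralizer (R : Set G) := fun s hs => by
    have b1 : S ≤ normalizer ((R ⊔ zpowers s : Subgroup G) : Set G) := le_normalizer_sup a2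
      ((hS'.trans (centralizer_le (zpowers_le.mpr hs))).trans (centralizer_le_normalizer _))
    obtain ⟨y, hy, hy'⟩ : ∃ y ∈ S, y ∉ zpowers s := by
      by_contra! e
      exact hG (Block.hasNormalPComplement_two_of_isCyclic hS.toSylowTop (by
        change IsCyclic S
        rw [le_antisymm e (zpowers_le.mpr hs)]; infer_instance))
    refine centralizer_le (le_sup_left (b := zpowers s)) (h.comm (b1 hy) (fun e => hy' ?_) (mem_sup_right (mem_zpowers s)))
    obtain ⟨r, hr, z, hz, rfl⟩ := (mem_sup_iff_of_le_normalizer' ((zpowers_le.mpr hs).trans a2)).mp e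
    rwa [(pResOf_eq_bot_of_isPGroup hS.pgrp).le (mem_pResOf ((mul_mem_cancel_right (zpowers_le.mpr hs hz)).mp hy) (a1 r hr)), one_mul]
  rw [← hT.pResOf_sup, le_centralizer_iff, le_centralizer_iff]
  refine sup_le (le_centralizer_iff.mpr (sup_le e a3)) (le_centralizer_iff.mpr (sup_le (le_centralizer_iff.mp a3) hS'))

end Cfsg.Agent.FGS
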