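import Mathlib
import Cfsg.Agent.Perm.Derang
import Cfsg.Agent.BG.AmbCent

/-!
# FGS/SubCount: the number of subgroups of order `p ^ k` is `1` modulo `p` (Wielandt's proof)
-/

set_option autoImplicit false

open Subgroup MulAction
open scoped Pointwise

namespace Cfsg.Agent.FGS

variable {G : Type*} [Group G] [Finite G]

theorem card_stabilizer_dvd_ncard (S : Set G) : Nat.card (stabilizer G S) ∣ S.ncard := by
  refine Perm.dvd_ncard_of_forall_orbit (stabilizer G S) S (Set.toFinite _)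
    (fun g hg x hx => (mem_stabilizer_set.mp hg x).mpr hx) fun x _ => dvd_of_eq ?_
  rw [← Nat.card_coe_set_eq]
  exact Nat.card_congr (Equiv.ofBijective (fun g => ⟨g • x, g, rfl⟩) ⟨fun a b e =>
    Subtype.ext (mul_right_cancel (congrArg Subtype.val e : (a : G) * x = b * x)),
    by rintro ⟨_, g, rfl⟩; exact ⟨g, rfl⟩⟩)

theorem ncard_good (q m : ℕ) (h : Nat.card G = q * m) :
    {S : Set G | S.ncard = q ∧ Nat.card (stabilizer G S) = q}.ncard =
      Nat.card {H : Subgroup G // Nat.card H = q} * m := by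
  have hq : 0 < q := Nat.pos_of_mul_pos_right (h ▸ Nat.card_pos)
  have h1 : ∀ (H : Subgroup G) (g : G), {x | ((x⁻¹ : G) : G ⧸ H) = g} = (· * g⁻¹) '' H := fun H g => by
    ext x
    rw [Set.mem_ofPred_eq, QuotientGroup.eq, inv_inv]
    exact ⟨fun h => ⟨_, h, by simp⟩, by rintro ⟨y, hy, rfl⟩; simpa using hy⟩
  have h2 : ∀ (H : Subgroup G) (c : G ⧸ H), {x | ((x⁻¹ : G) : G ⧸ H) = c}.ncard = Nat.card H :=
    fun H c => by
      obtain ⟨g, rfl⟩ := QuotientGroup.mk_surjective c
      rw [h1, Set.ncard_image_of_injective _ (mul_left_injective _), ← Nat.card_coe_set_eq]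
      rfl
  have h3 : ∀ (H : Subgroup G) (c : G ⧸ H), stabilizer G {x | ((x⁻¹ : G) : G ⧸ H) = c} = H :=
    fun H c => by
      obtain ⟨g, rfl⟩ := QuotientGroup.mk_surjective c
      ext a
      simp only [mem_stabilizer_set, Set.mem_ofPred_eq, QuotientGroup.eq, inv_inv, smul_eq_mul]
      exact ⟨fun h => by simpa using h g⁻¹, fun ha b => by
        rw [mul_assoc, H.mul_mem_cancel_left ha]⟩
  let f : (Σ H : {H : Subgroup G // Nat.card H = q}, G ⧸ H.1) →
      {S : Set G | S.ncard = q ∧ Nat.card (stabilizer G S) = q} := fun x =>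
    ⟨{y | ((y⁻¹ : G) : G ⧸ x.1.1) = x.2}, (h2 _ _).trans x.1.2, by rw [h3]; exact x.1.2⟩
  have hf : Function.Bijective f := by
    constructor
    · rintro ⟨⟨H, hH⟩, c⟩ ⟨⟨K, hK⟩, d⟩ e
      have e' : {y | ((y⁻¹ : G) : G ⧸ H) = c} = {y | ((y⁻¹ : G) : G ⧸ K) = d} :=
        congrArg Subtype.val e
      obtain rfl : H = K := by rw [← h3 H c, e', h3]
      obtain ⟨g, rfl⟩ := QuotientGroup.mk_surjective c
      have : g⁻¹ ∈ {y | ((y⁻¹ : G) : G ⧸ H) = d} := e' ▸ (by simp)
      rw [Set.mem_ofPred_eq, inv_inv] at this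
      rw [this]
    · rintro ⟨S, hS, hS'⟩
      obtain ⟨s, hs⟩ := Set.nonempty_of_ncard_ne_zero (hS ▸ hq.ne')
      refine ⟨⟨⟨_, hS'⟩, (s⁻¹ : G)⟩, Subtype.ext (Set.eq_of_subset_of_ncard_le (fun y hy => ?_)
        (by rw [hS, h2, hS']))⟩
      simpa using (mem_stabilizer_set.mp (QuotientGroup.eq.mp hy) s).mpr hs
  have := Fintype.ofFinite {H : Subgroup G // Nat.card H = q}
  rw [← Nat.card_coe_set_eq, ← Nat.card_congr (Equiv.ofBijective f hf), Nat.card_sigma,
    Finset.sum_const_nat (m := m), Finset.card_univ, Nat.card_eq_fintype_card]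
  intro H _
  exact Nat.eq_of_mul_eq_mul_left hq (by rw [← h, ← card_mul_index H.1, H.2]; rfl)

theorem wielandt {p k m : ℕ} (hp : p.Prime) (h : Nat.card G = p ^ k * m) :
    Nat.card {H : Subgroup G // Nat.card H = p ^ k} * m ≡ {S : Set G | S.ncard = p ^ k}.ncard
      [MOD p * m] := by
  have h1 : p * m ∣ {S : Set G | S.ncard = p ^ k ∧ Nat.card (stabilizer G S) ≠ p ^ k}.ncard := by
    refine Perm.dvd_ncard_of_forall_orbit (α := Set G) (⊤ : Subgroup G) _ (Set.toFinite _)
      (fun (g : G) _ S hS => And.intro ((Set.ncard_smul_set g S).trans hS.1) ?_) fun S hS => ?_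
    · rw [stabilizer_smul_eq_stabilizer_map_conj, card_map_of_injective (MulAut.conj g).injective]
      exact hS.2
    · obtain ⟨j, hj, e⟩ := (Nat.dvd_prime_pow hp).mp (hS.1 ▸ card_stabilizer_dvd_ncard S)
      obtain ⟨i, rfl⟩ := Nat.exists_eq_add_of_lt (lt_of_le_of_ne hj (by rintro rfl; exact hS.2 e))
      have h2 := card_mul_index (stabilizer G S)
      rw [e, h, add_assoc, pow_add, mul_assoc, index_stabilizer] at h2
      rw [show orbit (⊤ : Subgroup G) S = orbit G S from Set.ext fun T =>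
        ⟨fun ⟨g, hg⟩ => ⟨g, hg⟩, fun ⟨g, hg⟩ => ⟨⟨g, mem_top g⟩, hg⟩⟩,
        Nat.eq_of_mul_eq_mul_left (pow_pos hp.pos j) h2, pow_succ, mul_assoc]
      exact dvd_mul_left _ _
  rw [← ncard_good _ _ h, ← Set.ncard_inter_add_ncard_sdiff_eq_ncard {S : Set G | S.ncard = p ^ k}
    {S | Nat.card (stabilizer G S) = p ^ k}]
  exact ((Nat.modEq_iff_dvd' (Nat.le_add_right _ _)).mpr (by rw [Nat.add_sub_cancel_left]; exact h1))

/-- Frobenius: the number of subgroups of order `p ^ k` is `1` modulo `p`. -/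
theorem card_subgroups_modEq_one {p k : ℕ} (hp : p.Prime) (hd : p ^ k ∣ Nat.card G) :
    Nat.card {H : Subgroup G // Nat.card H = p ^ k} ≡ 1 [MOD p] := by
  obtain ⟨m, h⟩ := hd
  have := Fact.mk hp
  have : NeZero (Nat.card G) := ⟨Nat.card_pos.ne'⟩
  let C := Multiplicative (ZMod (Nat.card G))
  have hC : Nat.card C = Nat.card G := by simp [C]
  have h1 := wielandt hp (hC.trans h)
  obtain ⟨e⟩ : Nonempty (C ≃ G) := Finite.card_eq.mp hC
  have h2 : {S : Set C | S.ncard = p ^ k}.ncard = {S : Set G | S.ncard = p ^ k}.ncard :=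
    Set.ncard_congr (fun S _ => e '' S) (fun S hS => (Set.ncard_image_of_injective S e.injective).trans hS)
      (fun S T _ _ h => (Set.image_injective.mpr e.injective) h) fun T hT =>
      ⟨e.symm '' T, (Set.ncard_image_of_injective T e.symm.injective).trans hT, by
        simp [Set.image_image]⟩
  have h3 : Nat.card {H : Subgroup C // Nat.card H = p ^ k} = 1 := by
    obtain ⟨H, hH⟩ := Sylow.exists_subgroup_card_pow_prime (G := C) p (n := k) ⟨m, hC.trans h⟩
    exact Nat.card_eq_one_iff_unique.mpr ⟨⟨fun A B => Subtype.ext (BG.Amb.eq_of_card_eq_of_cyclic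
      (A := ⊤) inferInstance le_top le_top (A.2.trans B.2.symm))⟩, ⟨⟨H, hH⟩⟩⟩
  rw [h2, h3] at h1
  exact Nat.ModEq.mul_right_cancel' (by rintro rfl; simp [Nat.card_pos.ne'] at h)
    ((wielandt hp h).trans h1.symm)

/-- In a `p`-group the number of subgroups in a conjugation-closed family is congruent to the number
of normal ones. -/
theorem ncard_normal_modEq {p : ℕ} [Fact p.Prime] (hG : IsPGroup p G) (S : Set (Subgroup G))
    (hS : ∀ g : G, ∀ H ∈ S, MulAut.conj g • H ∈ S) :
    {H ∈ S | H.Normal}.ncard ≡ S.ncard [MOD p] := by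
  have h1 : p ∣ (S \ {H | H.Normal}).ncard := by
    refine Perm.dvd_ncard_of_forall_orbit (MulAut.conj : G →* MulAut G).range _ (Set.toFinite _) ?_
      fun H hH => ?_
    · rintro _ ⟨g, rfl⟩ H hH
      refine ⟨hS g H hH.1, fun hn => hH.2 ?_⟩
      have : (MulAut.conj g • H).Normal := hn
      rw [← BG.Amb.conj_inv_conj g H, Normal.conj_smul_eq_self]
      exact hn
    · rw [← index_stabilizer]
      obtain ⟨n, hn⟩ := (hG.of_surjective _ MulAut.conj.rangeRestrict_surjective).index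
        (stabilizer (MulAut.conj : G →* MulAut G).range H)
      refine hn ▸ dvd_pow_self p (by
        rintro rfl
        refine hH.2 (normalizer_eq_top_iff.mp (eq_top_iff.mpr fun g _ =>
          BG.Amb.mem_normalizer_iff_conj.mpr ?_))
        exact (index_eq_one.mp hn ▸ mem_top _ :
          (⟨_, g, rfl⟩ : (MulAut.conj : G →* MulAut G).range) ∈ stabilizer _ H))
  rw [← Set.ncard_inter_add_ncard_sdiff_eq_ncard S {H | H.Normal}]
  exact ((Nat.modEq_iff_dvd' (Nat.le_add_right _ _)).mpr (by rw [Nat.add_sub_cancel_left]; exact h1))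

end Cfsg.Agent.FGS
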