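import Mathlib
import Cfsg.Agent.FGS.Basic2
import Cfsg.Agent.Core.Basic

/-! Minimal supplements to a normal subgroup. -/

set_option autoImplicit false

namespace Cfsg.Agent.FGS

open Subgroup Cfsg Cfsg.Agent
open scoped Pointwise

variable {G : Type*} [Group G] [Finite G]

theorem dvd_index_of_no_suppl {N : Subgroup G} [N.Normal] (h : ∀ K : Subgroup G, K ⊔ N = ⊤ → K = ⊤)
    {p : ℕ} (hp : p.Prime) (hd : p ∣ Nat.card G) : p ∣ N.index := by
  haveI := Fact.mk hp
  by_contra hn
  obtain ⟨P, hP⟩ := exists_sylow_le_of_not_dvd_index hn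
  have h1 := h _ (Sylow.normalizer_sup_eq_top' P hP)
  haveI : (P : Subgroup G).Normal := normalizer_eq_top_iff.mp h1
  obtain ⟨K, hK⟩ := exists_right_complement'_of_coprime P.card_coprime_index
  have h2 := h K (top_le_iff.mp (hK.symm.sup_eq_top ▸ sup_le_sup_left hP K))
  have h3 : (P : Subgroup G) = ⊥ := by simpa [h2] using hK.disjoint
  exact P.not_dvd_index (by rwa [h3, index_bot])

theorem exists_min_suppl (N : Subgroup G) [N.Normal] :
    ∃ H : Subgroup G, H ⊔ N = ⊤ ∧ (∀ K ≤ H, K ⊔ N = ⊤ → K = H) ∧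
      ∀ p : ℕ, p.Prime → p ∣ Nat.card H → p ∣ N.index := by
  obtain ⟨H, hH⟩ := exists_minimal_of_wellFoundedLT (fun H : Subgroup G => H ⊔ N = ⊤) ⟨⊤, top_sup_eq N⟩
  have hm : ∀ K ≤ H, K ⊔ N = ⊤ → K = H := fun K h1 h2 => le_antisymm h1 (hH.2 h2 h1)
  refine ⟨H, hH.1, hm, fun p hp hd => ?_⟩
  have h1 : p ∣ (N.subgroupOf H).index := dvd_index_of_no_suppl (fun K hK => by
    have h2 := congrArg (Subgroup.map H.subtype) hK
    rw [Subgroup.map_sup, subgroupOf_map_subtype, ← MonoidHom.range_eq_map, range_subtype] at h2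
    have h3 := hm (K.map H.subtype) (map_subtype_le K) (top_le_iff.mp (by
      rw [← hH.1]
      refine sup_le (h2.ge.trans (sup_le_sup_left inf_le_left _)) le_sup_right))
    exact map_injective H.subtype_injective (by
      rw [h3, ← MonoidHom.range_eq_map, range_subtype])) hp hd
  exact h1.trans (relIndex_dvd_index_of_normal N H)

end Cfsg.Agent.FGS
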