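import Mathlib
import Cfsg.Agent.FGS.SymSyl
import Cfsg.Agent.Max.Wr

set_option autoImplicit false

namespace Cfsg.Agent.FGS

open Subgroup Equiv
open scoped commutatorElement Pointwise

theorem viaEmbeddingHom_trans {α β : Type*} (ι : α ↪ β) (g : Perm β) (σ : Perm α) :
    Perm.viaEmbeddingHom (ι.trans g.toEmbedding) σ = g * Perm.viaEmbeddingHom ι σ * g⁻¹ := by
  rw [eq_mul_inv_iff_mul_eq]
  ext y
  by_cases hy : y ∈ Set.range ι
  · obtain ⟨x, rfl⟩ := hy
    exact (Perm.viaEmbedding_apply σ (ι.trans g.toEmbedding) x).trans (congrArg g (Perm.viaEmbedding_apply σ ι x).symm)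
  · refine (Perm.viaEmbedding_apply_of_notMem σ _ _ fun ⟨x, hx⟩ => hy ⟨x, g.injective hx⟩).trans
      (congrArg g (Perm.viaEmbedding_apply_of_notMem σ ι y hy).symm)

/-- the wreath model of a Sylow subgroup of a symmetric group -/
noncomputable def wrMod {α β C : Type*} [Group C] (ι : β × C ↪ α) (T : Subgroup (Perm β)) : Subgroup (Perm α) :=
  ((wrBase β C).range ⊔ T.map (wrTop β C)).map (Perm.viaEmbeddingHom ι)

theorem sylow_struct {α : Type*} [Finite α] {p : ℕ} [hp : Fact p.Prime] (P : Sylow p (Perm α)) {β : Type*} [Finite β]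
    (hβ : Nat.card β = Nat.card α / p) (T : Sylow p (Perm β)) :
    ∃ ι : β × Multiplicative (ZMod p) ↪ α, P = wrMod ι (T : Subgroup (Perm β)) := by
  obtain ⟨ι⟩ : Nonempty (β × Multiplicative (ZMod p) ↪ α) := by
    haveI := Fintype.ofFinite α
    haveI := Fintype.ofFinite β
    refine Function.Embedding.nonempty_of_card_le ?_
    rw [Fintype.card_prod, Fintype.card_multiplicative, ZMod.card, ← Nat.card_eq_fintype_card,
      ← Nat.card_eq_fintype_card, hβ]
    exact Nat.div_mul_le_self _ p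
  let P' : Sylow p (Perm α) := Sylow.ofCard (wrMod ι T) (by
    rw [wrMod, card_map_of_injective (Perm.viaEmbeddingHom_injective ι), card_wr, card_sylow_perm, Nat.card_perm,
      Nat.factorization_def _ hp.out, padicValNat_factorial_div p (Nat.card α), pow_add, hβ]
    simp)
  obtain ⟨g, rfl⟩ := MulAction.exists_smul_eq (Perm α) P' P
  refine ⟨ι.trans g.toEmbedding, ?_⟩
  rw [wrMod, show Perm.viaEmbeddingHom (ι.trans g.toEmbedding) = (MulAut.conj g).toMonoidHom.comp
    (Perm.viaEmbeddingHom ι) from MonoidHom.ext (viaEmbeddingHom_trans ι g), ← map_map]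
  rfl

section
variable {α β C : Type*} [Group C] [Finite β] [Finite C] {ι : β × C ↪ α} {T : Subgroup (Perm β)}

theorem mem_wrMod {g : Perm α} : g ∈ wrMod ι T ↔ ∃ f : β → C, ∃ σ ∈ T,
    (∀ i c, g (ι (i, c)) = ι (σ i, f i * c)) ∧ ∀ x, x ∉ Set.range ι → g x = x := by
  constructor
  · rintro ⟨x, hx, rfl⟩
    rw [SetLike.mem_coe, sup_comm] at hx
    obtain ⟨_, ⟨σ, hσ, rfl⟩, _, ⟨f, rfl⟩, rfl⟩ :=
      (Core.mem_sup_of_le_normalizer' ((map_le_range _ _).trans wrTop_le_normalizer)).mp hx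
    exact ⟨f, σ, hσ, fun i c => Perm.viaEmbedding_apply _ ι _, Perm.viaEmbedding_apply_of_notMem _ ι⟩
  · rintro ⟨f, σ, hσ, h1, h2⟩
    refine ⟨wrTop β C σ * wrBase β C f, mul_mem (mem_sup_right (mem_map_of_mem _ hσ)) (mem_sup_left ⟨f, rfl⟩),
      Equiv.ext fun x => ?_⟩
    by_cases hx : x ∈ Set.range ι
    · obtain ⟨⟨i, c⟩, rfl⟩ := hx
      exact (Perm.viaEmbedding_apply _ ι _).trans (h1 i c).symm
    · exact (Perm.viaEmbedding_apply_of_notMem _ ι x hx).trans (h2 x hx).symm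

end

/-- the two elements of the group of order two -/
abbrev C2 := Multiplicative (ZMod 2)

/-- the generator -/
def C2.t : C2 := Multiplicative.ofAdd 1

theorem C2.cases (c : C2) : c = 1 ∨ c = C2.t := by revert c; decide
theorem C2.t_ne : C2.t ≠ 1 := by decide
@[simp] theorem C2.t_mul : C2.t * C2.t = 1 := by decide

section
variable {α β : Type*} [Finite β] [DecidableEq α] {ι : β × C2 ↪ α} {T : Subgroup (Perm β)}

theorem swap_mem_wrMod (i : β) : swap (ι (i, 1)) (ι (i, C2.t)) ∈ wrMod ι T := by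
  classical
  refine mem_wrMod.mpr ⟨Pi.mulSingle i C2.t, 1, one_mem _, fun j c => ?_, fun x hx =>
    swap_apply_of_ne_of_ne (fun e => hx ⟨_, e.symm⟩) fun e => hx ⟨_, e.symm⟩⟩
  rw [ι.injective.swap_apply]
  by_cases h : j = i
  · subst h
    rcases c.cases with rfl | rfl <;> simp
  · rw [swap_apply_of_ne_of_ne (by simp [h]) (by simp [h])]
    simp [h]

theorem swap_mem_wrMod' (i : β) {c d : C2} (h : c ≠ d) : swap (ι (i, c)) (ι (i, d)) ∈ wrMod ι T := by
  rcases c.cases with rfl | rfl <;> rcases d.cases with rfl | rfl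
  exacts [absurd rfl h, swap_mem_wrMod i, swap_comm (ι (i, 1)) _ ▸ swap_mem_wrMod i, absurd rfl h]

end

variable {α : Type*} [Fintype α] [DecidableEq α]

omit [DecidableEq α] in
/-- a Sylow `2`-subgroup of even degree preserves a pairing -/
theorem exists_pairing (P : Sylow 2 (Perm α)) {β : Type*} [Finite β] (hβ : Nat.card α = 2 * Nat.card β)
    (T : Sylow 2 (Perm β)) : ∃ f : α → β, (∀ i, Nat.card {x // f x = i} = 2) ∧
      ∀ g ∈ (P : Subgroup (Perm α)), ∃ σ ∈ (T : Subgroup (Perm β)), ∀ x, f (g x) = σ (f x) := by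
  obtain ⟨ι, h⟩ := sylow_struct P (β := β) (by omega) T
  let e := Equiv.ofBijective ι ((Nat.bijective_iff_injective_and_card ι).mpr ⟨ι.injective, by rw [hβ, mul_comm]; simp⟩)
  refine ⟨fun x => (e.symm x).1, fun i => ?_, fun g hg => ?_⟩
  · rw [← Nat.card_congr (e.subtypeEquiv (p := fun y => y.1 = i) fun y => by simp)]
    rw [Nat.card_congr (⟨fun y => y.1.2, fun c => ⟨(i, c), rfl⟩, by rintro ⟨⟨_, _⟩, rfl⟩; rfl, fun _ => rfl⟩ :
      {y : β × C2 // y.1 = i} ≃ C2)]
    simp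
  · obtain ⟨f, σ, hσ, h1, -⟩ := mem_wrMod.mp (h ▸ hg)
    refine ⟨σ, hσ, fun x => ?_⟩
    obtain ⟨⟨i, c⟩, rfl⟩ := e.surjective x
    rw [show g (e (i, c)) = e (σ i, f i * c) from h1 i c]
    simp

omit [DecidableEq α] in
theorem card_fiber_comp {β γ : Type*} [Finite β] {f : α → β} {f' : β → γ} {a b : ℕ}
    (hf : ∀ i, Nat.card {x // f x = i} = a) (hf' : ∀ i, Nat.card {x // f' x = i} = b) (i : γ) :
    Nat.card {x // f' (f x) = i} = b * a := by
  haveI := Fintype.ofFinite {y // f' y = i}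
  rw [← Nat.card_congr (Equiv.sigmaSubtypeFiberEquivSubtype f (p := fun x => f' (f x) = i) (q := fun y => f' y = i)
    fun _ => Iff.rfl), Nat.card_sigma]
  simp only [hf, Finset.sum_const, smul_eq_mul, Finset.card_univ, ← Nat.card_eq_fintype_card, hf']

end Cfsg.Agent.FGS
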