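import Mathlib
import Cfsg.Agent.FGS.SymSyl2
import Cfsg.Agent.Max.SymIdx

set_option autoImplicit false

namespace Cfsg.Agent.FGS

open Subgroup Equiv MulAction
open scoped Pointwise

variable {α : Type*} [Fintype α] [DecidableEq α]

theorem card_dvd_card_inf_alt (H : Subgroup (Perm α)) [Nontrivial α] :
    Nat.card H ∣ Nat.card (H ⊓ alternatingGroup α : Subgroup _) * 2 := by
  rw [← Core.card_mul_relIndex (inf_le_left : H ⊓ alternatingGroup α ≤ H), inf_relIndex_left]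
  exact Nat.mul_dvd_mul_left _ ((relIndex_dvd_index_of_normal _ _).trans alternatingGroup.index_eq_two.dvd)

theorem alt_not_le_stab (h : 3 ≤ Nat.card α) {s : Set α} {x y : α} (hx : x ∈ s) (hy : y ∉ s) :
    ¬ alternatingGroup α ≤ stabilizer (Perm α) s := fun hle => by
  obtain ⟨g, hg⟩ := (alternatingGroup.isPretransitive_of_three_le_card α h).exists_smul_eq x y
  exact hy (hg ▸ (hle g.2).le (Set.smul_mem_smul_set hx))

theorem alt_le_of_stab {s : Set α} {x y : α} (hx : x ∈ s) (hy : y ∉ s) (h : Nat.card α ≠ 2 * s.ncard)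
    {M : Subgroup (Perm α)} (hM : stabilizer (Perm α) s ⊓ alternatingGroup α ≤ M) {g : Perm α} (hg : g ∈ M)
    (hA : g ∈ alternatingGroup α) (e : g x = y) : alternatingGroup α ≤ M := by
  refine subgroupOf_eq_top.mp ((alternatingGroup.isCoatom_stabilizer ⟨x, hx⟩ ⟨y, hy⟩ h).2 _
    (lt_of_le_of_ne (fun a ha => hM ⟨ha, a.2⟩) fun e' => hy ?_))
  exact e ▸ (show (⟨g, hA⟩ : alternatingGroup α) • s = s from e'.ge hg).le (Set.smul_mem_smul_set hx)

omit [Fintype α] [DecidableEq α] in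
theorem le_stab_orbit (P : Subgroup (Perm α)) (y : α) : P ≤ stabilizer (Perm α) (orbit P y) :=
  fun g hg => smul_orbit (⟨g, hg⟩ : P) y

theorem exists_even_PS {β : Type*} [Nontrivial β] {f : α → β} (hf : ∀ i, Nat.card {x // f x = i} = 2) {u v : α}
    (h : u ≠ v) : ∃ g ∈ Max.PS f ⊓ alternatingGroup α, g u = v ∧ (f u ≠ f v → ∀ w, f w ≠ f u → f w ≠ f v → g w = w) := by
  by_cases e : f u = f v
  · obtain ⟨i, hi⟩ := exists_ne (f u)
    obtain ⟨w, z, hw, hz, h1⟩ := Max.exists_pair_fib hf le_rfl i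
    refine ⟨_, Max.swap_mul_mem hf le_rfl e (hw.trans hz.symm) h h1, ?_, fun h => absurd e h⟩
    rw [Perm.mul_apply, swap_apply_of_ne_of_ne (x := u), swap_apply_left] <;> rintro rfl
    exacts [hi hw.symm, hi hz.symm]
  · obtain ⟨u', h1, h2, h3⟩ := Max.exists_partner hf u
    obtain ⟨v', h4, h5, h6⟩ := Max.exists_partner hf v
    refine ⟨_, Max.swap_blocks e h1 h2 h3 h4 h5 h6, ?_, fun _ w h7 h8 => ?_⟩
    · rw [Perm.mul_apply, swap_apply_of_ne_of_ne h2 fun e' => e (e' ▸ h4.symm), swap_apply_left]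
    · rw [Perm.mul_apply, swap_apply_of_ne_of_ne (x := w), swap_apply_of_ne_of_ne] <;> rintro rfl
      exacts [h7 rfl, h8 rfl, h7 h1.symm, h8 h4.symm]

theorem two_overgroups (P : Sylow 2 (Perm α)) (h5 : 5 ≤ Nat.card α) (h : ¬ ∃ k, 2 ≤ k ∧ Nat.card α = 2 ^ k + 1) :
    ∃ H K : Subgroup (Perm α), ↑P ≤ H ∧ ↑P ≤ K ∧ ¬ alternatingGroup α ≤ H ∧ ¬ alternatingGroup α ≤ K ∧
      alternatingGroup α ≤ H ⊓ alternatingGroup α ⊔ K ⊓ alternatingGroup α := by
  have ho : ∀ y : α, ∃ k, (orbit (P : Subgroup (Perm α)) y).ncard = 2 ^ k := fun y => P.isPGroup'.card_orbit y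
  rcases Nat.even_or_odd' (Nat.card α) with ⟨m, hm | hm⟩
  swap
  · obtain ⟨x, hx⟩ := P.isPGroup'.nonempty_fixed_point_of_prime_not_dvd_card α (by omega)
    haveI : Nontrivial α := Finite.one_lt_card_iff_nontrivial.mp (by omega)
    obtain ⟨y, hy⟩ := exists_ne x
    have h1 : x ∉ orbit (P : Subgroup (Perm α)) y := fun ⟨g, hg⟩ => hy (by rw [← inv_smul_smul g y, show g • y = x from hg]; exact hx _)
    obtain ⟨z, h2, h3⟩ : ∃ z, z ∉ orbit (P : Subgroup (Perm α)) y ∧ z ≠ x := by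
      by_contra! h2
      obtain ⟨k, hk⟩ := ho y
      rw [show orbit (P : Subgroup (Perm α)) y = {x}ᶜ from Set.ext fun z => ⟨fun hz e => h1 (e ▸ hz), fun hz => by_contra fun h => hz (h2 z h)⟩,
        Set.ncard_compl, Set.ncard_singleton] at hk
      refine h ⟨k, ?_, by omega⟩
      by_contra h3
      interval_cases k <;> omega
    obtain ⟨a, ha, b, hb, h4, h6⟩ := Finset.exists_ne_map_eq_of_card_lt_of_maps_to (s := {x, z}ᶜ)
      (t := (Finset.univ : Finset Prop)) (f := fun a => a ∈ orbit (P : Subgroup (Perm α)) y) (by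
        rw [Finset.card_compl, Finset.card_pair h3.symm, ← Nat.card_eq_fintype_card, Finset.card_univ,
          Fintype.card_prop]; omega)
      fun _ _ => Finset.mem_univ _
    simp only [Finset.mem_compl, Finset.mem_insert, Finset.mem_singleton, not_or] at ha hb
    have h8 : swap x z * swap a b ∈ stabilizer (Perm α) (orbit (P : Subgroup (Perm α)) y) :=
      mul_mem (swap_mem_stabilizer.mpr (iff_of_false h1 h2)) (swap_mem_stabilizer.mpr (iff_of_eq h6))
    have h7 : swap x z * swap a b ∈ alternatingGroup α := by simp [Perm.mem_alternatingGroup, h4, h3.symm]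
    refine ⟨stabilizer _ ({x} : Set α), stabilizer _ (orbit (P : Subgroup (Perm α)) y), fun g hg => ?_, le_stab_orbit _ y,
      alt_not_le_stab (s := {x}) (by omega) rfl hy, alt_not_le_stab (by omega) (mem_orbit_self y) h1,
      alt_le_of_stab (s := {x}) rfl h3 (by rw [Set.ncard_singleton]; omega) le_sup_left
        (mem_sup_right (mem_inf.mpr ⟨h8, h7⟩)) h7 ?_⟩
    · rw [mem_stabilizer_iff, Set.smul_set_singleton]
      exact congrArg _ (hx ⟨g, hg⟩)
    · rw [Perm.mul_apply, swap_apply_of_ne_of_ne (Ne.symm ha.1) (Ne.symm hb.1), swap_apply_left]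
  obtain ⟨T⟩ : Nonempty (Sylow 2 (Perm (Fin m))) := inferInstance
  obtain ⟨f, hf, h1⟩ := exists_pairing P (by rwa [Nat.card_fin]) T
  haveI : Nontrivial (Fin m) := Fin.nontrivial_iff_two_le.mpr (by omega)
  have h2 : ↑P ≤ Max.PS f := fun g hg => (h1 g hg).elim fun σ h => Max.mem_PS_of σ h.2
  have h3 : ¬ alternatingGroup α ≤ Max.PS f := fun hle => (Max.exists_not_mem_PS hf le_rfl).elim fun g h => h.2 (hle h.1)
  rcases Nat.even_or_odd' m with ⟨l, hl | hl⟩
  · obtain ⟨T'⟩ : Nonempty (Sylow 2 (Perm (Fin l))) := inferInstance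
    obtain ⟨f', hf', h4⟩ := exists_pairing T (by rwa [Nat.card_fin, Nat.card_fin]) T'
    haveI : Nontrivial (Fin l) := Fin.nontrivial_iff_two_le.mpr (by omega)
    have h6 := card_fiber_comp hf hf'
    refine ⟨Max.PS fun x => f' (f x), _, fun g hg => ?_, h2, fun hle =>
      (Max.exists_not_mem_PS h6 (by omega)).elim fun g h => h.2 (hle h.1), h3, ?_⟩
    · obtain ⟨σ, hσ, h7⟩ := h1 g hg
      obtain ⟨τ, -, h8⟩ := h4 σ hσ
      exact Max.mem_PS_of τ fun x => by rw [h7, h8]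
    obtain ⟨i, j, hij⟩ := exists_pair_ne (Fin l)
    obtain ⟨a, b, ha, hb, hab⟩ := Max.exists_pair_fib hf' le_rfl i
    obtain ⟨u, u', hu, hu', h7⟩ := Max.exists_pair_fib hf le_rfl a
    obtain ⟨w, hw, -⟩ := Max.exists_fib hf b ∅ (by simp)
    obtain ⟨v, hv, -⟩ := Max.exists_fib h6 j ∅ (by simp)
    subst hu hw ha
    obtain ⟨g, hg, h8, h9⟩ := exists_even_PS hf (u := u) (v := v) fun e => hij (e ▸ hv)
    have h10 := h9 (fun e => hij (e ▸ hv)) w hab.symm fun e => hij (hb ▸ e ▸ hv)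
    refine Perm.alternatingGroup_le_of_isPreprimitive_of_isThreeCycle_mem (Max.prim_alt h6 (by omega) (.inl (by omega))
      le_sup_left (mem_sup_right hg) fun h => hij ?_) (Perm.isThreeCycle_swap_mul_swap_same (a := u) (b := w) (c := u')
        (fun e => hab (e ▸ rfl)) h7 fun e => hab (e ▸ hu'.symm)) (mem_sup_left (Max.swap_mul_mem h6 (by omega) hb.symm
          (congrArg f' hu'.symm) (fun e => hab (e ▸ rfl)) h7))
    have : f' (f (g u)) = f' (f (g w)) := (h u w).mp hb.symm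
    rwa [h8, h10, hv, hb, eq_comm] at this
  · obtain ⟨y⟩ : Nonempty α := Finite.card_pos_iff.mp (by omega)
    obtain ⟨k, hk⟩ := ho y
    have h4 : ∀ j, Nat.card α ≠ 2 ^ j := fun j e => by
      rcases j with _ | _ | j
      · omega
      · omega
      · rw [pow_succ, pow_succ] at e; omega
    obtain ⟨z, hz⟩ := (Set.ne_univ_iff_exists_notMem (orbit (P : Subgroup (Perm α)) y)).mp fun e => h4 k (by rw [← hk, e, Set.ncard_univ])
    obtain ⟨g, hg, h6, -⟩ := exists_even_PS hf (u := y) (v := z) fun e => hz (e ▸ mem_orbit_self y)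
    exact ⟨_, _, le_stab_orbit _ y, h2, alt_not_le_stab (by omega) (mem_orbit_self y) hz, h3,
      alt_le_of_stab (s := orbit (P : Subgroup (Perm α)) y) (mem_orbit_self y) hz (by rw [hk, ← pow_succ']; exact h4 _) le_sup_left (mem_sup_right hg) hg.2 h6⟩

theorem unique_overgroup (P : Sylow 2 (Perm α)) {k : ℕ} (hk : 2 ≤ k) (h : Nat.card α = 2 ^ k + 1) :
    ∃ x : α, ↑P ≤ stabilizer (Perm α) x ∧ ∀ M : Subgroup (Perm α), ↑P ⊓ alternatingGroup α ≤ M →
      ¬ M ≤ stabilizer (Perm α) x → alternatingGroup α ≤ M := by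
  obtain ⟨k, rfl⟩ := Nat.exists_eq_add_of_le' hk
  obtain ⟨T⟩ : Nonempty (Sylow 2 (Perm (Fin (2 ^ (k + 1))))) := inferInstance
  obtain ⟨ι, hι⟩ := sylow_struct P (by rw [Nat.card_fin, h, pow_succ 2 (k + 1)]; omega) T
  obtain ⟨x, hx⟩ := Set.ncard_eq_one.mp (show (Set.range ι)ᶜ.ncard = 1 by
    rw [Set.ncard_compl, Set.ncard_range_of_injective ι.injective, h]; simp [pow_succ])
  have h1 : x ∉ Set.range ι := hx.ge rfl
  have h1' : ∀ y, ι y ≠ x := fun y e => h1 ⟨y, e⟩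
  have h2 : ∀ y, y ≠ x → ∃ i c, ι (i, c) = y := fun y hy => by
    by_contra! h2
    exact hy (hx.le fun ⟨z, e⟩ => h2 z.1 z.2 e)
  have hP : ∀ g ∈ (P : Subgroup (Perm α)), g x = x := fun g hg => by
    obtain ⟨-, -, -, -, h3⟩ := mem_wrMod.mp (hι ▸ hg)
    exact h3 x h1
  refine ⟨x, hP, fun M hM hMx => ?_⟩
  let t : Fin (2 ^ (k + 1)) → Perm α := fun i => swap (ι (i, 1)) (ι (i, C2.t))
  have ht : ∀ i, t i ∈ (P : Subgroup (Perm α)) := fun i => hι ▸ swap_mem_wrMod i
  have ht1 : ∀ i, Perm.sign (t i) = -1 := fun i => Perm.sign_swap (by simp [C2.t_ne.symm])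
  have ht2 : ∀ i j, t i * t j ∈ M := fun i j => hM ⟨mul_mem (ht i) (ht j), by simp [Perm.mem_alternatingGroup, ht1]⟩
  haveI : Nontrivial (Fin (2 ^ (k + 1))) := Fin.nontrivial_iff_two_le.mpr (by rw [pow_succ]; grind)
  have h3 : ∀ y z, y ≠ x → z ≠ x → ∃ g ∈ M, g x = x ∧ g y = z := fun y z hy hz => by
    obtain ⟨c, hc⟩ := (Perm.exists_with_cycleType_iff α (m := {2 ^ (k + 2)})).mpr
      ⟨by simp [← Nat.card_eq_fintype_card, h], by simp [pow_succ]; grind⟩
    obtain ⟨g, hg⟩ := exists_conj_mem_sylow P (k := k + 2) (x := c) (by rw [← c.lcm_cycleType, hc]; simp)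
    rw [← Perm.cycleType_conj (τ := g)] at hc
    generalize g * c * g⁻¹ = d at hc hg
    have h3 : d.support = {x}ᶜ := Finset.eq_of_subset_of_card_le (fun w hw => by
      rw [Finset.mem_compl, Finset.mem_singleton]
      rintro rfl
      exact Perm.mem_support.mp hw (hP d hg)) (by
        rw [← Perm.sum_cycleType, hc, Finset.card_compl, ← Nat.card_eq_fintype_card, h]; simp)
    obtain ⟨n, hn⟩ := (Perm.card_cycleType_eq_one.mp (by rw [hc]; rfl)).exists_pow_eq
      (Perm.mem_support.mp (h3.ge (by simpa using hy : y ∈ _))) (Perm.mem_support.mp (h3.ge (by simpa using hz : z ∈ _)))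
    rcases Int.units_eq_one_or (Perm.sign (d ^ n)) with h4 | h4
    · exact ⟨_, hM ⟨pow_mem hg n, h4⟩, hP _ (pow_mem hg n), hn⟩
    obtain ⟨i, c, rfl⟩ := h2 z hz
    obtain ⟨j, hj⟩ := exists_ne i
    refine ⟨_, hM ⟨mul_mem (ht j) (pow_mem hg n), by simp [Perm.mem_alternatingGroup, ht1, ← map_pow, h4]⟩,
      hP _ (mul_mem (ht j) (pow_mem hg n)), ?_⟩
    rw [Perm.mul_apply, hn]
    exact swap_apply_of_ne_of_ne (by simp [hj.symm]) (by simp [hj.symm])
  obtain ⟨g₀, hg₀, h4⟩ := SetLike.not_le_iff_exists.mp hMx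
  have h5 : ∀ y, ∃ g ∈ M, g y = x := fun y => by
    by_cases hy : y = x
    · exact ⟨1, one_mem _, hy⟩
    obtain ⟨g, hg, -, h5⟩ := h3 y (g₀⁻¹ x) hy fun e => h4 (Perm.inv_eq_iff_eq.mp e).symm
    exact ⟨g₀ * g, mul_mem hg₀ hg, by simp [h5]⟩
  have h6 : ∀ a b c, a ≠ b → c ≠ x → ∃ g ∈ M, g a = x ∧ g b = c := fun a b c hab hc => by
    obtain ⟨g, hg, h6⟩ := h5 a
    obtain ⟨g', hg', h7, h8⟩ := h3 (g b) c (fun e => hab (g.injective (h6.trans e.symm))) hc
    exact ⟨g' * g, mul_mem hg' hg, by simp [h6, h7], h8⟩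
  rcases Nat.eq_zero_or_pos k with rfl | hk0
  · haveI := alternatingGroup.isSimpleGroup (α := α) (by omega)
    haveI : Nontrivial α := Finite.one_lt_card_iff_nontrivial.mp (by omega)
    have h7 := Max.two_mul_card_alt (Ω := α) (by omega)
    by_contra h8
    have h9 := Max.le_index_of_simple (by omega) h7 (mt subgroupOf_eq_top.mp h8)
    have h10 := (M.subgroupOf (alternatingGroup α)).card_mul_index
    have h11 := (card_dvd_card_inf_alt (P : Subgroup (Perm α))).trans (Nat.mul_dvd_mul_right (card_dvd_of_le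
      (le_inf hM inf_le_right)) 2)
    haveI : IsPretransitive M α := ⟨fun a b => by
      obtain ⟨g, hg, e⟩ := h5 a
      obtain ⟨g', hg', e'⟩ := h5 b
      exact ⟨⟨g'⁻¹ * g, mul_mem (inv_mem hg') hg⟩, Perm.inv_eq_iff_eq.mpr (e.trans e'.symm)⟩⟩
    have h12 := ((index_stabilizer_of_transitive M x).symm.dvd.trans (index_dvd_card _)).trans (card_dvd_card_inf_alt M)
    rw [card_sylow_perm, h, show 2 ^ padicValNat 2 (Nat.factorial (2 ^ (0 + 2) + 1)) = 4 * 2 by decide +kernel,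
      Nat.mul_dvd_mul_iff_right two_pos] at h11
    rw [← inf_subgroupOf_right, Core.card_subgroupOf_of_le inf_le_right, inf_subgroupOf_right] at h10
    rw [h, show Nat.factorial (2 ^ (0 + 2) + 1) = 120 by decide] at h7
    rw [h] at h9 h12
    obtain ⟨c, hc⟩ := Nat.Coprime.mul_dvd_of_dvd_of_dvd (by decide) h11 (Nat.Coprime.dvd_of_dvd_mul_right (by decide) h12)
    rw [hc] at h10
    rcases c with _ | c
    · omega
    · have := Nat.mul_le_mul_left (4 * (2 ^ (0 + 2) + 1) * (c + 1)) h9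
      omega
  suffices ∃ c ∈ M, c.IsThreeCycle from this.elim fun c hc =>
    Perm.alternatingGroup_le_of_isPreprimitive_of_isThreeCycle_mem (isPreprimitive_of_is_two_pretransitive
      (is_two_pretransitive_iff.mpr fun {a b c d} hab hcd => by
        obtain ⟨g, hg, e1, e2⟩ := h6 a b (ι (0, 1)) hab (h1' _)
        obtain ⟨g', hg', e3, e4⟩ := h6 c d (ι (0, 1)) hcd (h1' _)
        exact ⟨⟨g'⁻¹ * g, mul_mem (inv_mem hg') hg⟩, Perm.inv_eq_iff_eq.mpr (e1.trans e3.symm),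
          Perm.inv_eq_iff_eq.mpr (e2.trans e4.symm)⟩)) hc.2 hc.1
  obtain ⟨g, hg, e1, e2⟩ := h6 (ι (0, 1)) (ι (0, C2.t)) (ι (0, 1)) (by simp [C2.t_ne.symm]) (h1' _)
  obtain ⟨l, hl⟩ := exists_ne (0 : Fin (2 ^ (k + 1)))
  obtain ⟨i₁, c₁, e3⟩ := h2 (g (ι (l, 1))) fun e => hl (by simpa using g.injective (e.trans e1.symm))
  obtain ⟨i₂, c₂, e4⟩ := h2 (g (ι (l, C2.t))) fun e => hl (by simpa using (congrArg Prod.fst
    (ι.injective (g.injective (e.trans e1.symm)))))
  obtain ⟨j, hj⟩ : ∃ j, j ∉ ({0, i₁, i₂} : Finset (Fin (2 ^ (k + 1)))) :=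
    (Finset.exists_mem_notMem_of_card_lt_card (t := Finset.univ) (by
      rw [Finset.card_fin]
      exact Finset.card_le_three.trans_lt (Nat.pow_le_pow_right two_pos (by omega : 2 ≤ k + 1)))).imp fun _ h => h.2
  simp only [Finset.mem_insert, Finset.mem_singleton, not_or] at hj
  have h7 : g * (t 0 * t l) * g⁻¹ = swap x (ι (0, 1)) * swap (ι (i₁, c₁)) (ι (i₂, c₂)) := by
    rw [← conj_mul, ← swap_apply_apply, ← swap_apply_apply, e1, e2, e3, e4]
  have h8 := mul_mem (mul_mem hg (ht2 0 l)) (inv_mem hg)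
  have h9 : ∀ y, swap (ι (i₁, c₁)) (ι (i₂, c₂)) y = y → y ≠ x → y ≠ ι (0, 1) → (g * (t 0 * t l) * g⁻¹) y = y :=
    fun y h1 h2 h3 => by rw [h7, Perm.mul_apply, h1, swap_apply_of_ne_of_ne h2 h3]
  have h10 : (g * (t 0 * t l) * g⁻¹) (ι (0, 1)) = x := by
    rw [h7, Perm.mul_apply, swap_apply_of_ne_of_ne (x := ι (0, 1)), swap_apply_right]
    · exact fun e => hl (congrArg Prod.fst (ι.injective (g.injective (e2.trans (e.trans e3))))).symm
    · exact fun e => hl (congrArg Prod.fst (ι.injective (g.injective (e2.trans (e.trans e4))))).symm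
  have h11 : (g * (t 0 * t l) * g⁻¹) x = ι (0, 1) := by
    rw [h7, Perm.mul_apply, swap_apply_of_ne_of_ne (h1' _).symm (h1' _).symm, swap_apply_left]
  generalize g * (t 0 * t l) * g⁻¹ = s at h8 h9 h10 h11
  have h12 : ∀ c, s (ι (j, c)) = ι (j, c) := fun c =>
    h9 _ (swap_apply_of_ne_of_ne (by simp [hj]) (by simp [hj])) (h1' _) (by simp [hj])
  have h13 := mul_mem (mul_mem (mul_mem h8 (ht2 0 j)) (inv_mem h8)) (ht2 j 0)
  rw [← conj_mul, ← swap_apply_apply, ← swap_apply_apply, h12, h12, h10, mul_assoc, swap_mul_self_mul] at h13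
  obtain ⟨i, c, e5⟩ := h2 (s (ι (0, C2.t))) fun e => C2.t_ne (by simpa using s.injective (e.trans h10.symm))
  have h14 := mul_mem h13 (ht2 0 i)
  rw [mul_assoc, swap_mul_self_mul, ← e5, show t i = swap (ι (i, c)) (ι (i, C2.t * c)) by
    rcases C2.cases c with rfl | rfl
    · simp [t]
    · simp [t, swap_comm], swap_comm] at h14
  exact ⟨_, h14, Perm.isThreeCycle_swap_mul_swap_same (h1' _) (by simp [C2.t_ne]) (h1' _).symm⟩

end Cfsg.Agent.FGS
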