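import Mathlib
import Cfsg.Agent.FGS.Basic2
import Cfsg.Agent.BG.AmbConj

/-!
# FGS/TI: trivial-intersection Sylow subgroups, direct-factor Sylow subgroups
-/

set_option autoImplicit false

open Subgroup
open scoped Pointwise

namespace Cfsg.Agent.FGS

variable {G : Type*} [Group G] [Finite G] {p : ℕ} [hp : Fact p.Prime]

theorem sylow_eq_of_ti (P : Sylow p G) (hTI : ∀ g : G, g ∉ normalizer ((P : Subgroup G) : Set G) →
    (P : Subgroup G) ⊓ (MulAut.conj g • (P : Subgroup G)) = ⊥) {P₁ P₂ : Sylow p G} {x : G}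
    (h1 : x ∈ P₁) (h2 : x ∈ P₂) (hx : x ≠ 1) : P₁ = P₂ := by
  obtain ⟨g, rfl⟩ := MulAction.exists_smul_eq G P P₁
  obtain ⟨h, rfl⟩ := MulAction.exists_smul_eq G P P₂
  by_cases hn : g⁻¹ * h ∈ normalizer ((P : Subgroup G) : Set G)
  · rw [eq_comm, ← inv_smul_eq_iff, ← mul_smul]
    exact Sylow.smul_eq_iff_mem_normalizer.mpr hn
  refine absurd ?_ hx
  have : g⁻¹ * x * g ∈ (P : Subgroup G) ⊓ (MulAut.conj (g⁻¹ * h) • (P : Subgroup G)) := by
    refine mem_inf.mpr ⟨mem_conj_iff.mp h1, mem_conj_iff.mpr ?_⟩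
    have := mem_conj_iff.mp h2
    simpa [mul_assoc] using this
  rw [hTI _ hn, mem_bot] at this
  calc x = g * (g⁻¹ * x * g) * g⁻¹ := by group
    _ = 1 := by rw [this]; group

omit [Finite G] hp in
theorem ti_of_sylow_eq (P : Sylow p G) (h : ∀ (Q : Sylow p G) (x : G), x ∈ P → x ∈ Q → x ≠ 1 → Q = P) :
    ∀ g : G, g ∉ normalizer ((P : Subgroup G) : Set G) →
    (P : Subgroup G) ⊓ (MulAut.conj g • (P : Subgroup G)) = ⊥ := fun g hg =>
  (eq_bot_iff_forall _).mpr fun x hx => by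
    by_contra h1
    exact hg (Sylow.smul_eq_iff_mem_normalizer.mp (h (g • P) x hx.1 hx.2 h1))

theorem exists_direct_factor_of_comm (h : ∀ x y : G, (∃ a : ℕ, orderOf x = p ^ a) →
    (∃ q b : ℕ, q.Prime ∧ q ≠ p ∧ orderOf y = q ^ b) → x * y = y * x) :
    ∃ (P : Sylow p G) (K : Subgroup G), (P : Subgroup G).Normal ∧ K.Normal ∧
      (P : Subgroup G) ⊓ K = ⊥ ∧ (P : Subgroup G) ⊔ K = ⊤ := by
  obtain ⟨P⟩ := Sylow.nonempty (p := p) (G := G)
  have h1 : ∀ (q : ℕ) (Q : Subgroup G), q.Prime → q ≠ p → IsPGroup q Q →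
      Q ≤ centralizer ((P : Subgroup G) : Set G) := fun q Q hq hne hQ y hy x hx => by
    have := Fact.mk hq
    obtain ⟨b, hb⟩ := exists_orderOf_eq_of_mem hQ hy
    exact h x y (exists_orderOf_eq_of_mem P.isPGroup' hx) ⟨q, b, hq, hne, hb⟩
  have hP : (P : Subgroup G).Normal := by
    refine normalizer_eq_top_iff.mp (top_le_iff.mp (Core.le_of_forall_isSylowOf_le _ _
      fun q hq _ => ?_))
    have := Fact.mk hq
    by_cases e : q = p
    · subst e
      exact ⟨P, Core.isSylowOf_top P, le_normalizer⟩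
    · obtain ⟨Q, hQ⟩ := Core.exists_isSylowOf q (⊤ : Subgroup G)
      exact ⟨Q, hQ, (h1 q Q hq e hQ.isPGroup).trans (centralizer_le_normalizer _)⟩
  obtain ⟨K, hK⟩ := exists_right_complement'_of_coprime P.card_coprime_index
  have h2 : K ≤ centralizer ((P : Subgroup G) : Set G) := Core.le_of_forall_isSylowOf_le _ _
    fun q hq hd => by
      have := Fact.mk hq
      obtain ⟨Q, hQ⟩ := Core.exists_isSylowOf q K
      refine ⟨Q, hQ, h1 q Q hq ?_ hQ.isPGroup⟩
      rintro rfl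
      exact P.not_dvd_index (hK.symm.index_eq_card ▸ hd)
  refine ⟨P, K, hP, normalizer_eq_top_iff.mp (top_le_iff.mp (hK.sup_eq_top ▸ sup_le ?_ le_normalizer)),
    hK.disjoint.eq_bot, hK.sup_eq_top⟩
  exact (le_centralizer_iff.mp h2).trans (centralizer_le_normalizer _)

theorem mem_of_direct_factor {P : Sylow p G} {K : Subgroup G} [K.Normal]
    (h : (P : Subgroup G) ⊔ K = ⊤) {y : G} (hy : (orderOf y).Coprime p) : y ∈ K := by
  obtain ⟨n, hn⟩ := IsPGroup.iff_card.mp P.isPGroup'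
  have h1 : K.index ∣ p ^ n := by
    rw [← relIndex_top_right, ← h, relIndex_sup_right, ← hn]
    exact relIndex_dvd_card _ _
  have h2 := K.pow_index_mem y
  obtain ⟨m, hm⟩ := exists_pow_eq_self_of_coprime (x := y) (n := K.index)
    ((hy.pow_right n).coprime_dvd_right h1).symm
  exact hm ▸ K.pow_mem h2 m

end Cfsg.Agent.FGS
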