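import Mathlib
import Cfsg.Agent.LocalEven.SylowIn
import Cfsg.Agent.FGS.Basic2

/-! Products of elements of order three when the Sylow 3-subgroups are abelian TI sets. -/

set_option autoImplicit false

namespace Cfsg.Agent.FGS

open Subgroup Cfsg.Agent.LocalEven

variable {G : Type*} [Group G]

/-- An abelian Sylow 3-subgroup whose normalizer contains the centralizers of its elements. -/
structure TL (T : Subgroup G) : Prop where
  syl : IsSylowIn 3 T ⊤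
  ab : T ≤ centralizer (T : Set G)
  loc : ∀ t ∈ T, t ≠ 1 → centralizer ({t} : Set G) ≤ normalizer (T : Set G)

instance fact3' : Fact (Nat.Prime 3) := ⟨Nat.prime_three⟩

variable {T : Subgroup G}

theorem TL.cj (h : TL T) (g : G) : TL (cj g T) := by
  refine ⟨h.syl.cj_of_mem (mem_top g), by rw [← cj_centralizer]; exact cj_mono g h.ab,
    fun t ht h1 => ?_⟩
  obtain ⟨y, hy, rfl⟩ := mem_cj'.1 ht
  rw [← cj_centralizer_singleton, ← cj_normalizer]
  exact cj_mono g (h.loc y hy (by rintro rfl; simp at h1))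

theorem TL.eq {T' : Subgroup G} (h : TL T) (h' : TL T') {t : G} (ht : t ∈ T) (ht' : t ∈ T')
    (h1 : t ≠ 1) : T' = T :=
  h'.syl.eq_of_le h.syl (h.syl.le_of_le_normalizer' le_top h'.syl.pgrp fun x hx =>
    h.loc t ht h1 (mem_centralizer_singleton_iff.2 (h'.ab hx t ht').symm))

theorem TL.ti (h : TL T) {t g : G} (ht : t ∈ T) (h1 : t ≠ 1) (hg : g * t * g⁻¹ ∈ T) :
    g ∈ normalizer (T : Set G) :=
  cj_eq_self_iff.1 (h.eq (h.cj g) hg (conj_mem_cj ht) (by simpa using h1))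

theorem TL.mem (h : TL T) {x : G} (hx : x ^ 3 = 1) (hn : x ∈ normalizer (T : Set G)) : x ∈ T :=
  h.syl.mem_of_mem_normalizer (mem_top x) (k := 1) (by simpa using hx) hn

theorem tri_aux {u v : G} (hu : u ^ 3 = 1) (hv : v ^ 3 = 1) (hw : (u * v) ^ 3 = 1) :
    Commute (u * v⁻¹) (v⁻¹ * u) ∧ u * (u * v⁻¹) * u⁻¹ = (u * v⁻¹ * (v⁻¹ * u))⁻¹ := by
  have e1 : u * u = u⁻¹ := by rw [eq_inv_iff_mul_eq_one, ← pow_three', hu]
  have e2 : v⁻¹ * v⁻¹ = v := by
    rw [← mul_inv_rev, inv_eq_iff_mul_eq_one, ← pow_three', hv]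
  have e3 : u * v * u = v⁻¹ * u⁻¹ * v⁻¹ := by
    rw [← mul_inv_rev, ← mul_inv_rev, eq_inv_iff_mul_eq_one, ← hw, pow_three']; group
  have e4 : u * v⁻¹ * (v⁻¹ * u) = u * v * u := by
    rw [mul_assoc, ← mul_assoc v⁻¹, e2, mul_assoc]
  refine ⟨?_, ?_⟩
  · change _ = _
    rw [e4, e3, ← e1]; group
  · rw [e4, ← mul_assoc, e1]; group

theorem tri_aux2 {a b : G} (c : Commute a b) (k : ℕ) :
    ((a * b⁻¹) ^ k)⁻¹ * ((a * b)⁻¹ * a⁻¹) ^ k = ((a ^ 3) ^ k)⁻¹ := by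
  rw [c.inv_right.mul_pow, ((Commute.refl a).mul_left c.symm).inv_inv.mul_pow, inv_pow, inv_pow,
    inv_pow, c.mul_pow, ← pow_mul, mul_comm 3, pow_mul]
  have := (c.pow_pow k k).inv_left.eq
  generalize a ^ k = A at this ⊢
  generalize b ^ k = B at this ⊢
  rw [mul_inv_rev, inv_inv, ← this]
  group

theorem TL.tri [Finite G] (h : TL T) {u v : G} (hu : u ^ 3 = 1) (hv : v ^ 3 = 1)
    (hT : u * v ∈ T) (hw : (u * v) ^ 3 = 1) (h1 : u * v ≠ 1) (hn : ¬ IsConj u v) :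
    u ∈ T ∧ v ∈ T := by
  obtain ⟨c1, c2⟩ := tri_aux hu hv hw
  set a := u * v⁻¹ with ha
  set b := v⁻¹ * u with hb
  have hab : u * b * u⁻¹ = a := by rw [ha, hb]; group
  by_cases h3 : 3 ∣ orderOf a
  · obtain ⟨k, hk⟩ := h3
    have k0 : 0 < k := Nat.pos_of_ne_zero (by rintro rfl; exact (orderOf_pos a).ne' hk)
    have a3 : (a ^ k) ^ 3 = 1 := by rw [← pow_mul, mul_comm, ← hk, pow_orderOf_eq_one]
    have a1 : a ^ k ≠ 1 := pow_ne_one_of_lt_orderOf k0.ne' (by omega)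
    obtain ⟨g, -, hg⟩ := h.syl.exists_conj_mem (mem_top (a ^ k)) (k := 1) (by simpa using a3)
    have h0 := h.cj g⁻¹
    rw [← mem_cj_inv] at hg
    have hk' : u * b ^ k * u⁻¹ = a ^ k := by rw [← hab, conj_pow]
    have b3 : (b ^ k) ^ 3 = 1 := by
      rw [← hk', conj_pow] at a3
      simpa using a3
    have m1 : b ^ k ∈ LocalEven.cj g⁻¹ T := h0.mem b3 (h0.loc _ hg a1
      (mem_centralizer_singleton_iff.2 (c1.symm.pow_pow k k).eq))
    have m2 : u ∈ LocalEven.cj g⁻¹ T := h0.mem hu (h0.ti m1 (by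
      rintro e; rw [e] at hk'; exact a1 (by simpa using hk'.symm)) (hk' ▸ hg))
    have m3 : a ∈ normalizer (LocalEven.cj g⁻¹ T : Set G) := h0.loc _ hg a1
      (mem_centralizer_singleton_iff.2 ((Commute.refl a).pow_right k).eq)
    have m4 : v ∈ LocalEven.cj g⁻¹ T := h0.mem hv (by
      have : v = a⁻¹ * u := by rw [ha]; group
      exact this ▸ mul_mem (inv_mem m3) (le_normalizer m2))
    have := h.eq h0 hT (mul_mem m2 m4) h1
    exact ⟨this ▸ m2, this ▸ m4⟩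
  · exfalso
    obtain ⟨k, hk⟩ := exists_pow_eq_self_of_coprime (x := a)
      ((Nat.Prime.coprime_iff_not_dvd Nat.prime_three).2 h3)
    refine hn (isConj_iff.2 ⟨((a * b⁻¹) ^ k)⁻¹, ?_⟩)
    have e1 : u * (a * b⁻¹) ^ k * u⁻¹ = ((a * b)⁻¹ * a⁻¹) ^ k := by
      rw [← conj_pow, ← c2, ← hab]; congr 1; group
    have e2 := tri_aux2 c1 k
    rw [hk, ← e1] at e2
    calc _ = ((a * b⁻¹) ^ k)⁻¹ * (u * (a * b⁻¹) ^ k * u⁻¹) * u := by group
      _ = v := by rw [e2, ha]; group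

end Cfsg.Agent.FGS
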