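import Mathlib
import Cfsg.Agent.FGS.Tri3
import Cfsg.Agent.Isaacs.Count

/-! An order bound from class multiplication on an abelian TI Sylow 3-subgroup. -/

set_option autoImplicit false

open scoped ComplexConjugate

namespace Cfsg.Agent.FGS

open Subgroup Cfsg.Agent.LocalEven Cfsg.Agent.Char

variable {G : Type*} [Group G] [Finite G] {T : Subgroup G}

theorem tsum2 (u c : G) : ∑ χ : IrrCharacter G, χ.1 u * conj (χ.1 c) =
    Nat.card {g : G // g * u * g⁻¹ = c} := by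
  have := Fintype.ofFinite G
  rw [Isaacs.card_fiber_eq_sum (fun g : G => g * u * g⁻¹)
    (fun h => ⟨Equiv.mulLeft h, fun i => by simp [mul_assoc]⟩) c, Finset.mul_sum]
  refine Finset.sum_congr rfl fun χ _ => ?_
  have h0 : (Nat.card G : ℂ) ≠ 0 := Nat.cast_ne_zero.2 Nat.card_pos.ne'
  simp only [isIrr_classFun χ.2 u, Finset.sum_const, Finset.card_univ, nsmul_eq_mul,
    ← Nat.card_eq_fintype_card]
  field_simp

theorem tsum3 (u v c : G) : Nat.card G * ∑ χ : IrrCharacter G, χ.1 u * χ.1 v * conj (χ.1 c) / χ.1 1 =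
    Nat.card {p : G × G // p.1 * u * p.1⁻¹ * (p.2 * v * p.2⁻¹) = c} := by
  have := Fintype.ofFinite G
  rw [Isaacs.card_fiber_eq_sum (fun p : G × G => p.1 * u * p.1⁻¹ * (p.2 * v * p.2⁻¹))
    (fun h => ⟨Equiv.prodCongr (Equiv.mulLeft h) (Equiv.mulLeft h), fun i => by simp [mul_assoc]⟩) c,
    Finset.mul_sum, Finset.mul_sum]
  refine Finset.sum_congr rfl fun χ _ => ?_
  have h0 : (Nat.card G : ℂ) ≠ 0 := Nat.cast_ne_zero.2 Nat.card_pos.ne'
  rw [Fintype.sum_prod_type_right]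
  simp only [isIrr_sum_conj_mul χ.2, isIrr_classFun χ.2 v, Finset.sum_const, Finset.card_univ,
    nsmul_eq_mul, ← Nat.card_eq_fintype_card]
  field_simp

theorem sum_card_fiber_le {ι : Type*} [Finite ι] (F : ι → G) (W : Finset G) (S : Set ι)
    (h : ∀ i, F i ∈ W → i ∈ S) : ∑ c ∈ W, Nat.card {i // F i = c} ≤ Nat.card S := by
  classical
  have := Fintype.ofFinite ι
  simp only [Nat.card_eq_fintype_card, Fintype.card_subtype]
  rw [← Finset.card_biUnion (fun a _ b _ hab => Finset.disjoint_filter.2 fun i _ h1 h2 =>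
    hab (h1.symm.trans h2))]
  refine Finset.card_le_card fun i hi => ?_
  simp only [Finset.mem_biUnion, Finset.mem_filter, Finset.mem_univ, true_and] at hi ⊢
  obtain ⟨c, hc, rfl⟩ := hi
  exact h i hc

theorem fix_mono {χ : G → ℂ} (h : IsCharacter G χ) {A B : Subgroup G} [Fintype A] [Fintype B]
    (hle : A ≤ B) : ∃ m n : ℕ, n ≤ m ∧ ∑ a : A, χ a = Nat.card A * m ∧
      ∑ b : B, χ b = Nat.card B * n := by
  obtain ⟨k, ρ, rfl⟩ := h
  have e : ∀ (C : Subgroup G) [Fintype C], ∑ a : C, ρ.character a = Nat.card C *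
      Module.finrank ℂ (Representation.invariants (ρ.comp C.subtype)) := fun C _ => by
    rw [← classInner_character_one, card_mul_classInner]
    simp [Representation.character]
  refine ⟨_, _, Submodule.finrank_mono fun v hv a => ?_, e A, e B⟩
  exact (Representation.mem_invariants _ _).1 hv ⟨a, hle a.2⟩

theorem sum_zpowers_three {u : G} (hu : orderOf u = 3) (f : G → ℂ) [Fintype (zpowers u)] :
    ∑ a : zpowers u, f a = f 1 + f u + f u⁻¹ := by
  classical
  have h3 : u ^ 3 = 1 := hu ▸ pow_orderOf_eq_one u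
  have e : u⁻¹ = u ^ 2 := by rw [inv_eq_iff_mul_eq_one, ← pow_succ', h3]
  rw [← (finEquivZPowers (isOfFinOrder_of_finite u)).sum_comp (fun a => f a), e]
  have : ∀ n, orderOf u = n → ∑ i : Fin (orderOf u), f (u ^ (i : ℕ)) =
      ∑ i : Fin n, f (u ^ (i : ℕ)) := by rintro n rfl; rfl
  simp only [finEquivZPowers_apply]
  rw [this 3 hu, Fin.sum_univ_three]
  simp

/-- The sum of the values of a character on a set. -/
noncomputable def sX (U : Finset G) (χ : IrrCharacter G) : ℝ := (∑ u ∈ U, χ.1 u).re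

/-- The degree. -/
noncomputable def dX (χ : IrrCharacter G) : ℝ := (χ.1 1).re

theorem sum_inv_eq {U : Finset G} (hU : ∀ u ∈ U, u⁻¹ ∈ U) (f : G → ℂ) :
    ∑ u ∈ U, f u⁻¹ = ∑ u ∈ U, f u :=
  Finset.sum_bij' (fun u _ => u⁻¹) (fun u _ => u⁻¹) hU hU (by simp) (by simp) (by simp)

theorem coe_sX {U : Finset G} (hU : ∀ u ∈ U, u⁻¹ ∈ U) (χ : IrrCharacter G) :
    (sX U χ : ℂ) = ∑ u ∈ U, χ.1 u := by
  refine Complex.conj_eq_iff_re.1 ?_
  rw [map_sum, ← sum_inv_eq hU]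
  exact Finset.sum_congr rfl fun u _ => by rw [isIrr_inv χ.2, Complex.conj_conj]

theorem coe_dX (χ : IrrCharacter G) : (dX χ : ℂ) = χ.1 1 ∧ 1 ≤ dX χ := by
  obtain ⟨n, h0, -, hn⟩ := isIrr_degree' χ.2
  simp only [dX, hn, Complex.natCast_re, Complex.ofReal_natCast, true_and]
  exact_mod_cast h0

theorem abs_sX_le (U : Finset G) (χ : IrrCharacter G) : |sX U χ| ≤ U.card * dX χ := by
  refine (Complex.abs_re_le_norm _).trans ((norm_sum_le _ _).trans ?_)
  rw [← nsmul_eq_mul]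
  exact Finset.sum_le_card_nsmul _ _ _ fun u _ => isChar_norm_le_re (isIrr_isChar χ.2) u

theorem sum_sX_mul {U V : Finset G} (hU : ∀ u ∈ U, u⁻¹ ∈ U) (hV : ∀ u ∈ V, u⁻¹ ∈ V) :
    ∑ χ, sX U χ * sX V χ = ∑ u ∈ U, ∑ v ∈ V, (Nat.card {g : G // g * u * g⁻¹ = v} : ℝ) := by
  refine Complex.ofReal_injective ?_
  push_cast
  simp only [← tsum2]
  rw [Finset.sum_congr rfl fun u _ => Finset.sum_comm, Finset.sum_comm]
  refine Finset.sum_congr rfl fun χ _ => ?_
  rw [← Complex.conj_ofReal (sX V χ), coe_sX hU, coe_sX hV, map_sum, Finset.sum_mul_sum]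

theorem sum_sX_three {U V W : Finset G} (hU : ∀ u ∈ U, u⁻¹ ∈ U) (hV : ∀ u ∈ V, u⁻¹ ∈ V)
    (hW : ∀ u ∈ W, u⁻¹ ∈ W) :
    Nat.card G * ∑ χ, sX U χ * sX V χ * sX W χ / dX χ = ∑ u ∈ U, ∑ v ∈ V, ∑ c ∈ W,
      (Nat.card {p : G × G // p.1 * u * p.1⁻¹ * (p.2 * v * p.2⁻¹) = c} : ℝ) := by
  refine Complex.ofReal_injective ?_
  push_cast
  simp only [← tsum3, ← Finset.mul_sum]
  congr 1
  rw [Finset.sum_congr rfl fun u _ => Finset.sum_congr rfl fun v _ => Finset.sum_comm,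
    Finset.sum_congr rfl fun u _ => Finset.sum_comm, Finset.sum_comm]
  refine Finset.sum_congr rfl fun χ _ => ?_
  rw [← Complex.conj_ofReal (sX W χ), coe_sX hU, coe_sX hV, coe_sX hW, map_sum, (coe_dX χ).1,
    Finset.sum_mul_sum, Finset.sum_mul, Finset.sum_div]
  refine Finset.sum_congr rfl fun u _ => ?_
  rw [Finset.sum_mul_sum, Finset.sum_div]
  exact Finset.sum_congr rfl fun v _ => Finset.sum_div ..

/-- A partition of the non-identity elements of `T` in two unfused sets. -/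
structure Par (T : Subgroup G) (U V : Finset G) : Prop where
  tl : TL T
  cube : ∀ t ∈ T, t ^ 3 = 1
  mem : ∀ t, (t ∈ U ∨ t ∈ V) ↔ t ∈ T ∧ t ≠ 1
  nc : ∀ u ∈ U, ∀ v ∈ V, ¬ IsConj u v
  invU : ∀ u ∈ U, u⁻¹ ∈ U
  invV : ∀ u ∈ V, u⁻¹ ∈ V

variable {U V : Finset G}

omit [Finite G] in
theorem Par.symm (h : Par T U V) : Par T V U :=
  ⟨h.tl, h.cube, fun t => or_comm.trans (h.mem t), fun u hu v hv e => h.nc v hv u hu e.symm,
    h.invV, h.invU⟩

omit [Finite G] in
theorem Par.disj (h : Par T U V) : Disjoint U V :=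
  Finset.disjoint_left.2 fun u hu hv => h.nc u hu u hv (IsConj.refl u)

theorem Par.sum (h : Par T U V) [Fintype T] (χ : IrrCharacter G) :
    ∑ t : T, χ.1 t = ((dX χ + sX U χ + sX V χ : ℝ) : ℂ) := by
  classical
  push_cast
  rw [(coe_dX χ).1, coe_sX h.invU, coe_sX h.invV, add_assoc, ← Finset.sum_union h.disj,
    ← Finset.sum_insert (s := U ∪ V) (fun e => ((h.mem 1).1 (Finset.mem_union.1 e)).2 rfl)]
  refine (Finset.sum_subtype _ (fun t => ?_) _).symm
  rw [Finset.mem_insert, Finset.mem_union, h.mem]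
  by_cases e : t = 1 <;> simp [e]

theorem Par.nonneg (h : Par T U V) (χ : IrrCharacter G) : 0 ≤ dX χ + sX U χ + sX V χ := by
  have := Fintype.ofFinite T
  obtain ⟨-, n, -, -, hn⟩ := fix_mono (isIrr_isChar χ.2) (le_refl T)
  rw [h.sum] at hn
  have : dX χ + sX U χ + sX V χ = Nat.card T * n := by exact_mod_cast hn
  rw [this]; positivity

theorem Par.mono (h : Par T U V) (χ : IrrCharacter G) :
    3 * U.card * (dX χ + sX U χ + sX V χ) ≤ Nat.card T * (U.card * dX χ + 2 * sX U χ) := by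
  have := Fintype.ofFinite T
  have key : ∀ u ∈ U, 3 * (dX χ + sX U χ + sX V χ) ≤
      Nat.card T * (dX χ + (χ.1 u).re + (χ.1 u⁻¹).re) := fun u hu => by
    have := Fintype.ofFinite (zpowers u)
    obtain ⟨h1, h2⟩ := (h.mem u).1 (Or.inl hu)
    have ho : orderOf u = 3 := orderOf_eq_prime (h.cube u h1) h2
    obtain ⟨m, n, hle, hm, hn⟩ := fix_mono (isIrr_isChar χ.2) (zpowers_le.2 h1)
    rw [h.sum] at hn
    rw [sum_zpowers_three ho, Nat.card_zpowers, ho] at hm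
    have e1 : dX χ + sX U χ + sX V χ = Nat.card T * n := by exact_mod_cast hn
    have e2 : dX χ + (χ.1 u).re + (χ.1 u⁻¹).re = 3 * m := by simpa [dX] using congrArg Complex.re hm
    have e3 : (n : ℝ) ≤ m := by exact_mod_cast hle
    rw [e1, e2]
    have : (0 : ℝ) ≤ Nat.card T := by positivity
    nlinarith
  have h1 := Finset.sum_le_sum key
  have h2 : ∑ u ∈ U, (χ.1 u⁻¹).re = sX U χ := by
    rw [sX, ← sum_inv_eq h.invU, Complex.re_sum]
  have h3 : ∑ u ∈ U, (χ.1 u).re = sX U χ := by rw [sX, Complex.re_sum]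
  simp only [Finset.sum_const, nsmul_eq_mul, ← Finset.mul_sum, Finset.sum_add_distrib, h2, h3] at h1
  linarith

theorem Par.sq_le (h : Par T U V) : ∑ χ, sX U χ * sX U χ ≤
    U.card * Nat.card (normalizer (T : Set G)) := by
  rw [sum_sX_mul h.invU h.invU, ← nsmul_eq_mul]
  refine Finset.sum_le_card_nsmul _ _ _ fun u hu => ?_
  obtain ⟨h1, h2⟩ := (h.mem u).1 (Or.inl hu)
  exact_mod_cast sum_card_fiber_le (fun g : G => g * u * g⁻¹) U (normalizer (T : Set G) : Subgroup G)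
    fun g hg => h.tl.ti h1 h2 ((h.mem _).1 (Or.inl hg)).1

theorem Par.mul_eq (h : Par T U V) : ∑ χ, sX U χ * sX V χ = 0 := by
  rw [sum_sX_mul h.invU h.invV]
  refine Finset.sum_eq_zero fun u hu => Finset.sum_eq_zero fun v hv => ?_
  have : IsEmpty {g : G // g * u * g⁻¹ = v} := ⟨fun g => h.nc u hu v hv (isConj_iff.2 ⟨g, g.2⟩)⟩
  simp

theorem TL.three_mem (h : TL T) (h3 : ∀ t ∈ T, t ^ 3 = 1) {u v a b : G} (hu : u ∈ T) (u1 : u ≠ 1)
    (hv : v ∈ T) (v1 : v ≠ 1) (hn : ¬ IsConj u v) (hc : a * u * a⁻¹ * (b * v * b⁻¹) ∈ T)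
    (h1 : a * u * a⁻¹ * (b * v * b⁻¹) ≠ 1) :
    a ∈ normalizer (T : Set G) ∧ b ∈ normalizer (T : Set G) := by
  obtain ⟨h4, h5⟩ := h.tri (by rw [conj_pow, h3 u hu]; simp) (by rw [conj_pow, h3 v hv]; simp) hc
    (h3 _ hc) h1 fun e => hn (((isConj_iff.2 ⟨a, rfl⟩).trans e).trans (isConj_iff.2 ⟨b, rfl⟩).symm)
  exact ⟨h.ti hu u1 h4, h.ti hv v1 h5⟩

theorem Par.three_le (h : Par T U V) :
    Nat.card G * ∑ χ, sX U χ * sX V χ * (sX U χ + sX V χ) / dX χ ≤
      U.card * (V.card * (Nat.card (normalizer (T : Set G)) : ℝ) ^ 2) := by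
  classical
  have e : ∀ χ, sX U χ + sX V χ = sX (U ∪ V) χ := fun χ => by
    rw [sX, sX, sX, Finset.sum_union h.disj, Complex.add_re]
  simp only [e]
  rw [sum_sX_three h.invU h.invV (fun u hu => by
    rw [Finset.mem_union] at hu ⊢
    exact hu.imp (h.invU u) (h.invV u)), ← nsmul_eq_mul, ← nsmul_eq_mul]
  refine Finset.sum_le_card_nsmul _ _ _ fun u hu => Finset.sum_le_card_nsmul _ _ _ fun v hv => ?_
  obtain ⟨h1, h2⟩ := (h.mem u).1 (Or.inl hu)
  obtain ⟨h3, h4⟩ := (h.mem v).1 (Or.inr hv)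
  have := sum_card_fiber_le (fun p : G × G => p.1 * u * p.1⁻¹ * (p.2 * v * p.2⁻¹)) (U ∪ V)
    ((normalizer (T : Set G) : Subgroup G) ×ˢ (normalizer (T : Set G) : Subgroup G)) fun p hp => by
      obtain ⟨h5, h6⟩ := (h.mem _).1 (Finset.mem_union.1 hp)
      exact h.tl.three_mem h.cube h1 h2 h3 h4 (h.nc u hu v hv) h5 h6
  rw [Nat.card_congr (Equiv.Set.prod _ _), Nat.card_prod, ← pow_two] at this
  exact_mod_cast this

theorem Par.bound (h : Par T U V) {u v n t α β γ : ℝ} (hu : U.card = u) (hv : V.card = v)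
    (hn : Nat.card (normalizer (T : Set G)) = n) (ht : Nat.card T = t) (hα : 0 ≤ α) (hβ : 0 ≤ β)
    (hterm : ∀ D A B : ℝ, 1 ≤ D → 0 ≤ D + A + B → 3 * u * (D + A + B) ≤ t * (u * D + 2 * A) →
      3 * v * (D + B + A) ≤ t * (v * D + 2 * B) → |A| ≤ u * D → |B| ≤ v * D →
      0 ≤ A * B * (A + B) + D * (α * (A * A) + β * (B * B) + γ * (A * B))) :
    Nat.card G * (u * v * (u + v) + α * (u * u - u * n) + β * (v * v - v * n) + γ * (u * v)) ≤
      u * (v * n ^ 2) := by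
  have h1 := h.three_le
  have h2 := h.sq_le
  have h3 := h.symm.sq_le
  have h4 := h.mul_eq
  subst hu hv hn ht
  refine le_trans (mul_le_mul_of_nonneg_left ?_ (by positivity)) h1
  have key := Finset.single_le_sum (s := Finset.univ) (f := fun χ : IrrCharacter G =>
    sX U χ * sX V χ * (sX U χ + sX V χ) / dX χ + (α * (sX U χ * sX U χ) + β * (sX V χ * sX V χ) +
      γ * (sX U χ * sX V χ))) (fun χ _ => by
      have h0 := (coe_dX χ).2
      have := hterm _ _ _ h0 (h.nonneg χ) (h.mono χ) (h.symm.mono χ)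
        (abs_sX_le U χ) (abs_sX_le V χ)
      rw [div_add' _ _ _ (by linarith)]
      exact div_nonneg (by linarith) (by linarith)) (Finset.mem_univ ⟨fun _ => 1, isIrr_one⟩)
  simp only [Finset.sum_add_distrib, ← Finset.mul_sum, h4] at key
  simp only [sX, dX, Finset.sum_const, nsmul_eq_mul, mul_one, Complex.natCast_re, Complex.one_re,
    div_one] at key h2 h3 ⊢
  nlinarith [mul_le_mul_of_nonneg_left h2 hα, mul_le_mul_of_nonneg_left h3 hβ]

end Cfsg.Agent.FGS
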