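import Mathlib
import Cfsg.Agent.FGS.Tri3b
import Cfsg.Agent.Perm.Small

/-! Counting in groups with an abelian TI Sylow 3-subgroup. -/

set_option autoImplicit false

namespace Cfsg.Agent.FGS

open Subgroup Cfsg.Agent.LocalEven

variable {G : Type*} [Group G] [Finite G] {T : Subgroup G}

theorem TL.card_mod (h : TL T) :
    (normalizer (T : Set G)).index ≡ 1 [MOD Nat.card T] := by
  obtain ⟨P, rfl⟩ := h.syl.exists_sylow_top
  refine P.card_eq_index_normalizer ▸ Perm.card_sylow_modEq_of_dvd P fun Q hQ => ?_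
  obtain ⟨g, -, hg⟩ := h.syl.conj (isSylowIn_top Q)
  have : (Q : Subgroup G) ⊓ P = ⊥ := by
    refine (eq_bot_iff_forall _).2 fun t ht => by_contra fun h1 => hQ (Sylow.ext ?_)
    exact h.eq (hg ▸ h.cj g) ht.2 ht.1 h1
  rw [← inf_relIndex_right, this, relIndex_bot_left]

/-- The conjugates of `x ∈ T` inside `T` are counted by the normalizer. -/
theorem TL.card_conj (h : TL T) {x : G} (hx : x ∈ T) (h1 : x ≠ 1) :
    Nat.card {y // y ∈ T ∧ IsConj x y} * Nat.card (centralizer ({x} : Set G)) =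
      Nat.card (normalizer (T : Set G)) := by
  classical
  have e : ∀ y : {y // y ∈ T ∧ IsConj x y}, ∃ g : G, g * x * g⁻¹ = y := fun y => isConj_iff.1 y.2.2
  choose c hc using e
  rw [← Nat.card_prod]
  refine Nat.card_congr (Equiv.ofBijective (fun p => ⟨c p.1 * p.2, ?_⟩) ⟨?_, ?_⟩)
  · exact mul_mem (h.ti hx h1 (hc p.1 ▸ p.1.2.1)) (h.loc x hx h1 p.2.2)
  · rintro ⟨y, a⟩ ⟨z, b⟩ e
    have e' : c y * a = c z * b := congrArg Subtype.val e
    have k : ∀ (y : {y // y ∈ T ∧ IsConj x y}) (a : centralizer ({x} : Set G)),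
        c y * a * x * (c y * a)⁻¹ = y := fun y a => by
      rw [← hc y, mul_assoc (c y), mem_centralizer_singleton_iff.1 a.2]; group
    obtain rfl : y = z := Subtype.ext (by rw [← k y a, e', k])
    rw [Subtype.ext (mul_left_cancel e')]
  · rintro ⟨g, hg⟩
    let y : {y // y ∈ T ∧ IsConj x y} :=
      ⟨g * x * g⁻¹, (mem_normalizer_iff.1 hg x).1 hx, isConj_iff.2 ⟨g, rfl⟩⟩
    refine ⟨⟨y, (c y)⁻¹ * g, mem_centralizer_singleton_iff.2 ?_⟩, Subtype.ext (by simp)⟩
    have : c y * x * (c y)⁻¹ = g * x * g⁻¹ := hc y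
    calc _ = (c y)⁻¹ * (g * x * g⁻¹) * g := by group
      _ = _ := by rw [← this]; group

end Cfsg.Agent.FGS
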