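import Mathlib
import Cfsg.Agent.LocalEven.SylowIn

/-! If every 2-element is 2-central then the Sylow 2-subgroups are abelian. -/

set_option autoImplicit false

namespace Cfsg.Agent.FGS

open Subgroup Cfsg.Agent.LocalEven

universe u

variable {G : Type*} [Group G] [Finite G]

theorem top_power_central {f : ℕ} (hexp : ∀ (x : G) (k : ℕ), x ^ 2 ^ k = 1 → x ^ 2 ^ (f + 1) = 1) {T Q : Subgroup G}
    (hT : IsSylowIn 2 T ⊤) {x : G} (hx : T ≤ centralizer {x}) (hx2 : x ^ 2 ^ (f + 1) = 1) (hQ : IsPGroup 2 Q)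
    (ha : x ^ 2 ^ f ∈ Q) : Q ≤ centralizer {x ^ 2 ^ f} := by
  classical
  have : Fact (Nat.Prime 2) := ⟨Nat.prime_two⟩
  have hTa : T ≤ centralizer {x ^ 2 ^ f} := fun y hy => mem_centralizer_singleton_iff.mpr
    (Commute.pow_right (mem_centralizer_singleton_iff.mp (hx hy)) _)
  have haa : x ^ 2 ^ f * x ^ 2 ^ f = 1 := by rw [← pow_two, ← pow_mul, ← pow_succ, hx2]
  generalize e : x ^ 2 ^ f = a at ha hTa haa
  by_contra h0
  obtain ⟨s, hs, hsn, hs'⟩ := exists_mem_normalizer_of_lt hQ (inf_lt_left.mpr h0)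
  have h1 : ∃ j, s ^ 2 ^ j ∈ Q ⊓ centralizer {a} := (isPGroup_iff_mem.mp hQ s hs).imp fun k hk => by rw [hk]; exact one_mem _
  obtain ⟨j, hj⟩ := Nat.exists_eq_succ_of_ne_zero (n := Nat.find h1) fun e => hs' (by have := Nat.find_spec h1; rwa [e, pow_zero, pow_one] at this)
  have t1 := Nat.find_min h1 (m := j) (by omega)
  have t2 := Nat.find_spec h1
  rw [hj, pow_succ, pow_mul, pow_two] at t2
  have t3 := pow_mem hs (2 ^ j)
  have t4 := pow_mem hsn (2 ^ j)
  generalize s ^ 2 ^ j = t at t1 t2 t3 t4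
  have t5 : Commute (t * t) a := mem_centralizer_singleton_iff.mp t2.2
  have b1 : Commute (t * a * t⁻¹) a := mem_centralizer_singleton_iff.mp
    (conj_mem_of_mem_normalizer t4 ⟨ha, mem_centralizer_singleton_iff.mpr rfl⟩).2
  set K := centralizer {a} ⊓ centralizer {t * a * t⁻¹}
  have k1 : t ∈ normalizer (K : Set G) := cj_eq_self_iff.mp (by
    rw [cj_inf, cj_centralizer_singleton, cj_centralizer_singleton, inf_comm,
      show t * (t * a * t⁻¹) * t⁻¹ = a from Eq.trans (by group) t5.mul_inv_cancel])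
  obtain ⟨k, hk⟩ := isPGroup_iff_mem.mp hQ t t3
  obtain ⟨P, hP, hP'⟩ := exists_isSylowIn_le (isPGroup_zpowers hk) (zpowers_le.mpr k1)
  have tP := hP' (mem_zpowers t)
  have hR := hP.inf_of_le_normalizer le_normalizer le_rfl
  obtain ⟨c, hc, hc'⟩ := (hT.mono hTa le_top).exists_le_cj hR.pgrp (hR.le.trans inf_le_left)
  have x1 : ∀ r ∈ P ⊓ K, Commute r (c * x * c⁻¹) := fun r hr => mem_centralizer_singleton_iff.mp
    ((cj_centralizer_singleton c x).le (cj_mono c hx (hc' hr)))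
  have x2 : (c * x * c⁻¹) ^ 2 ^ f = a := by
    rw [conj_pow, e, mem_centralizer_singleton_iff.mp hc, mul_inv_cancel_right]
  have x3 : (c * x * c⁻¹) ^ 2 ^ (f + 1) = 1 := by rw [conj_pow, hx2]; group
  generalize c * x * c⁻¹ = y at x1 x2 x3
  have b2 : t * a * t⁻¹ ∈ P ⊓ K := hR.mem_of_mem_normalizer (k := 1) ⟨mem_centralizer_singleton_iff.mpr b1,
    mem_centralizer_singleton_iff.mpr rfl⟩ (by rw [pow_one, conj_pow, pow_two, haa]; group)
    (centralizer_le_normalizer _ fun r hr => mem_centralizer_singleton_iff.mp hr.2.2)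
  have y1 : y ∈ P ⊓ K := hR.mem_of_mem_normalizer ⟨mem_centralizer_singleton_iff.mpr (x2 ▸ Commute.self_pow y _),
    mem_centralizer_singleton_iff.mpr (x1 _ b2).symm⟩ x3 (centralizer_le_normalizer _ x1)
  have y2 := x1 _ ⟨P.mul_mem (mul_mem tP y1.1) (inv_mem tP), conj_mem_of_mem_normalizer k1 y1.2⟩
  have y3 := x1 (t * t) ⟨mul_mem tP tP, t2.2, mem_centralizer_singleton_iff.mpr (by
    calc t * t * (t * a * t⁻¹) = t * (t * t * a) * t⁻¹ := by group
      _ = _ := by rw [t5.eq]; group)⟩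
  have y4 : Commute (t * y * t⁻¹) (t * t) := by
    calc t * y * t⁻¹ * (t * t) = t * (y * (t * t)) * t⁻¹ := by group
      _ = _ := by rw [← y3.eq]; group
  obtain ⟨m, hm⟩ := isPGroup_iff_mem.mp hP.pgrp _ (mul_mem tP y1.1)
  have y5 := hexp _ _ hm
  have y6 := hexp _ _ hk
  rw [pow_succ', pow_mul, pow_two] at y5 y6
  rw [show t * y * (t * y) = t * y * t⁻¹ * (t * t) * y by group, (y2.mul_left y3).mul_pow, y4.mul_pow, y6, conj_pow, x2,
    mul_one, ← haa, mul_left_inj, mul_inv_eq_iff_eq_mul] at y5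
  exact t1 ⟨t3, mem_centralizer_singleton_iff.mpr y5⟩

theorem fuse_centralizer {p : ℕ} [Fact p.Prime] {S B : Subgroup G} (hS : IsSylowIn p S ⊤) (hB : IsPGroup p B) {x g : G}
    (hx : B ≤ centralizer {x}) (hg : g * x * g⁻¹ ∈ centralizer (S : Set G)) : ∃ n, cj n B ≤ S ∧ n * x * n⁻¹ = g * x * g⁻¹ := by
  obtain ⟨c, hc, h⟩ := (hS.mono (K := centralizer {g * x * g⁻¹}) (fun s hs => mem_centralizer_singleton_iff.mpr (hg s hs))
    le_top).exists_cj_le (isPGroup_cj g hB) ((cj_mono g hx).trans (cj_centralizer_singleton g x).le)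
  refine ⟨c * g, by rwa [cj_mul], ?_⟩
  calc _ = c * (g * x * g⁻¹) * c⁻¹ := by group
    _ = _ := by rw [mem_centralizer_singleton_iff.mp hc, mul_inv_cancel_right]

theorem two_central_aux (n : ℕ) : ∀ (G : Type u) [Group G] [Finite G], Nat.card G = n → ∀ S : Subgroup G, IsSylowIn 2 S ⊤ →
    (∀ x ∈ S, ∃ g, g * x * g⁻¹ ∈ centralizer (S : Set G)) → S ≤ centralizer (S : Set G) := by
  classical
  induction n using Nat.strong_induction_on with
  | _ n ih =>
  intro G _ _ hn S hS h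
  have : Fact (Nat.Prime 2) := ⟨Nat.prime_two⟩
  have h0 : ∀ x ∈ S, ∃ g, g * x * g⁻¹ ∈ S ⊓ centralizer (S : Set G) := fun x hx => (h x hx).imp fun g hg => by
    obtain ⟨k, hk⟩ := isPGroup_iff_mem.mp hS.pgrp x hx
    exact ⟨hS.mem_of_mem_normalizer (k := k) (mem_top _) (by rw [conj_pow, hk]; group) (centralizer_le_normalizer _ hg), hg⟩
  have h1 : ∃ e, ∀ x ∈ S, x ^ 2 ^ e = 1 := ⟨_, fun x hx => by
    rw [← hS.card_eq]; exact congrArg Subtype.val (pow_card_eq_one' (x := (⟨x, hx⟩ : S)))⟩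
  by_cases e0 : Nat.find h1 = 0
  · exact fun x hx => (by simpa [e0] using Nat.find_spec h1 x hx : x = 1) ▸ one_mem _
  obtain ⟨f, hf⟩ := Nat.exists_eq_succ_of_ne_zero e0
  have h2 := Nat.find_spec h1
  have h3 := Nat.find_min h1 (m := f) (by omega)
  rw [hf] at h2
  have hexp : ∀ (x : G) (k : ℕ), x ^ 2 ^ k = 1 → x ^ 2 ^ (f + 1) = 1 := fun x k hk => by
    obtain ⟨g, -, hg⟩ := hS.exists_conj_mem (mem_top x) hk
    simpa [conj_pow] using h2 _ hg
  let A : Subgroup G :=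
    { carrier := {a | ∃ x ∈ S ⊓ centralizer (S : Set G), x ^ 2 ^ f = a}
      one_mem' := ⟨1, one_mem _, one_pow _⟩
      mul_mem' := by
        rintro _ _ ⟨x, hx, rfl⟩ ⟨y, hy, rfl⟩
        exact ⟨x * y, mul_mem hx hy, Commute.mul_pow (hy.2 x hx.1) _⟩
      inv_mem' := by
        rintro _ ⟨x, hx, rfl⟩
        exact ⟨x⁻¹, inv_mem hx, inv_pow _ _⟩ }
  have a1 : A ≤ S ⊓ centralizer (S : Set G) := by
    rintro _ ⟨x, hx, rfl⟩
    exact pow_mem hx _
  have nZ : normalizer (S : Set G) ≤ normalizer ((S ⊓ centralizer (S : Set G) : Subgroup G) : Set G) :=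
    le_normalizer_inf le_rfl (le_normalizer_centralizer le_rfl)
  have a2 : ∀ a ∈ A, ∀ g, g * a * g⁻¹ ∈ S → g * a * g⁻¹ ∈ A := by
    rintro _ ⟨x, hx, rfl⟩ g hg
    have b1 : S ≤ centralizer {x} := fun s hs => mem_centralizer_singleton_iff.mpr (hx.2 s hs)
    rw [← conj_pow] at hg
    have := top_power_central hexp (cj_top g ▸ hS.cj g) ((cj_mono g b1).trans (cj_centralizer_singleton g x).le)
      (by rw [conj_pow, h2 x hx.1]; group) hS.pgrp hg
    obtain ⟨m, hm, e⟩ := fuse_centralizer hS hS.pgrp (x := x ^ 2 ^ f) (g := g)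
      (fun s hs => mem_centralizer_singleton_iff.mpr (pow_mem hx.2 _ s hs))
      fun s hs => by rw [← conj_pow]; exact mem_centralizer_singleton_iff.mp (this hs)
    exact ⟨_, conj_mem_of_mem_normalizer (nZ (mem_normalizer_of_cj_le hm)) hx, by rw [conj_pow, e]⟩
  have a3 : ∀ x ∈ S, ∃ g ∈ normalizer (A : Set G), g * x * g⁻¹ ∈ centralizer (S : Set G) := fun x hx => by
    obtain ⟨g, hg⟩ := h x hx
    obtain ⟨m, hm, e⟩ := fuse_centralizer hS (hS.pgrp.to_le (a1.trans inf_le_left))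
      (fun a ha => mem_centralizer_singleton_iff.mpr ((a1 ha).2 x hx).symm) hg
    exact ⟨m, mem_normalizer_of_cj_le (cj_le_iff'.mpr fun a ha => a2 a ha m (hm (conj_mem_cj ha))), e ▸ hg⟩
  by_cases hN : normalizer (A : Set G) = ⊤
  · have := normalizer_eq_top_iff.mp hN
    have a4 : A ≠ ⊥ := fun e => h3 fun x hx => by
      obtain ⟨g, hg⟩ := h0 x hx
      simpa [conj_pow] using (e.le ⟨_, hg, rfl⟩ : (g * x * g⁻¹) ^ 2 ^ f ∈ ⊥)
    have hS' := map_top_of_surjective _ (QuotientGroup.mk'_surjective A) ▸ hS.map (QuotientGroup.mk' A)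
    have a5 : ∀ z ∈ centralizer (S : Set G), QuotientGroup.mk' A z ∈ centralizer (S.map (QuotientGroup.mk' A) : Set (G ⧸ A)) := by
      rintro z hz _ ⟨s, hs, rfl⟩
      rw [← map_mul, hz s hs, map_mul]
    have a6 := ih _ (by
      rw [← hn, card_eq_card_quotient_mul_card_subgroup A]
      exact lt_mul_of_one_lt_right Nat.card_pos (A.one_lt_card_iff_ne_bot.mpr a4)) (G ⧸ A) rfl _ hS' (by
      rintro _ ⟨x, hx, rfl⟩
      obtain ⟨g, hg⟩ := h x hx
      exact ⟨QuotientGroup.mk' A g, a5 _ hg⟩)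
    intro x hx
    obtain ⟨g, hg⟩ := h0 x hx
    obtain ⟨m, hm, e⟩ := fuse_centralizer hS' hS'.pgrp (x := QuotientGroup.mk' A x) (g := QuotientGroup.mk' A g)
      (fun s hs => mem_centralizer_singleton_iff.mpr (a6 ⟨x, hx, rfl⟩ s hs)) (a5 _ hg.2)
    obtain ⟨m, rfl⟩ := QuotientGroup.mk'_surjective A m
    have a7 : ∀ y z : G, QuotientGroup.mk' A y = QuotientGroup.mk' A z → ∀ K, A ≤ K → z ∈ K → y ∈ K := fun y z e K hK hz => by
      simpa using mul_mem hz (hK (QuotientGroup.eq.mp e.symm))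
    have a8 : m ∈ normalizer (S : Set G) := mem_normalizer_of_cj_le (cj_le_iff'.mpr fun s hs => by
      obtain ⟨z, hz, e⟩ := hm (conj_mem_cj ⟨s, hs, rfl⟩)
      exact a7 _ _ e.symm _ (a1.trans inf_le_left) hz)
    exact ((mem_normalizer_iff.mp (nZ a8) x).mpr (a7 _ _ e _ a1 hg)).2
  · have hle : S ≤ normalizer (A : Set G) := fun s hs => centralizer_le_normalizer _ fun a ha => ((a1 ha).2 s hs).symm
    have := ih _ (hn ▸ Finite.card_subtype_lt (SetLike.exists_of_lt (lt_top_iff_ne_top.mpr hN)).choose_spec.2)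
      (normalizer (A : Set G)) rfl (S.subgroupOf _) (by simpa using (hS.mono hle le_top).subgroupOf le_rfl) fun x hx => by
        obtain ⟨g, hg, e⟩ := a3 x hx
        exact ⟨⟨g, hg⟩, fun s hs => Subtype.ext (e s hs)⟩
    exact fun x hx s hs => congrArg Subtype.val (this (x := ⟨x, hle hx⟩) hx ⟨s, hle hs⟩ hs)

theorem comm_of_two_central (P : Sylow 2 G)
    (h : ∀ x : G, (∃ k : ℕ, orderOf x = 2 ^ k) → ∃ Q : Sylow 2 G, (Q : Subgroup G) ≤ centralizer {x}) :
    IsMulCommutative (P : Subgroup G) := by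
  have : Fact (Nat.Prime 2) := ⟨Nat.prime_two⟩
  refine le_centralizer_iff_isMulCommutative.mp (two_central_aux _ G rfl _ (isSylowIn_top P) fun x hx => ?_)
  obtain ⟨Q, hQ⟩ := h x (by simpa using IsPGroup.iff_orderOf.mp P.2 ⟨x, hx⟩)
  obtain ⟨g, -, e⟩ := (isSylowIn_top Q).conj (isSylowIn_top P)
  exact ⟨g, fun s hs => mem_centralizer_singleton_iff.mp ((cj_centralizer_singleton g x).le (cj_mono g hQ (e.ge hs)))⟩

end Cfsg.Agent.FGS
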